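import Cfsg.Agent.Lib.OddOrder14.Upstream
import Cfsg.Agent.Lib.OddOrder.SigmaBasic
import Cfsg.Agent.Lib.OddOrder.Transitivity
import Cfsg.Agent.Lib.Frobenius.Structure

/-!
# Bender-Glauberman section 14: elementary preliminaries

* elements: `exists_orderOf_eq`, `exists_pi_decomp`
* Hall subgroups inside a subgroup: `exists_hallOf`, `exists_hallOf_ge`, `hallOf_conj`, `hallOf_sub`,
  `hallOf_trans`, `hallOf_of_card`, `le_hallOf_normal`
* `sigmaCore`: `sigmaCore_le`, `le_normalizer_sigmaCore`, `le_sigmaCore`, `sigma_conj`, `sigmaCore_conj`,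
  `normalizer_eq_of_normal`, `mem_sigmaCore_of_pi`, `sigmaCore_ne_bot`
* complements of `sigmaCore`: `exists_compl_ge`, `compl_hall`, `compl_of_hall`, `exists_conj_mem_compl`
* the partition of the primes: `alpha_subset_sigma`, `tau_cases`, `mem_kappa_of_centralizes`,
  `kappa_subset_tau`, `isCyclic_of_rank_one`
-/

set_option autoImplicit false
set_option linter.unusedSectionVars false

open scoped Pointwise

universe u

namespace Cfsg.Agent.OddOrder14

open Cfsg.Agent.Solvable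

variable {G : Type u} [Group G] [Finite G]

section Elements

theorem map_conj_eq (g : G) (H : Subgroup G) :
    H.map (MulAut.conj g).toMonoidHom = MulAut.conj g • H := rfl

theorem dvd_card_of_mem {H : Subgroup G} {x : G} (hx : x ∈ H) {p : ℕ} (hp : p ∣ orderOf x) :
    p ∣ Nat.card H :=
  hp.trans (Subgroup.orderOf_dvd_natCard H hx)

/-- For every prime divisor of the order of `x` a power of `x` has that order. -/
theorem exists_orderOf_eq {x : G} {p : ℕ} (hp : p ∣ orderOf x) :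
    ∃ y ∈ Subgroup.zpowers x, orderOf y = p := by
  refine ⟨x ^ (orderOf x / p), Subgroup.npow_mem_zpowers x _, ?_⟩
  exact orderOf_pow_orderOf_div (orderOf_pos x).ne' hp

theorem exists_prime_orderOf {x : G} (hx : x ≠ 1) :
    ∃ p : ℕ, p.Prime ∧ p ∣ orderOf x ∧ ∃ y ∈ Subgroup.zpowers x, orderOf y = p := by
  obtain ⟨p, hp, hd⟩ := Nat.exists_prime_and_dvd (mt orderOf_eq_one_iff.1 hx)
  exact ⟨p, hp, hd, exists_orderOf_eq hd⟩

theorem ne_one_of_orderOf {x : G} {p : ℕ} (hp : p.Prime) (hx : orderOf x = p) : x ≠ 1 := by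
  rintro rfl
  rw [orderOf_one] at hx
  exact hp.ne_one hx.symm

theorem zpowers_ne_bot {x : G} {p : ℕ} (hp : p.Prime) (hx : orderOf x = p) :
    Subgroup.zpowers x ≠ ⊥ :=
  fun h => ne_one_of_orderOf hp hx (Subgroup.zpowers_eq_bot.1 h)

theorem card_zpowers' {x : G} {p : ℕ} (hx : orderOf x = p) : Nat.card (Subgroup.zpowers x) = p :=
  (Nat.card_zpowers x).trans hx

theorem centralizer_zpowers_eq (x : G) :
    Subgroup.centralizer (Subgroup.zpowers x : Set G) = Subgroup.centralizer ({x} : Set G) := by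
  rw [Subgroup.zpowers_eq_closure, Subgroup.centralizer_closure]

theorem centralizer_le_of_mem_zpowers {x y : G} (hy : y ∈ Subgroup.zpowers x) :
    Subgroup.centralizer ({x} : Set G) ≤ Subgroup.centralizer ({y} : Set G) := by
  rw [← centralizer_zpowers_eq x, ← centralizer_zpowers_eq y]
  exact Subgroup.centralizer_le (Subgroup.zpowers_le.2 hy)

/-- A subgroup of prime order is generated by any of its non-identity elements. -/
theorem zpowers_eq_of_prime_card {X : Subgroup G} (hX : (Nat.card X).Prime) {x : G} (hx : x ∈ X)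
    (hx1 : x ≠ 1) : Subgroup.zpowers x = X := by
  have := Fact.mk hX
  refine Subgroup.eq_of_le_of_card_ge (Subgroup.zpowers_le.2 hx) ?_
  rcases (Nat.dvd_prime hX).1 (Subgroup.card_dvd_of_le (Subgroup.zpowers_le.2 hx)) with h | h
  · exact absurd (Subgroup.zpowers_eq_bot.1 (Subgroup.card_eq_one.1 h)) hx1
  · exact h.ge

theorem orderOf_of_prime_card {X : Subgroup G} (hX : (Nat.card X).Prime) {x : G} (hx : x ∈ X)
    (hx1 : x ≠ 1) : orderOf x = Nat.card X := by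
  rw [← Nat.card_zpowers, zpowers_eq_of_prime_card hX hx hx1]

theorem exists_ne_one_of_card_prime {X : Subgroup G} (hX : (Nat.card X).Prime) :
    ∃ x ∈ X, x ≠ 1 := by
  refine X.bot_or_exists_ne_one.resolve_left fun h => hX.ne_one ?_
  rw [h, Subgroup.card_bot]

/-- The `π`-part and the `π'`-part of an element. -/
theorem exists_pi_decomp (π : Set ℕ) (x : G) :
    ∃ a ∈ Subgroup.zpowers x, ∃ b ∈ Subgroup.zpowers x, a * b = x ∧
      IsPiNum π (orderOf a) ∧ IsPiNum πᶜ (orderOf b) := by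
  have : Group.IsSolvable ↥(Subgroup.zpowers x) := inferInstance
  obtain ⟨A, hA⟩ := exists_piHall_of_solvable (G := ↥(Subgroup.zpowers x)) π
  rw [isPiHall_iff] at hA
  have hmk : Nat.card A * A.index = orderOf x := (A.card_mul_index).trans (Nat.card_zpowers x)
  set m := Nat.card A with hm
  set k := A.index with hk
  have hcop : Int.gcd (k : ℤ) (m : ℤ) = 1 := by
    rw [Int.gcd_natCast_natCast]; exact (hA.1.coprime hA.2).symm
  obtain ⟨s, t, hst⟩ := Int.isCoprime_iff_gcd_eq_one.2 hcop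
  refine ⟨x ^ ((k : ℤ) * s), Subgroup.zpow_mem _ (Subgroup.mem_zpowers x) _, x ^ ((m : ℤ) * t),
    Subgroup.zpow_mem _ (Subgroup.mem_zpowers x) _, ?_, ?_, ?_⟩
  · rw [← zpow_add, show (k : ℤ) * s + (m : ℤ) * t = 1 by linarith, zpow_one]
  · refine hA.1.of_dvd (orderOf_dvd_of_pow_eq_one ?_)
    rw [← zpow_natCast, ← zpow_mul, show (k : ℤ) * s * m = ((m * k : ℕ) : ℤ) * s by push_cast; ring,
      zpow_mul, zpow_natCast, hmk, pow_orderOf_eq_one, one_zpow]
  · refine hA.2.of_dvd (orderOf_dvd_of_pow_eq_one ?_)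
    rw [← zpow_natCast, ← zpow_mul, show (m : ℤ) * t * k = ((m * k : ℕ) : ℤ) * t by push_cast; ring,
      zpow_mul, zpow_natCast, hmk, pow_orderOf_eq_one, one_zpow]

theorem commute_of_mem_zpowers {x a b : G} (ha : a ∈ Subgroup.zpowers x)
    (hb : b ∈ Subgroup.zpowers x) : a * b = b * a := by
  obtain ⟨i, rfl⟩ := Subgroup.mem_zpowers_iff.1 ha
  obtain ⟨j, rfl⟩ := Subgroup.mem_zpowers_iff.1 hb
  exact ((Commute.refl x).zpow_zpow i j).eq

theorem eq_one_of_isPiNum {π : Set ℕ} {x : G} (h : IsPiNum π (orderOf x))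
    (h' : IsPiNum πᶜ (orderOf x)) : x = 1 :=
  orderOf_eq_one_iff.1 (h.eq_one h')

theorem isPiNum_orderOf {π : Set ℕ} {H : Subgroup G} (h : IsPiNum π (Nat.card H)) {x : G}
    (hx : x ∈ H) : IsPiNum π (orderOf x) :=
  h.of_dvd (Subgroup.orderOf_dvd_natCard H hx)

theorem inf_eq_bot_of_pi {π : Set ℕ} {A B : Subgroup G} (hA : IsPiNum π (Nat.card A))
    (hB : IsPiNum πᶜ (Nat.card B)) : A ⊓ B = ⊥ :=
  Solvable.inf_eq_bot_of_coprime (hA.coprime hB)

theorem isPiNum_of_card_prime {π : Set ℕ} {X : Subgroup G} {p : ℕ} (hp : p.Prime)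
    (hX : Nat.card X = p) (hπ : p ∈ π) : IsPiNum π (Nat.card X) := by
  simpa [hX] using isPiNum_pow hp hπ 1

theorem isPGroup_of_card_prime {X : Subgroup G} {p : ℕ} (hX : Nat.card X = p) : IsPGroup p X :=
  IsPGroup.of_card (n := 1) (by rw [hX, pow_one])

theorem zpowers_sigma_pi {π : Set ℕ} {x : G} (h : IsPiNum π (orderOf x)) :
    IsPiNum π (Nat.card (Subgroup.zpowers x)) := by
  rwa [Nat.card_zpowers]

end Elements

section Hall

variable {π ρ : Set ℕ} {M H K L : Subgroup G}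

theorem hallOf_card_pi (h : Cfsg.IsPiHallOf π H M) : IsPiNum π (Nat.card H) := h.2.1

theorem hallOf_relIndex_pi (h : Cfsg.IsPiHallOf π H M) : IsPiNum πᶜ (H.relIndex M) :=
  fun p hp hd hπ => h.2.2 p hp hπ hd

theorem hallOf_of_card (h : Cfsg.IsPiHallOf π H M) (hK : K ≤ M) (hc : Nat.card K = Nat.card H) :
    Cfsg.IsPiHallOf π K M := by
  refine ⟨hK, hc ▸ h.2.1, ?_⟩
  have h1 := Subgroup.relIndex_mul_relIndex ⊥ K M bot_le hK
  have h2 := Subgroup.relIndex_mul_relIndex ⊥ H M bot_le h.1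
  simp only [Subgroup.relIndex_bot_left] at h1 h2
  rw [hc, ← h2] at h1
  rw [Nat.eq_of_mul_eq_mul_left Nat.card_pos h1]
  exact h.2.2

theorem exists_hallOf (hM : Group.IsSolvable M) (π : Set ℕ) :
    ∃ H : Subgroup G, Cfsg.IsPiHallOf π H M := by
  obtain ⟨H, hH⟩ := exists_piHall_of_solvable (G := M) π
  exact ⟨_, isPiHallOf_map_subtype hH⟩

theorem exists_hallOf_ge (hM : Group.IsSolvable M) {U : Subgroup G} (hU : U ≤ M)
    (hUπ : IsPiNum π (Nat.card U)) : ∃ H : Subgroup G, Cfsg.IsPiHallOf π H M ∧ U ≤ H := by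
  obtain ⟨H, hH, hUH⟩ := exists_piHall_ge_of_solvable (G := M) (π := π) (U := U.subgroupOf M)
    (by rwa [Cores.card_subgroupOf hU])
  refine ⟨_, isPiHallOf_map_subtype hH, ?_⟩
  rw [← Subgroup.map_subgroupOf_eq_of_le hU]
  exact Subgroup.map_mono hUH

theorem hallOf_conj_ge (hM : Group.IsSolvable M) (hH : Cfsg.IsPiHallOf π H M) {U : Subgroup G}
    (hU : U ≤ M) (hUπ : IsPiNum π (Nat.card U)) : ∃ m ∈ M, U ≤ MulAut.conj m • H := by
  obtain ⟨m, hm⟩ := exists_conj_ge_of_solvable (isPiHall_subgroupOf hH)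
    (U := U.subgroupOf M) (by rwa [Cores.card_subgroupOf hU])
  refine ⟨(m : G), m.2, ?_⟩
  have := Subgroup.map_mono (f := M.subtype) hm
  rw [map_conj, Subgroup.map_subgroupOf_eq_of_le hU, Subgroup.map_subgroupOf_eq_of_le hH.1] at this
  exact this

theorem hallOf_eq_of_le (hH : Cfsg.IsPiHallOf π H M) (hle : H ≤ K) (hK : K ≤ M)
    (hKπ : IsPiNum π (Nat.card K)) : H = K := by
  refine le_antisymm hle (Subgroup.relIndex_eq_one.1 ?_)
  refine (hKπ.of_dvd (H.relIndex_dvd_card K)).eq_one ((hallOf_relIndex_pi hH).of_dvd ?_)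
  exact ⟨_, (Subgroup.relIndex_mul_relIndex H K M hle hK).symm⟩

theorem hallOf_conj (hM : Group.IsSolvable M) (hH : Cfsg.IsPiHallOf π H M)
    (hK : Cfsg.IsPiHallOf π K M) : ∃ m ∈ M, MulAut.conj m • H = K := by
  obtain ⟨m, hm, hle⟩ := hallOf_conj_ge hM hH hK.1 hK.2.1
  refine ⟨m, hm, (hallOf_eq_of_le hK hle ?_ ?_).symm⟩
  · rw [← conj_eq_self hm]; exact conj_mono m hH.1
  · rw [card_conj]; exact hH.2.1

theorem hallOf_card_eq (hM : Group.IsSolvable M) (hH : Cfsg.IsPiHallOf π H M)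
    (hK : Cfsg.IsPiHallOf π K M) : Nat.card H = Nat.card K := by
  obtain ⟨m, -, rfl⟩ := hallOf_conj hM hH hK
  rw [card_conj]

theorem hallOf_conj_smul (hH : Cfsg.IsPiHallOf π H M) {m : G} (hm : m ∈ M) :
    Cfsg.IsPiHallOf π (MulAut.conj m • H) M :=
  hallOf_of_card hH (by rw [← conj_eq_self hm]; exact conj_mono m hH.1) (card_conj m H)

theorem hallOf_sub (hH : Cfsg.IsPiHallOf π H M) (hHL : H ≤ L) (hLM : L ≤ M) :
    Cfsg.IsPiHallOf π H L :=
  ⟨hHL, hH.2.1, fun p hp hπ hd => hH.2.2 p hp hπ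
    (hd.trans ⟨_, (Subgroup.relIndex_mul_relIndex H L M hHL hLM).symm⟩)⟩

theorem hallOf_trans (hH : Cfsg.IsPiHallOf π H L) (hL : Cfsg.IsPiHallOf ρ L M)
    (hsub : ∀ p : ℕ, p.Prime → p ∈ π → p ∣ L.relIndex M → p ∈ ρ) : Cfsg.IsPiHallOf π H M := by
  refine ⟨hH.1.trans hL.1, hH.2.1, fun p hp hπ hd => ?_⟩
  rw [← Subgroup.relIndex_mul_relIndex H L M hH.1 hL.1] at hd
  rcases hp.dvd_mul.1 hd with h | h
  · exact hH.2.2 p hp hπ h
  · exact hL.2.2 p hp (hsub p hp hπ h) h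

/-- A normal `π`-subgroup of `M` lies in every Hall `π`-subgroup. -/
theorem le_hallOf_normal (hH : Cfsg.IsPiHallOf π H M) {N : Subgroup G} (hN : N ≤ M)
    (hn : M ≤ Subgroup.normalizer (N : Set G)) (hπ : IsPiNum π (Nat.card N)) : N ≤ H := by
  have := Subgroup.normal_subgroupOf_of_le_normalizer hn
  have h := le_of_isPiHall_of_normal (N := N.subgroupOf M) (isPiHall_subgroupOf hH)
    (by rwa [Cores.card_subgroupOf hN])
  intro x hx
  exact h (show (⟨x, hN hx⟩ : M) ∈ N.subgroupOf M from hx)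

theorem card_mul_relIndex (h : H ≤ M) : Nat.card H * H.relIndex M = Nat.card M := by
  rw [← Subgroup.relIndex_bot_left, Subgroup.relIndex_mul_relIndex _ _ _ bot_le h,
    Subgroup.relIndex_bot_left]

end Hall

section SigmaCore

variable (M : Subgroup G)

theorem sigmaCore_le : Cfsg.sigmaCore M ≤ M := Subgroup.map_subtype_le _

theorem le_normalizer_sigmaCore : M ≤ Subgroup.normalizer (Cfsg.sigmaCore M : Set G) :=
  OddTrans.le_normalizer_piCoreOf _ M

theorem isPiNum_sigmaCore : IsPiNum (Cfsg.sigma M) (Nat.card (Cfsg.sigmaCore M)) :=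
  OddTrans.piCoreOf_pi _ M

variable {M}

theorem le_sigmaCore {N : Subgroup G} (hN : N ≤ M) (hn : M ≤ Subgroup.normalizer (N : Set G))
    (hπ : IsPiNum (Cfsg.sigma M) (Nat.card N)) : N ≤ Cfsg.sigmaCore M :=
  OddTrans.le_piCoreOf hN hn hπ

theorem orderOf_mem_sigmaCore {x : G} (hx : x ∈ Cfsg.sigmaCore M) :
    IsPiNum (Cfsg.sigma M) (orderOf x) :=
  isPiNum_orderOf (isPiNum_sigmaCore M) hx

theorem mem_sigma_of_dvd_sigmaCore {p : ℕ} (hp : p.Prime) (h : p ∣ Nat.card (Cfsg.sigmaCore M)) :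
    p ∈ Cfsg.sigma M :=
  isPiNum_sigmaCore M p hp h

theorem conj_mem_sigmaCore {m x : G} (hm : m ∈ M) (hx : x ∈ Cfsg.sigmaCore M) :
    m * x * m⁻¹ ∈ Cfsg.sigmaCore M :=
  (Subgroup.mem_normalizer_iff.1 (le_normalizer_sigmaCore M hm) x).1 hx

theorem conj_sigmaCore_eq {m : G} (hm : m ∈ M) :
    MulAut.conj m • Cfsg.sigmaCore M = Cfsg.sigmaCore M :=
  mem_normalizer_iff_conj.1 (le_normalizer_sigmaCore M hm)

theorem sigma_subset_conj (g : G) (M : Subgroup G) :
    Cfsg.sigma M ⊆ Cfsg.sigma (MulAut.conj g • M) := by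
  rintro p ⟨hp, hd, P, hP⟩
  have := Fact.mk hp
  refine ⟨hp, by rwa [card_conj], ?_⟩
  set Q := (P : Subgroup M).map M.subtype with hQ
  have hQM : MulAut.conj g • Q ≤ MulAut.conj g • M := conj_mono g (Subgroup.map_subtype_le _)
  have hQp : IsPGroup p ↥((MulAut.conj g • Q).subgroupOf (MulAut.conj g • M)) :=
    IsPGroup.comap_of_injective ((P.isPGroup'.map M.subtype).map (MulAut.conj g).toMonoidHom)
      (Subgroup.subtype (MulAut.conj g • M)) (Subgroup.subtype_injective _)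
  have hidx : ¬ p ∣ ((MulAut.conj g • Q).subgroupOf (MulAut.conj g • M)).index := by
    have h1 := card_mul_relIndex hQM
    have h2 := card_mul_relIndex (H := Q) (M := M) (Subgroup.map_subtype_le _)
    rw [card_conj, card_conj, ← h2] at h1
    show ¬ p ∣ (MulAut.conj g • Q).relIndex (MulAut.conj g • M)
    rw [Nat.eq_of_mul_eq_mul_left Nat.card_pos h1, hQ, Subgroup.relIndex, Subgroup.subgroupOf,
      Subgroup.comap_map_eq_self_of_injective M.subtype_injective]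
    exact P.not_dvd_index
  refine ⟨hQp.toSylow hidx, ?_⟩
  rw [IsPGroup.toSylow_coe, Subgroup.map_subgroupOf_eq_of_le hQM]
  intro n hn
  rw [mem_normalizer_iff_conj, conj_conj] at hn
  have h3 : g⁻¹ * (n * g) ∈ Subgroup.normalizer (Q : Set G) := by
    rw [mem_normalizer_iff_conj, ← conj_conj, hn, conj_inv_smul]
  rw [mem_conj_iff, mul_assoc]
  exact hP h3

theorem sigma_conj (g : G) (M : Subgroup G) :
    Cfsg.sigma (MulAut.conj g • M) = Cfsg.sigma M := by
  refine le_antisymm ?_ (sigma_subset_conj g M)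
  have := sigma_subset_conj g⁻¹ (MulAut.conj g • M)
  rwa [conj_inv_smul] at this

theorem conj_sigmaCore_le (g : G) (M : Subgroup G) :
    MulAut.conj g • Cfsg.sigmaCore M ≤ Cfsg.sigmaCore (MulAut.conj g • M) := by
  refine le_sigmaCore (conj_mono g (sigmaCore_le M)) ?_ ?_
  · intro m hm
    obtain ⟨n, hn, rfl⟩ : ∃ n ∈ M, g * n * g⁻¹ = m :=
      ⟨g⁻¹ * m * g, (mem_conj_iff g m M).1 hm, by group⟩
    rw [mem_normalizer_iff_conj, conj_conj, inv_mul_cancel_right, ← conj_conj, conj_sigmaCore_eq hn]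
  · rw [card_conj, sigma_conj]; exact isPiNum_sigmaCore M

theorem sigmaCore_conj (g : G) (M : Subgroup G) :
    Cfsg.sigmaCore (MulAut.conj g • M) = MulAut.conj g • Cfsg.sigmaCore M := by
  refine le_antisymm ?_ (conj_sigmaCore_le g M)
  have := conj_mono g (conj_sigmaCore_le g⁻¹ (MulAut.conj g • M))
  rwa [conj_inv_smul, conj_conj, mul_inv_cancel, conj_one_smul] at this

end SigmaCore

namespace Upstream

variable (hU : Upstream G)
include hU

theorem odd_card (H : Subgroup G) : Odd (Nat.card H) := OddSigma.odd_card hU.hG H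

theorem prime_ne_two {p : ℕ} {H : Subgroup G} (h : p ∣ Nat.card H) : p ≠ 2 :=
  OddSigma.prime_ne_two hU.hG h

theorem solvable {M : Subgroup G} (hM : IsCoatom M) : Group.IsSolvable M :=
  OddSigma.proper_solvable hU.hG hM.1

theorem hall_sigmaCore {M : Subgroup G} (hM : IsCoatom M) :
    Cfsg.IsPiHallOf (Cfsg.sigma M) (Cfsg.sigmaCore M) M :=
  (hU.s1350 M hM).1

/-- A `σ(M)`-subgroup of `M` lies in `M_σ`. -/
theorem mem_sigmaCore_of_pi {M : Subgroup G} (hM : IsCoatom M) {Y : Subgroup G} (hY : Y ≤ M)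
    (hπ : IsPiNum (Cfsg.sigma M) (Nat.card Y)) : Y ≤ Cfsg.sigmaCore M := by
  obtain ⟨m, hm, h⟩ := hallOf_conj_ge (hU.solvable hM) (hU.hall_sigmaCore hM) hY hπ
  rwa [conj_sigmaCore_eq hm] at h

theorem mem_sigmaCore_of_order {M : Subgroup G} (hM : IsCoatom M) {x : G} (hx : x ∈ M)
    (hπ : IsPiNum (Cfsg.sigma M) (orderOf x)) : x ∈ Cfsg.sigmaCore M :=
  hU.mem_sigmaCore_of_pi hM (Subgroup.zpowers_le.2 hx) (zpowers_sigma_pi hπ)
    (Subgroup.mem_zpowers x)

theorem dvd_sigmaCore_of_mem_sigma {M : Subgroup G} (hM : IsCoatom M) {p : ℕ}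
    (hp : p ∈ Cfsg.sigma M) : p ∣ Nat.card (Cfsg.sigmaCore M) := by
  have h := hp.2.1
  rw [← card_mul_relIndex (sigmaCore_le M)] at h
  exact (hp.1.dvd_mul.1 h).resolve_right ((hU.hall_sigmaCore hM).2.2 p hp.1 hp)

theorem normalizer_eq_of_normal {M N : Subgroup G} (hM : IsCoatom M) (hN : N ≤ M)
    (hn : M ≤ Subgroup.normalizer (N : Set G)) (h1 : N ≠ ⊥) :
    Subgroup.normalizer (N : Set G) = M := by
  refine (hn.eq_or_lt).elim Eq.symm fun h => absurd (hM.2 _ h) ?_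
  exact OddSigma.normalizer_ne_top hU.hG h1 fun e => hM.1 (top_le_iff.1 (e ▸ hN))

theorem conj_ne {M : Subgroup G} (hM : IsCoatom M) {g : G} (h : MulAut.conj g • M = M) : g ∈ M :=
  OddSigma.mem_of_conj_eq hU.hG hM h

/-- `σ(M) ∩ σ(N) ≠ ∅` forces conjugacy (BG 13.9), in pointwise notation. -/
theorem conj_of_sigma {M N : Subgroup G} (hM : IsCoatom M) (hN : IsCoatom N) {p : ℕ}
    (hp : p ∈ Cfsg.sigma M) (hp' : p ∈ Cfsg.sigma N) : ∃ g : G, N = MulAut.conj g • M :=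
  hU.bg13_9 M N hM hN ⟨p, hp, hp'⟩

theorem sigma_eq_of_inter {M N : Subgroup G} (hM : IsCoatom M) (hN : IsCoatom N) {p : ℕ}
    (hp : p ∈ Cfsg.sigma M) (hp' : p ∈ Cfsg.sigma N) : Cfsg.sigma N = Cfsg.sigma M := by
  obtain ⟨g, rfl⟩ := hU.conj_of_sigma hM hN hp hp'
  exact sigma_conj g M

theorem sigmaCore_ne_bot {M : Subgroup G} (hM : IsCoatom M) : Cfsg.sigmaCore M ≠ ⊥ := by
  intro hbot
  have hno : ∀ p, p ∉ Cfsg.sigma M := fun p hp => hp.1.ne_one <| Nat.dvd_one.1 <| by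
    simpa [hbot] using hU.dvd_sigmaCore_of_mem_sigma hM hp
  have hα : ∀ p : ℕ, p.Prime → p ∉ Cfsg.beta M := by
    intro p hp hβ
    obtain ⟨h1, -, h3, -⟩ := hU.s1405 M hM
    have hd : p ∣ Nat.card M := OddSigma.alpha_dvd hβ.1
    rw [← card_mul_relIndex h1.1] at hd
    have := (hp.dvd_mul.1 hd).resolve_right (h1.2.2 p hp hβ.1)
    exact hno p (mem_sigma_of_dvd_sigmaCore hp (this.trans (Subgroup.card_dvd_of_le h3)))
  have hM1 : Nat.card M ≠ 1 := fun h => OddSigma.coatom_ne_bot hU.hG hM (Subgroup.card_eq_one.1 h)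
  have hne : (Nat.card M).primeFactors.Nonempty :=
    Nat.nonempty_primeFactors.2 (lt_of_le_of_ne Nat.card_pos (Ne.symm hM1))
  set r := (Nat.card M).primeFactors.max' hne with hr
  obtain ⟨hrp, hrd, -⟩ := Nat.mem_primeFactors.1 (Finset.max'_mem _ hne)
  have := Fact.mk hrp
  obtain ⟨R⟩ : Nonempty (Sylow r M) := inferInstance
  -- each smaller prime `p` has a normal subgroup of order prime to `p` that contains `R`
  let C : Subgroup M :=
    ⨅ p ∈ {p | p.Prime ∧ p ∣ Nat.card M ∧ p ≠ r}, Cfsg.pPrimeCore p M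
  have hCn : C.Normal := Subgroup.normal_iInf_normal fun p => Subgroup.normal_iInf_normal
    fun _ => inferInstance
  have hRC : (R : Subgroup M) ≤ C := by
    refine le_iInf fun p => le_iInf fun hp => ?_
    have hp' := ((hU.s1414 M hM).2.2.2.2 p hp.1 hp.2.1 (hα p hp.1)).2.2
    have hlt : p < r :=
      lt_of_le_of_ne (Finset.le_max' _ _ (Nat.mem_primeFactors.2 ⟨hp.1, hp.2.1, Nat.card_pos.ne'⟩))
        hp.2.2
    refine Subgroup.relIndex_eq_one.1 ?_
    obtain ⟨j, hj⟩ := R.isPGroup'.exists_card_eq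
    refine Nat.Coprime.eq_one_of_dvd (m := (Cfsg.pPrimeCore p M).index) ?_
      (Subgroup.relIndex_dvd_index_of_normal _ _)
    refine Nat.Coprime.coprime_dvd_left (Subgroup.relIndex_dvd_card _ _) ?_
    rw [hj]
    exact Nat.Coprime.pow_left _ (hrp.coprime_iff_not_dvd.2 fun h =>
      absurd (hp' r hrp h) (not_le.2 hlt))
  have hCp : IsPGroup r C := by
    rw [IsPGroup.iff_card]
    refine ⟨_, Nat.eq_prime_pow_of_unique_prime_dvd Nat.card_pos.ne' fun {q} hq hd => ?_⟩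
    by_contra hqr
    have hle : C ≤ Cfsg.pPrimeCore q M :=
      (iInf_le _ q).trans (iInf_le _ ⟨hq, hd.trans (Subgroup.card_subgroup_dvd_card C), hqr⟩)
    exact Cores.pi_card_sSup (π := {s : ℕ | s ≠ q})
      {N : Subgroup M | N.Normal ∧ (Nat.card N).Coprime q} (fun _ h => h.1)
      (fun N h s hs hsd hsq => hq.coprime_iff_not_dvd.1 h.2.symm (hsq ▸ hsd))
      q hq (hd.trans (Subgroup.card_dvd_of_le hle)) rfl
  have hRn : (R : Subgroup M).Normal := by rw [← R.is_maximal' hCp hRC]; exact hCn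
  refine hno r (OddSigma.sigma_of_sylow hrp hrd R ?_)
  refine (hU.normalizer_eq_of_normal hM (Subgroup.map_subtype_le _) ?_ ?_).le
  · intro m hm
    rw [mem_normalizer_iff_conj]
    have h := congrArg (Subgroup.map M.subtype) (Solvable.conj_normal (⟨m, hm⟩ : M) (R : Subgroup M))
    rwa [map_conj] at h
  · rw [Ne, Subgroup.map_eq_bot_iff_of_injective _ M.subtype_injective]
    exact Sylow.ne_bot_of_dvd_card R hrd

/-- `α(M) ⊆ σ(M)`. -/
theorem alpha_subset_sigma {M : Subgroup G} (hM : IsCoatom M) {p : ℕ} (hp : p ∈ Cfsg.alpha M) :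
    p ∈ Cfsg.sigma M := by
  obtain ⟨h1, -, h3, -⟩ := hU.s1405 M hM
  have hd : p ∣ Nat.card M := OddSigma.alpha_dvd hp
  rw [← card_mul_relIndex h1.1] at hd
  exact mem_sigma_of_dvd_sigmaCore hp.1
    (((hp.1.dvd_mul.1 hd).resolve_right (h1.2.2 p hp.1 hp)).trans (Subgroup.card_dvd_of_le h3))

theorem prankLE_two {M : Subgroup G} (hM : IsCoatom M) {p : ℕ} (hp : p.Prime)
    (hσ : p ∉ Cfsg.sigma M) : Cfsg.PRankLE p 2 M :=
  by_contra fun h => hσ (hU.alpha_subset_sigma hM ⟨hp, h⟩)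

/-- The primes of `M` outside `σ(M)` fall into `τ₁`, `τ₂`, `τ₃`. -/
theorem tau_cases {M : Subgroup G} (hM : IsCoatom M) {p : ℕ} (hp : p.Prime)
    (hd : p ∣ Nat.card M) (hσ : p ∉ Cfsg.sigma M) :
    p ∈ Cfsg.tau1 M ∨ p ∈ Cfsg.tau2 M ∨ p ∈ Cfsg.tau3 M := by
  by_cases h1 : Cfsg.PRankLE p 1 M
  · by_cases h3 : p ∣ Nat.card ↥⁅M, M⁆
    · exact Or.inr (Or.inr ⟨hp, hσ, h3, h1⟩)
    · exact Or.inl ⟨hp, hσ, hd, h3, h1⟩
  · exact Or.inr (Or.inl ⟨hp, hσ, hU.prankLE_two hM hp hσ, h1⟩)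

/-- A `p`-subgroup of `p`-rank `≤ 1` is cyclic. -/
theorem isCyclic_of_rank_one {p : ℕ} (hp : p.Prime) {H : Type u} [Group H] [Finite H]
    (hodd : p ≠ 2) (hH : IsPGroup p H) (hr : Cfsg.PRankLE p 1 H) : IsCyclic H := by
  have := Fact.mk hp
  have hsc : Frobenius.SmallCyclic H := by
    intro r s hr' hs' B hB
    have hd : ∀ t, t.Prime → t ∣ r * s → t = p := fun t ht hd => by
      obtain ⟨j, hj⟩ := (hH.to_subgroup B).exists_card_eq
      rw [hB] at hj
      exact (Nat.prime_dvd_prime_iff_eq ht hp).1 (ht.dvd_of_dvd_pow (hj ▸ hd))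
    rw [hd r hr' (dvd_mul_right r s), hd s hs' (dvd_mul_left s r)] at hB
    by_contra hc
    have hcomm : IsMulCommutative B :=
      IsPGroup.isMulCommutative_of_card_eq_prime_sq (p := p) (hB.trans (sq p).symm)
    have hexp : ∀ b ∈ B, b ^ p = 1 := by
      intro b hb
      have h := (Subgroup.orderOf_dvd_natCard B hb)
      rw [hB, ← sq] at h
      obtain ⟨i, hi, hb'⟩ := (Nat.dvd_prime_pow hp).1 h
      refine orderOf_dvd_iff_pow_eq_one.1 ?_
      interval_cases i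
      · simp [hb']
      · simp [hb']
      · refine absurd (isCyclic_of_orderOf_eq_card (⟨b, hb⟩ : B) ?_) hc
        rw [Subgroup.orderOf_mk, hb', hB, sq]
    have h1 := hr B hcomm hexp
    rw [hB, pow_one] at h1
    exact absurd h1 (not_le.2 (lt_mul_of_one_lt_left hp.pos hp.one_lt))
  have hc := hsc.isCyclic_of_pgroup_odd hodd (P := (⊤ : Subgroup H))
    (hH.of_equiv Subgroup.topEquiv.symm)
  exact isCyclic_of_surjective Subgroup.topEquiv Subgroup.topEquiv.surjective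

theorem isCyclic_of_le_rank_one {M : Subgroup G} {p : ℕ} (hp : p.Prime)
    (hr : Cfsg.PRankLE p 1 M) (hd : p ∣ Nat.card M) {P : Subgroup G} (hPM : P ≤ M)
    (hP : IsPGroup p P) : IsCyclic P :=
  hU.isCyclic_of_rank_one hp (hU.prime_ne_two hd) hP (OddSigma.prankLE_mono hPM hr)

/-- An element of `τ₁ ∪ τ₃` order centralising a non-identity element of `M_σ` puts `p` in `κ(M)`. -/
theorem mem_kappa_of_centralizes {M : Subgroup G} (hM : IsCoatom M) {p : ℕ}
    (hp : p ∈ Cfsg.tau1 M ∪ Cfsg.tau3 M) {x : G} (hx : x ∈ M) (hxp : orderOf x = p)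
    (hc : Cfsg.sigmaCore M ⊓ Subgroup.centralizer ({x} : Set G) ≠ ⊥) : p ∈ Cfsg.kappa M := by
  obtain ⟨hpp, hσ, hr⟩ : p.Prime ∧ p ∉ Cfsg.sigma M ∧ Cfsg.PRankLE p 1 M := by
    rcases hp with h | h
    · exact ⟨h.1, h.2.1, h.2.2.2.2⟩
    · exact ⟨h.1, h.2.1, h.2.2.2⟩
  have := Fact.mk hpp
  have hd : p ∣ Nat.card M := dvd_card_of_mem hx hxp.symm.dvd
  refine ⟨hpp, hd, hσ, fun P => ⟨?_, ?_⟩⟩
  · have h := hU.isCyclic_of_le_rank_one hpp hr hd (Subgroup.map_subtype_le (P : Subgroup M))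
      (P.isPGroup'.map M.subtype)
    have e := (P : Subgroup M).equivMapOfInjective M.subtype M.subtype_injective
    exact isCyclic_of_surjective e.symm e.symm.surjective
  · obtain ⟨Q, hQ⟩ := (IsPGroup.of_card (n := 1) (G := Subgroup.zpowers (⟨x, hx⟩ : M))
      (by rw [Nat.card_zpowers, Subgroup.orderOf_mk, hxp, pow_one])).exists_le_sylow
    obtain ⟨m, hm⟩ := MulAction.exists_smul_eq M Q P
    obtain ⟨y, hy, hy1⟩ := (Cfsg.sigmaCore M ⊓ Subgroup.centralizer ({x} : Set G)).bot_or_exists_ne_one.resolve_left hc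
    refine ⟨m * ⟨x, hx⟩ * m⁻¹, ?_, ?_, (m : G) * y * (m : G)⁻¹, conj_mem_sigmaCore m.2 hy.1, ?_, ?_⟩
    · rw [← hm, Sylow.coe_subgroup_smul]
      exact ⟨⟨x, hx⟩, hQ (Subgroup.mem_zpowers _), rfl⟩
    · intro h
      rw [conj_eq_one_iff] at h
      exact ne_one_of_orderOf hpp hxp (congrArg Subtype.val h)
    · rwa [Ne, conj_eq_one_iff]
    · have hxy : x * y = y * x := (Subgroup.mem_centralizer_singleton_iff.1 hy.2).symm
      push_cast
      calc (m : G) * x * (m : G)⁻¹ * ((m : G) * y * (m : G)⁻¹) = m * (x * y) * (m : G)⁻¹ := by group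
        _ = m * (y * x) * (m : G)⁻¹ := by rw [hxy]
        _ = _ := by group

theorem kappa_subset_tau {M : Subgroup G} {p : ℕ} (hp : p ∈ Cfsg.kappa M) :
    p ∈ Cfsg.tau1 M ∪ Cfsg.tau3 M := by
  obtain ⟨hpp, hd, hσ, hP⟩ := hp
  have := Fact.mk hpp
  obtain ⟨P⟩ : Nonempty (Sylow p M) := inferInstance
  have hr : Cfsg.PRankLE p 1 M := by
    refine OddSigma.prankLE_of_sylow P ?_
    have := (hP P).1
    have hc : IsCyclic ↥((P : Subgroup M).map M.subtype) :=
      isCyclic_of_surjective _ ((P : Subgroup M).equivMapOfInjective M.subtype M.subtype_injective).surjective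
    intro A hA hA'
    obtain ⟨a, ha⟩ := IsCyclic.exists_ofOrder_eq_natCard (α := A)
    rw [← ha, pow_one]
    exact Nat.le_of_dvd hpp.pos (orderOf_dvd_of_pow_eq_one (Subtype.ext (by simpa using hA' a a.2)))
  by_cases h3 : p ∣ Nat.card ↥⁅M, M⁆
  · exact Or.inr ⟨hpp, hσ, h3, hr⟩
  · exact Or.inl ⟨hpp, hσ, hd, h3, hr⟩

/-- A Hall `σ(M)'`-subgroup is a complement of `M_σ`. -/
theorem compl_of_hall {M : Subgroup G} (hM : IsCoatom M) {E : Subgroup G}
    (hE : Cfsg.IsPiHallOf (Cfsg.sigma M)ᶜ E M) : Cfsg.IsComplIn E (Cfsg.sigmaCore M) M := by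
  have hH := hU.hall_sigmaCore hM
  have hb : E ⊓ Cfsg.sigmaCore M = ⊥ :=
    inf_eq_bot_of_pi hE.2.1 ((compl_compl (Cfsg.sigma M)).symm ▸ isPiNum_sigmaCore M)
  have hn : E ≤ Subgroup.normalizer (Cfsg.sigmaCore M : Set G) :=
    hE.1.trans (le_normalizer_sigmaCore M)
  refine ⟨hE.1, hH.1, hb, fun m hm => ?_⟩
  have hcard := Frobenius.card_sup_of_disjoint hn (disjoint_iff.2 hb)
  have heq : E ⊔ Cfsg.sigmaCore M = M := by
    refine Subgroup.eq_of_le_of_card_ge (sup_le hE.1 hH.1) ?_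
    rw [hcard]
    refine Nat.le_of_dvd (Nat.mul_pos Nat.card_pos Nat.card_pos) ?_
    have h1 := card_mul_relIndex hH.1
    have h2 := card_mul_relIndex hE.1
    have hc : (Nat.card (Cfsg.sigmaCore M)).Coprime (Nat.card E) :=
      (isPiNum_sigmaCore M).coprime hE.2.1
    rw [← h1, mul_comm (Nat.card E)]
    refine mul_dvd_mul_left _ ?_
    refine ((hallOf_relIndex_pi hH).coprime ?_).dvd_of_dvd_mul_right (h2 ▸ Dvd.intro_left _ h1)
    rw [compl_compl]
    simpa only [compl_compl] using hallOf_relIndex_pi hE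
  rw [← heq, sup_comm] at hm
  obtain ⟨h, hh, e, he, rfl⟩ := (Coprime.mem_sup_iff hn).1 hm
  refine ⟨e, he, e⁻¹ * h * e, ?_, by group⟩
  exact (Subgroup.mem_normalizer_iff''.1 (hn he) h).1 hh

theorem exists_compl_ge {M : Subgroup G} (hM : IsCoatom M) {U : Subgroup G} (hU' : U ≤ M)
    (hπ : IsPiNum (Cfsg.sigma M)ᶜ (Nat.card U)) :
    ∃ E : Subgroup G, Cfsg.IsComplIn E (Cfsg.sigmaCore M) M ∧ U ≤ E := by
  obtain ⟨E, hE, hUE⟩ := exists_hallOf_ge (hU.solvable hM) hU' hπ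
  exact ⟨E, hU.compl_of_hall hM hE, hUE⟩

end Upstream

section Compl

variable {M E : Subgroup G}

theorem compl_eq_sup (hE : Cfsg.IsComplIn E (Cfsg.sigmaCore M) M) : E ⊔ Cfsg.sigmaCore M = M := by
  refine le_antisymm (sup_le hE.1 (sigmaCore_le M)) fun m hm => ?_
  obtain ⟨a, ha, b, hb, rfl⟩ := hE.2.2.2 m hm
  exact Subgroup.mul_mem_sup ha hb

theorem compl_card (hE : Cfsg.IsComplIn E (Cfsg.sigmaCore M) M) :
    Nat.card E * Nat.card (Cfsg.sigmaCore M) = Nat.card M := by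
  have h := Frobenius.card_sup_of_disjoint (hE.1.trans (le_normalizer_sigmaCore M))
    (disjoint_iff.2 hE.2.2.1)
  rw [compl_eq_sup hE] at h
  exact h.symm

theorem compl_relIndex (hE : Cfsg.IsComplIn E (Cfsg.sigmaCore M) M) :
    E.relIndex M = Nat.card (Cfsg.sigmaCore M) :=
  Nat.eq_of_mul_eq_mul_left Nat.card_pos ((card_mul_relIndex hE.1).trans (compl_card hE).symm)

theorem compl_relIndex' (hE : Cfsg.IsComplIn E (Cfsg.sigmaCore M) M) :
    (Cfsg.sigmaCore M).relIndex M = Nat.card E :=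
  Nat.eq_of_mul_eq_mul_left Nat.card_pos
    ((card_mul_relIndex (sigmaCore_le M)).trans ((compl_card hE).symm.trans (mul_comm _ _)))

theorem compl_hall (hU : Upstream G) (hM : IsCoatom M)
    (hE : Cfsg.IsComplIn E (Cfsg.sigmaCore M) M) : Cfsg.IsPiHallOf (Cfsg.sigma M)ᶜ E M := by
  refine ⟨hE.1, fun p hp hd => ?_, fun p hp hσ hd => ?_⟩
  · intro hσ
    exact (hU.hall_sigmaCore hM).2.2 p hp hσ (by rwa [compl_relIndex' hE])
  · rw [compl_relIndex hE] at hd
    exact hσ (mem_sigma_of_dvd_sigmaCore hp hd)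

/-- A `σ(M)'`-subgroup of `M` is conjugate into any complement of `M_σ`. -/
theorem exists_conj_le_compl (hU : Upstream G) (hM : IsCoatom M)
    (hE : Cfsg.IsComplIn E (Cfsg.sigmaCore M) M) {U : Subgroup G} (hUM : U ≤ M)
    (hπ : IsPiNum (Cfsg.sigma M)ᶜ (Nat.card U)) : ∃ m ∈ M, U ≤ MulAut.conj m • E :=
  hallOf_conj_ge (hU.solvable hM) (compl_hall hU hM hE) hUM hπ

/-- The complement meets every `σ(M)`-element trivially. -/
theorem eq_one_of_mem_compl (hE : Cfsg.IsComplIn E (Cfsg.sigmaCore M) M) {x : G} (hx : x ∈ E)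
    (hx' : x ∈ Cfsg.sigmaCore M) : x = 1 := by
  have h : x ∈ E ⊓ Cfsg.sigmaCore M := ⟨hx, hx'⟩
  rwa [hE.2.2.1, Subgroup.mem_bot] at h

end Compl

end Cfsg.Agent.OddOrder14
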