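import Cfsg.Agent.Lib.OddPrime.CentRank
import Cfsg.Agent.Lib.PGroup.Power
import Mathlib.LinearAlgebra.Matrix.CharP
import Mathlib.GroupTheory.PGroup
import Mathlib.Algebra.CharP.Lemmas
import Cfsg.Prelude.Def_Transfer

/-!
# `p`-groups with a small centralizer of an element of order `p`

The group-theoretic content of the last part of Bender-Glauberman 15.7. `Small p y`: `S` is a
`p`-group, `p` odd, and the non-central element `y` of order `p` has an abelian centralizer of rank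
at most two (plus a condition for groups of rank two).

* `Small.not_pow`: `y` is not a `p`-th power
* `Small.card_eq_and_pow`: an automorphism `φ` fixing the centre line whose nontrivial powers fix
  little satisfies `|S| = p ^ 3` and `φ ^ (p + 1) = 1` unless `φ ^ (p - 1) = 1`
-/

set_option autoImplicit false
set_option linter.unusedVariables false
set_option linter.unusedSectionVars false

open scoped commutatorElement

namespace Cfsg.Agent.OddOrder14.SmallCent

variable {S : Type*} [Group S] [Finite S]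

/-- A non-central element of order `p` with abelian centralizer of rank at most two. -/
structure Small (p : ℕ) (y : S) : Prop where
  prime : p.Prime
  ne_two : p ≠ 2
  pGroup : IsPGroup p S
  y_pow : y ^ p = 1
  not_center : y ∉ Subgroup.center S
  comm : ∀ a b : S, Commute a y → Commute b y → Commute a b
  rank : ∀ E : Subgroup S, Cfsg.IsElementaryAbelian p E → (∀ e ∈ E, Commute e y) →
    Nat.card E ≤ p ^ 2
  narrow : Cfsg.PRankLE p 2 S → ∃ P₁ : Subgroup S, P₁.Normal ∧ Nat.card P₁ = p ^ 3 ∧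
    (∀ a ∈ P₁, a ^ p = 1) ∧ ¬ IsMulCommutative P₁ ∧
    ∀ u : S, ∃ u₁ ∈ P₁, ∀ v ∈ P₁, ⁅u, v⁆ = ⁅u₁, v⁆

theorem comm_mul_left {a b v : S} (h : ⁅b, v⁆ ∈ Subgroup.center S) :
    ⁅a * b, v⁆ = ⁅a, v⁆ * ⁅b, v⁆ := by
  have h1 : a * ⁅b, v⁆ * a⁻¹ = ⁅b, v⁆ := by
    rw [Subgroup.mem_center_iff.1 h a, mul_inv_cancel_right]
  calc ⁅a * b, v⁆ = (a * ⁅b, v⁆ * a⁻¹) * ⁅a, v⁆ := by simp only [commutatorElement_def]; group
    _ = ⁅b, v⁆ * ⁅a, v⁆ := by rw [h1]
    _ = ⁅a, v⁆ * ⁅b, v⁆ := (Subgroup.mem_center_iff.1 h _).symm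

/-- A shift by a fixed element of order prime to the order of the automorphism is trivial. -/
theorem eq_one_of_shift {ψ : MulAut S} {a d : S} {p : ℕ} (hp : p.Prime) (hψ : ¬ p ∣ orderOf ψ)
    (ha : ψ a = a * d) (hd : ψ d = d) (hdp : d ^ p = 1) : d = 1 := by
  have hiter : ∀ n : ℕ, (ψ ^ n) a = a * d ^ n := by
    intro n
    induction n with
    | zero => simp
    | succ n ih => rw [pow_succ', MulAut.mul_apply, ih, map_mul, map_pow, ha, hd, pow_succ', mul_assoc]
  have h := hiter (orderOf ψ)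
  rw [pow_orderOf_eq_one, MulAut.one_apply, left_eq_mul] at h
  have h1 := Nat.dvd_gcd (orderOf_dvd_of_pow_eq_one h) (orderOf_dvd_of_pow_eq_one hdp)
  rw [((hp.coprime_iff_not_dvd).2 hψ).symm] at h1
  exact orderOf_eq_one_iff.1 (Nat.dvd_one.1 h1)

namespace Small

variable {p : ℕ} {y : S} (h : Small p y)
include h

/-- The elements of exponent `p` commuting with `y`. -/
def omega : Subgroup S where
  carrier := {a | Commute a y ∧ a ^ p = 1}
  one_mem' := ⟨Commute.one_left y, one_pow p⟩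
  mul_mem' := fun {a b} ha hb => ⟨ha.1.mul_left hb.1, by
    rw [(h.comm a b ha.1 hb.1).mul_pow, ha.2, hb.2, one_mul]⟩
  inv_mem' := fun {a} ha => ⟨ha.1.inv_left, by rw [inv_pow, ha.2, inv_one]⟩

theorem y_mem_omega : y ∈ h.omega := ⟨Commute.refl y, h.y_pow⟩

theorem card_omega : Nat.card h.omega ≤ p ^ 2 :=
  h.rank _ ⟨⟨⟨fun a b => Subtype.ext (h.comm a b a.2.1 b.2.1)⟩⟩, fun a ha => ha.2⟩
    fun a ha => ha.1

theorem card_mul_le {A B : Subgroup S} (hAB : A < B) : p * Nat.card A ≤ Nat.card B :=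
  have := Fact.mk h.prime
  PGroup.mul_card_le_of_lt h.pGroup hAB

theorem y_ne_one : y ≠ 1 := fun e => h.not_center (e ▸ one_mem _)

theorem commute_center {a : S} (ha : a ∈ Subgroup.center S) (b : S) : Commute a b :=
  (Subgroup.mem_center_iff.1 ha b).symm

theorem exists_c : ∃ c : S, orderOf c = p ∧ c ∈ Subgroup.center S ∧
    ∀ a ∈ Subgroup.center S, a ^ p = 1 → a ∈ Subgroup.zpowers c := by
  have := Fact.mk h.prime
  have : Nontrivial S := ⟨⟨y, 1, h.y_ne_one⟩⟩
  have := h.pGroup.center_nontrivial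
  obtain ⟨j, hj, hc⟩ := (h.pGroup.to_subgroup (Subgroup.center S)).nontrivial_iff_card.mp inferInstance
  obtain ⟨z, hz⟩ := exists_prime_orderOf_dvd_card' (G := Subgroup.center S) p
    (hc ▸ dvd_pow_self p hj.ne')
  have hzo : orderOf (z : S) = p := by rw [Subgroup.orderOf_coe, hz]
  refine ⟨z, hzo, z.2, fun a ha hap => by_contra fun hac => ?_⟩
  set Z := Subgroup.center S ⊓ h.omega
  have hzZ : Subgroup.zpowers (z : S) < Z := by
    refine lt_of_le_of_ne (Subgroup.zpowers_le.2 ⟨z.2, h.commute_center z.2 y, ?_⟩) fun e => ?_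
    · rw [← hzo]; exact pow_orderOf_eq_one _
    · exact hac (e.symm ▸ ⟨ha, h.commute_center ha y, hap⟩)
  have hlt : Z < h.omega :=
    lt_of_le_of_ne inf_le_right fun e => h.not_center (e.ge h.y_mem_omega).1
  have h1 := h.card_mul_le hzZ
  have h2 := h.card_mul_le hlt
  rw [Nat.card_zpowers, hzo] at h1
  have := h.card_omega
  have hp := h.prime.two_le
  have h3 : p * (p * p) ≤ p * Nat.card Z := Nat.mul_le_mul_left p h1
  nlinarith

variable {c : S} (hco : orderOf c = p) (hcc : c ∈ Subgroup.center S)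
  (huniq : ∀ a ∈ Subgroup.center S, a ^ p = 1 → a ∈ Subgroup.zpowers c)

theorem omega_eq (hco : orderOf c = p) (hcc : c ∈ Subgroup.center S) :
    Subgroup.zpowers c ⊔ Subgroup.zpowers y = h.omega := by
  have hc : c ∈ h.omega := ⟨h.commute_center hcc y, by rw [← hco]; exact pow_orderOf_eq_one c⟩
  have hle : Subgroup.zpowers c ⊔ Subgroup.zpowers y ≤ h.omega :=
    sup_le (Subgroup.zpowers_le.2 hc) (Subgroup.zpowers_le.2 h.y_mem_omega)
  refine Subgroup.eq_of_le_of_card_ge hle ?_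
  have hlt : Subgroup.zpowers c < Subgroup.zpowers c ⊔ Subgroup.zpowers y :=
    lt_of_le_of_ne le_sup_left fun e => h.not_center ((Subgroup.zpowers_le.2 hcc)
      (e.ge (Subgroup.mem_sup_right (Subgroup.mem_zpowers y))))
  have h1 := h.card_mul_le hlt
  rw [Nat.card_zpowers, hco] at h1
  refine le_trans ?_ h1
  rw [← pow_two]
  exact h.card_omega

theorem exists_of_mem_omega (hco : orderOf c = p) (hcc : c ∈ Subgroup.center S) {a : S}
    (ha : a ∈ h.omega) : ∃ d ∈ Subgroup.zpowers c, ∃ j : ℤ, a = d * y ^ j := by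
  have hn : (Subgroup.zpowers c).Normal := ⟨fun n hn g => by
    have hnc : n ∈ Subgroup.center S := Subgroup.zpowers_le.2 hcc hn
    rwa [Subgroup.mem_center_iff.1 hnc g, mul_inv_cancel_right]⟩
  rw [← h.omega_eq hco hcc] at ha
  have hs : a ∈ ((Subgroup.zpowers c ⊔ Subgroup.zpowers y : Subgroup S) : Set S) := ha
  rw [Subgroup.normal_mul] at hs
  obtain ⟨d, hd, e, he, rfl⟩ := hs
  obtain ⟨j, rfl⟩ := Subgroup.mem_zpowers_iff.1 he
  exact ⟨d, hd, j, rfl⟩

theorem mem_center_of_mem_zpowers (hcc : c ∈ Subgroup.center S) {d : S}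
    (hd : d ∈ Subgroup.zpowers c) : d ∈ Subgroup.center S :=
  Subgroup.zpowers_le.2 hcc hd

theorem pow_of_mem_zpowers (hco : orderOf c = p) {d : S} (hd : d ∈ Subgroup.zpowers c) :
    d ^ p = 1 :=
  orderOf_dvd_iff_pow_eq_one.1 (hco ▸ orderOf_dvd_of_mem_zpowers hd)

/-- An element of exponent `p` with commutators in the centre line that does not commute with `y`. -/
theorem exists_w (hco : orderOf c = p) (hcc : c ∈ Subgroup.center S)
    (huniq : ∀ a ∈ Subgroup.center S, a ^ p = 1 → a ∈ Subgroup.zpowers c) :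
    ∃ w : S, w ^ p = 1 ∧ (∀ u : S, ⁅u, w⁆ ∈ Subgroup.zpowers c) ∧ ¬ Commute w y := by
  have := Fact.mk h.prime
  have hp := h.prime.two_le
  -- a normal subgroup of order `p` is the centre line
  have hline : ∀ K₁ : Subgroup S, K₁.Normal → Nat.card K₁ = p → K₁ ≤ Subgroup.zpowers c := by
    intro K₁ hn hc a ha
    have hlt : (⊥ : Subgroup S) < K₁ := bot_lt_iff_ne_bot.2 fun e => by
      rw [e, Subgroup.card_bot] at hc; omega
    refine huniq a (Subgroup.mem_center_iff.2 fun g => ?_) ?_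
    · have h1 := PGroup.commutator_mem_of_card h.pGroup hlt
        (by rw [hc, Subgroup.card_bot, mul_one]) ha g
      exact commutatorElement_eq_one_iff_mul_comm.1 (Subgroup.mem_bot.1 h1)
    · have h1 := congrArg Subtype.val (pow_card_eq_one' (x := (⟨a, ha⟩ : K₁)))
      rw [hc] at h1
      exact h1
  by_cases hr : Cfsg.PRankLE p 2 S
  · obtain ⟨P₁, hn, hc3, hexp, hna, hproj⟩ := h.narrow hr
    obtain ⟨w, hw, hwy⟩ : ∃ w ∈ P₁, ¬ Commute w y := by
      by_contra hall
      push Not at hall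
      exact hna ⟨⟨fun a b => Subtype.ext (h.comm a b (hall a a.2) (hall b b.2))⟩⟩
    obtain ⟨K₁, hK₁n, hK₁P, hK₁c⟩ := PGroup.exists_normal_le_card h.pGroup hc3 1 (by norm_num)
    rw [pow_one] at hK₁c
    refine ⟨w, hexp w hw, fun u => hline K₁ hK₁n hK₁c ?_, hwy⟩
    obtain ⟨u₁, hu₁, hu⟩ := hproj u
    rw [hu w hw]
    have hn' : (K₁.subgroupOf P₁).Normal := inferInstance
    have hq : Nat.card (P₁ ⧸ K₁.subgroupOf P₁) = p ^ 2 := by
      have h1 := Subgroup.card_eq_card_quotient_mul_card_subgroup (K₁.subgroupOf P₁)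
      rw [Nat.card_congr (Subgroup.subgroupOfEquivOfLe hK₁P).toEquiv, hK₁c, hc3, pow_succ] at h1
      exact (Nat.eq_of_mul_eq_mul_right h.prime.pos h1).symm
    have h2 := IsPGroup.commutative_of_card_eq_prime_sq hq
      (QuotientGroup.mk' (K₁.subgroupOf P₁) ⟨u₁, hu₁⟩) (QuotientGroup.mk' (K₁.subgroupOf P₁) ⟨w, hw⟩)
    have h3 : QuotientGroup.mk' (K₁.subgroupOf P₁) ⁅(⟨u₁, hu₁⟩ : P₁), ⟨w, hw⟩⁆ = 1 := by
      rw [map_commutatorElement]
      exact commutatorElement_eq_one_iff_mul_comm.2 h2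
    exact (QuotientGroup.eq_one_iff (N := K₁.subgroupOf P₁) _).1 h3
  · simp only [Cfsg.PRankLE, not_forall, not_le] at hr
    obtain ⟨E, hE1, hE2, hEc⟩ := hr
    have hp2 := h.ne_two
    have hE3 : p ^ 3 ≤ Nat.card E := by
      obtain ⟨i, hi⟩ := (h.pGroup.to_subgroup E).exists_card_eq
      rw [hi] at hEc ⊢
      exact Nat.pow_le_pow_right h.prime.pos ((Nat.pow_lt_pow_iff_right h.prime.one_lt).1 hEc)
    obtain ⟨Kc, hKn, hKc, hKe, hK⟩ := OddPrime.exists_normal_elementary_cube hp2 h.pGroup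
      (fun a ha b hb => congrArg Subtype.val (hE1.is_comm.comm ⟨a, ha⟩ ⟨b, hb⟩)) hE2 hE3
    obtain ⟨K₂, hK₂n, hK₂K, hK₂⟩ := PGroup.exists_normal_le_card h.pGroup hK 2 (by norm_num)
    obtain ⟨K₁, hK₁n, hK₁K, hK₁⟩ := PGroup.exists_normal_le_card h.pGroup hK₂ 1 (by norm_num)
    rw [pow_one] at hK₁
    have hlt : K₁ < K₂ := lt_of_le_of_ne hK₁K fun e => by
      rw [e, hK₂] at hK₁; nlinarith
    by_cases hall : ∀ w ∈ K₂, Commute w y
    · exfalso
      have heq : K₂ = h.omega := Subgroup.eq_of_le_of_card_ge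
        (fun a ha => ⟨hall a ha, hKe a (hK₂K ha)⟩) (by rw [hK₂]; exact h.card_omega)
      have hyK : y ∈ Kc := hK₂K (heq ▸ h.y_mem_omega)
      have h1 := h.rank Kc ⟨⟨⟨fun a b => Subtype.ext (hKc a a.2 b b.2)⟩⟩, hKe⟩
        fun e he => hKc e he y hyK
      rw [hK] at h1
      nlinarith
    · push Not at hall
      obtain ⟨w, hw, hwy⟩ := hall
      exact ⟨w, hKe w (hK₂K hw), fun u => hline K₁ hK₁n hK₁ (PGroup.commutator_mem_of_card h.pGroup
        hlt (by rw [hK₂, hK₁, pow_two]) hw u), hwy⟩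

/-- `y` is not a `p`-th power. -/
theorem not_pow (hco : orderOf c = p) (hcc : c ∈ Subgroup.center S)
    (huniq : ∀ a ∈ Subgroup.center S, a ^ p = 1 → a ∈ Subgroup.zpowers c) (z : S) : z ^ p ≠ y := by
  intro hz
  obtain ⟨w, -, hw, hwy⟩ := h.exists_w hco hcc huniq
  have hcen : ⁅z, w⁆ ∈ Subgroup.center S := h.mem_center_of_mem_zpowers hcc (hw z)
  have h1 := PGroup.commutator_pow_left (x := z) (y := w) (h.commute_center hcen z).symm p
  rw [hz, h.pow_of_mem_zpowers hco (hw z)] at h1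
  exact hwy (commutatorElement_eq_one_iff_mul_comm.1 h1).symm

/-- The elements of exponent `p` with all commutators in the centre line. -/
def upper (hco : orderOf c = p) (hcc : c ∈ Subgroup.center S) : Subgroup S where
  carrier := {v | v ^ p = 1 ∧ ∀ u : S, ⁅u, v⁆ ∈ Subgroup.zpowers c}
  one_mem' := ⟨one_pow p, fun u => by rw [commutatorElement_one_right]; exact one_mem _⟩
  mul_mem' := fun {a b} ha hb => by
    refine ⟨?_, fun u => ?_⟩
    · have hk : ⁅b, a⁆ ∈ Subgroup.zpowers c := ha.2 b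
      rw [PGroup.mul_pow_prime_eq h.prime h.ne_two
        (h.commute_center (h.mem_center_of_mem_zpowers hcc hk) a).symm
        (h.commute_center (h.mem_center_of_mem_zpowers hcc hk) b).symm
        (h.pow_of_mem_zpowers hco hk), ha.1, hb.1, one_mul]
    · rw [PGroup.commutator_mul_right
        (h.commute_center (h.mem_center_of_mem_zpowers hcc (hb.2 u)) a).symm]
      exact mul_mem (ha.2 u) (hb.2 u)
  inv_mem' := fun {a} ha => by
    refine ⟨by rw [inv_pow, ha.1, inv_one], fun u => ?_⟩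
    have h1 := PGroup.commutator_mul_right (x := u) (y := a⁻¹) (y' := a)
      (h.commute_center (h.mem_center_of_mem_zpowers hcc (ha.2 u)) a⁻¹).symm
    rw [inv_mul_cancel, commutatorElement_one_right] at h1
    rw [eq_inv_of_mul_eq_one_left h1.symm]
    exact inv_mem (ha.2 u)

theorem comm_mem_of_upper (hco : orderOf c = p) (hcc : c ∈ Subgroup.center S) {v : S}
    (hv : v ∈ h.upper hco hcc) (u : S) : ⁅v, u⁆ ∈ Subgroup.zpowers c := by
  rw [← commutatorElement_inv u v]
  exact inv_mem (hv.2 u)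

theorem map_zpowers_fix (hco : orderOf c = p) {φ : MulAut S} (hφc : φ c = c) {d : S}
    (hd : d ∈ Subgroup.zpowers c) : φ d = d := by
  obtain ⟨i, rfl⟩ := Subgroup.mem_zpowers_iff.1 hd
  rw [map_zpow, hφc]

theorem mem_center_map (φ : MulAut S) {a : S} (ha : a ∈ Subgroup.center S) :
    φ a ∈ Subgroup.center S := by
  refine Subgroup.mem_center_iff.2 fun g => φ.symm.injective ?_
  rw [map_mul, map_mul, MulEquiv.symm_apply_apply]
  exact Subgroup.mem_center_iff.1 ha _

/-- Without `y` in the upper layer a power `φ ^ (p - 1)` is trivial. -/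
theorem y_mem_upper (hco : orderOf c = p) (hcc : c ∈ Subgroup.center S)
    (huniq : ∀ a ∈ Subgroup.center S, a ^ p = 1 → a ∈ Subgroup.zpowers c)
    {φ : MulAut S} (hφc : φ c = c) (hφo : ¬ p ∣ orderOf φ) (hne : φ ^ (p - 1) ≠ 1)
    (hfree : ∀ n : ℕ, φ ^ n ≠ 1 → ∀ a : S, (φ ^ n) a = a →
      a ∈ commutator S ∧ (a ^ p = 1 → a ∈ Subgroup.zpowers c)) :
    y ∈ h.upper hco hcc := by
  by_contra hy
  have := Fact.mk h.prime
  obtain ⟨w, hwp, hw, hwy⟩ := h.exists_w hco hcc huniq
  have hwV : w ∈ h.upper hco hcc := ⟨hwp, hw⟩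
  set L := ⁅w, y⁆ with hL
  have hL1 : L ≠ 1 := fun e => hwy (commutatorElement_eq_one_iff_mul_comm.1 e)
  have hLc : L ∈ Subgroup.zpowers c := h.comm_mem_of_upper hco hcc hwV y
  have hLo : orderOf L = p := orderOf_eq_prime (h.pow_of_mem_zpowers hco hLc) hL1
  have hgen : Subgroup.zpowers L = Subgroup.zpowers c :=
    Subgroup.eq_of_le_of_card_ge (Subgroup.zpowers_le.2 hLc)
      (by rw [Nat.card_zpowers, Nat.card_zpowers, hLo, hco])
  have hφV : φ w ∈ h.upper hco hcc := by
    refine ⟨by rw [← map_pow, hwp, map_one], fun u => ?_⟩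
    have h1 : ⁅u, φ w⁆ = φ ⁅φ.symm u, w⁆ := by
      rw [map_commutatorElement, MulEquiv.apply_symm_apply]
    rw [h1, h.map_zpowers_fix hco hφc (hw _)]
    exact hw _
  obtain ⟨i, hi⟩ := Subgroup.mem_zpowers_iff.1
    (hgen.symm ▸ h.comm_mem_of_upper hco hcc hφV y : ⁅φ w, y⁆ ∈ Subgroup.zpowers L)
  set χ : h.upper hco hcc →* S :=
    MonoidHom.mk' (fun v => ⁅(v : S), y⁆) (fun a b => comm_mul_left
      (h.mem_center_of_mem_zpowers hcc (h.comm_mem_of_upper hco hcc b.2 y)))
  set a : h.upper hco hcc := (⟨w, hwV⟩ ^ i)⁻¹ * ⟨φ w, hφV⟩ with ha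
  have hay : Commute (a : S) y := by
    have h1 : χ a = 1 := by
      rw [ha, map_mul, map_inv, map_zpow]
      show (L ^ i)⁻¹ * ⁅φ w, y⁆ = 1
      rw [← hi, inv_mul_cancel]
    exact commutatorElement_eq_one_iff_mul_comm.1 h1
  obtain ⟨d, hd, j, hdj⟩ := h.exists_of_mem_omega hco hcc (⟨hay, a.2.1⟩ : (a : S) ∈ h.omega)
  have hdV : d ∈ h.upper hco hcc := ⟨h.pow_of_mem_zpowers hco hd, fun u => by
    rw [commutatorElement_eq_one_iff_mul_comm.2
      (h.commute_center (h.mem_center_of_mem_zpowers hcc hd) u).symm.eq]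
    exact one_mem _⟩
  have hyj : y ^ j ∈ h.upper hco hcc := by
    have h1 : d⁻¹ * (a : S) = y ^ j := by rw [hdj, inv_mul_cancel_left]
    rw [← h1]
    exact mul_mem (inv_mem hdV) a.2
  have hj1 : y ^ j = 1 := by
    by_contra hj
    apply hy
    have hyo : orderOf y = p := orderOf_eq_prime h.y_pow h.y_ne_one
    have hjo : orderOf (y ^ j) = p := orderOf_eq_prime (by
      rw [← zpow_natCast, ← zpow_mul, mul_comm, zpow_mul, zpow_natCast, h.y_pow, one_zpow]) hj
    have heq : Subgroup.zpowers (y ^ j) = Subgroup.zpowers y :=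
      Subgroup.eq_of_le_of_card_ge (Subgroup.zpowers_le.2 (Subgroup.zpow_mem _
        (Subgroup.mem_zpowers y) j)) (by rw [Nat.card_zpowers, Nat.card_zpowers, hyo, hjo])
    exact (Subgroup.zpowers_le.2 hyj) (heq.ge (Subgroup.mem_zpowers y))
  have hφw : φ w = w ^ i * d := by
    rw [hj1, mul_one] at hdj
    rw [← hdj, ha]
    push_cast
    group
  have hiter : ∀ n : ℕ, ∃ e ∈ Subgroup.zpowers c, (φ ^ n) w = w ^ (i ^ n) * e := by
    intro n
    induction n with
    | zero => exact ⟨1, one_mem _, by simp⟩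
    | succ n ih =>
      obtain ⟨e, he, hn⟩ := ih
      refine ⟨d ^ (i ^ n) * e, mul_mem (zpow_mem hd _) he, ?_⟩
      rw [pow_succ', MulAut.mul_apply, hn, map_mul, map_zpow, hφw, h.map_zpowers_fix hco hφc he,
        (h.commute_center (h.mem_center_of_mem_zpowers hcc hd) (w ^ i)).symm.mul_zpow, ← zpow_mul,
        ← pow_succ', mul_assoc]
  have hip : ((i : ZMod p)) ≠ 0 := by
    intro h0
    obtain ⟨k, rfl⟩ := (ZMod.intCast_zmod_eq_zero_iff_dvd i p).1 h0
    have hwc : φ w ∈ Subgroup.center S := by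
      rw [hφw, zpow_mul, zpow_natCast, hwp, one_zpow, one_mul]
      exact h.mem_center_of_mem_zpowers hcc hd
    have := h.mem_center_map φ⁻¹ hwc
    rw [MulAut.inv_apply, MulEquiv.symm_apply_apply] at this
    exact hwy (h.commute_center this y)
  obtain ⟨e, he, hn⟩ := hiter (p - 1)
  have hpow : w ^ (i ^ (p - 1)) = w := by
    have h1 : ((i ^ (p - 1) : ℤ) : ZMod p) = ((1 : ℤ) : ZMod p) := by
      push_cast
      exact ZMod.pow_card_sub_one_eq_one hip
    obtain ⟨k, hk⟩ := (ZMod.intCast_eq_intCast_iff_dvd_sub _ _ p).1 h1.symm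
    rw [show i ^ (p - 1) = (p : ℤ) * k + 1 by linarith, zpow_add, zpow_mul, zpow_natCast, hwp,
      one_zpow, one_mul, zpow_one]
  rw [hpow] at hn
  have he1 : e = 1 := eq_one_of_shift h.prime
    (fun hd' => hφo (hd'.trans (orderOf_pow_dvd _))) hn
    (h.map_zpowers_fix hco (by
      have : ∀ m : ℕ, (φ ^ m) c = c := fun m => by
        induction m with
        | zero => simp
        | succ m ih => rw [pow_succ', MulAut.mul_apply, ih, hφc]
      exact this _) he) (h.pow_of_mem_zpowers hco he)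
  rw [he1, mul_one] at hn
  exact hwy (h.commute_center (h.mem_center_of_mem_zpowers hcc ((hfree _ hne w hn).2 hwp)) y)

theorem mat_identity {t : ZMod p} {A : Matrix (Fin 2) (Fin 2) (ZMod p)}
    (hA : A * A + 1 = t • A) :
    A ^ (p + 1) * A ^ (p - 1) + 1 = A ^ (p + 1) + A ^ (p - 1) := by
  have := Fact.mk h.prime
  have hp := h.prime.one_lt
  have h1 : A ^ (p + 1) * A ^ (p - 1) + 1 = t • A ^ p := by
    have h2 := congrArg (· ^ p) hA
    simp only [smul_pow, ZMod.pow_card] at h2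
    rw [add_pow_char_of_commute p (Commute.one_right (A * A)), one_pow,
      (Commute.refl A).mul_pow, ← pow_add] at h2
    rw [← pow_add, show p + 1 + (p - 1) = p + p by omega, h2]
  rw [h1]
  have h3 : A ^ (p + 1) + A ^ (p - 1) = A ^ (p - 1) * (A * A + 1) := by
    rw [mul_add, mul_one, ← pow_two, ← pow_add, show p - 1 + 2 = p + 1 by omega]
  rw [h3, hA, mul_smul_comm, ← pow_succ, show p - 1 + 1 = p by omega]

/-- An automorphism with few fixed points and `φ ^ (p - 1) ≠ 1`. -/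
theorem card_eq_and_pow (hco : orderOf c = p) (hcc : c ∈ Subgroup.center S)
    (huniq : ∀ a ∈ Subgroup.center S, a ^ p = 1 → a ∈ Subgroup.zpowers c)
    {φ : MulAut S} (hφc : φ c = c) (hφo : ¬ p ∣ orderOf φ) (hne : φ ^ (p - 1) ≠ 1)
    (hfree : ∀ n : ℕ, φ ^ n ≠ 1 → ∀ a : S, (φ ^ n) a = a →
      a ∈ commutator S ∧ (a ^ p = 1 → a ∈ Subgroup.zpowers c)) :
    Nat.card S = p ^ 3 ∧ φ ^ (p + 1) = 1 := by
  classical
  have := Fact.mk h.prime
  obtain ⟨w, hwp, hw, hwy⟩ := h.exists_w hco hcc huniq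
  have hwV : w ∈ h.upper hco hcc := ⟨hwp, hw⟩
  have hyV := h.y_mem_upper hco hcc huniq hφc hφo hne hfree
  have hcen : ∀ {d : S}, d ∈ Subgroup.zpowers c → d ∈ Subgroup.center S :=
    fun hd => h.mem_center_of_mem_zpowers hcc hd
  set L := ⁅w, y⁆ with hL
  have hL1 : L ≠ 1 := fun e => hwy (commutatorElement_eq_one_iff_mul_comm.1 e)
  have hLc : L ∈ Subgroup.zpowers c := h.comm_mem_of_upper hco hcc hwV y
  have hLo : orderOf L = p := orderOf_eq_prime (h.pow_of_mem_zpowers hco hLc) hL1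
  have hgen : Subgroup.zpowers L = Subgroup.zpowers c :=
    Subgroup.eq_of_le_of_card_ge (Subgroup.zpowers_le.2 hLc)
      (by rw [Nat.card_zpowers, Nat.card_zpowers, hLo, hco])
  -- `u = w ^ i * y ^ j * t` with `t` central
  set χy : S →* S := MonoidHom.mk' (fun u => ⁅u, y⁆) (fun a b => comm_mul_left (hcen (hyV.2 b)))
  set χw : S →* S := MonoidHom.mk' (fun u => ⁅u, w⁆) (fun a b => comm_mul_left (hcen (hw b)))
  have hdec : ∀ u : S, ∃ (i j : ℤ) (t : S), t ∈ Subgroup.center S ∧ u = w ^ i * y ^ j * t := by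
    intro u
    obtain ⟨i, hi⟩ := Subgroup.mem_zpowers_iff.1 (hgen.symm ▸ hyV.2 u : ⁅u, y⁆ ∈ Subgroup.zpowers L)
    have hu' : ∀ v : S, ∀ k : ℤ, χy v = L ^ k → Commute ((w ^ k)⁻¹ * v) y := fun v k hk => by
      refine commutatorElement_eq_one_iff_mul_comm.1 ?_
      show χy ((w ^ k)⁻¹ * v) = 1
      rw [map_mul, map_inv, map_zpow, hk]
      exact inv_mul_cancel _
    set u' := (w ^ i)⁻¹ * u with hu'def
    have hu'y : Commute u' y := hu' u i hi.symm
    obtain ⟨j, hj⟩ := Subgroup.mem_zpowers_iff.1 (hgen.symm ▸ hw u' : ⁅u', w⁆ ∈ Subgroup.zpowers L)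
    refine ⟨i, -j, y ^ j * u', Subgroup.mem_center_iff.2 fun g => ?_, by
      rw [hu'def, zpow_neg]; group⟩
    have hty : Commute (y ^ j * u') y := ((Commute.refl y).zpow_left j).mul_left hu'y
    have htw : Commute (y ^ j * u') w := by
      refine commutatorElement_eq_one_iff_mul_comm.1 ?_
      show χw (y ^ j * u') = 1
      rw [map_mul, map_zpow]
      show ⁅y, w⁆ ^ j * ⁅u', w⁆ = 1
      rw [← hj, ← commutatorElement_inv w y, inv_zpow, ← hL, inv_mul_cancel]
    obtain ⟨k, hk⟩ := Subgroup.mem_zpowers_iff.1 (hgen.symm ▸ hyV.2 g : ⁅g, y⁆ ∈ Subgroup.zpowers L)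
    have hg : Commute ((w ^ k)⁻¹ * g) (y ^ j * u') := h.comm _ _ (hu' g k hk.symm) hty
    have h2 := ((htw.zpow_right k).mul_right hg.symm)
    rw [mul_inv_cancel_left] at h2
    exact h2.eq.symm
  have hcomm : ∀ a b : S, ⁅a, b⁆ ∈ Subgroup.zpowers c := by
    intro a b
    obtain ⟨i, j, t, ht, rfl⟩ := hdec a
    have h0 : ⁅t, b⁆ = 1 := commutatorElement_eq_one_iff_mul_comm.2 (h.commute_center ht b).eq
    have h1 := h.comm_mem_of_upper hco hcc (zpow_mem hwV i) b
    have h2 := h.comm_mem_of_upper hco hcc (zpow_mem hyV j) b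
    rw [comm_mul_left (h0 ▸ one_mem _), h0, mul_one, comm_mul_left (hcen h2)]
    exact mul_mem h1 h2
  have hcle : commutator S ≤ Subgroup.zpowers c := by
    rw [commutator_def]
    exact Subgroup.commutator_le.2 fun a _ b _ => hcomm a b
  have hφ1 : φ ≠ 1 := fun e => hne (by rw [e, one_pow])
  have hfixc : ∀ (k : ℕ), ∀ t ∈ Subgroup.center S, t ^ p ^ k = 1 → φ t = t := by
    intro k
    induction k with
    | zero => intro t _ h1; rw [pow_zero, pow_one] at h1; rw [h1, map_one]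
    | succ k ih =>
      intro t ht h1
      have htp : φ (t ^ p) = t ^ p := ih _ (pow_mem ht p) (by rwa [← pow_mul, ← pow_succ'])
      have hφt := h.mem_center_map φ ht
      set d := t⁻¹ * φ t with hd
      have hdp : d ^ p = 1 := by
        rw [hd, (h.commute_center (inv_mem ht) (φ t)).mul_pow, ← map_pow, htp, inv_pow,
          inv_mul_cancel]
      have hdc : d ∈ Subgroup.zpowers c := huniq d (mul_mem (inv_mem ht) hφt) hdp
      have h1' : φ t = t * d := by rw [hd, mul_inv_cancel_left]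
      rw [h1', eq_one_of_shift h.prime hφo h1' (h.map_zpowers_fix hco hφc hdc) hdp, mul_one]
  have hcenfix : ∀ t ∈ Subgroup.center S, φ t = t := fun t ht => by
    obtain ⟨k, hk⟩ := h.pGroup t
    exact hfixc k t ht hk
  have hcenle : Subgroup.center S ≤ Subgroup.zpowers c := fun t ht =>
    hcle ((hfree 1 (by rwa [pow_one]) t (by rw [pow_one]; exact hcenfix t ht)).1)
  -- coordinates
  let lg : S → ZMod p := fun a =>
    if hh : ∃ i : ℤ, L ^ i = a then ((hh.choose : ℤ) : ZMod p) else 0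
  have lg_zpow : ∀ i : ℤ, lg (L ^ i) = (i : ZMod p) := by
    intro i
    have hh : ∃ j : ℤ, L ^ j = L ^ i := ⟨i, rfl⟩
    show dite _ _ _ = _
    rw [dif_pos hh]
    refine (ZMod.intCast_eq_intCast_iff _ _ p).2 ?_
    have h1 := zpow_eq_zpow_iff_modEq.1 hh.choose_spec
    rwa [hLo] at h1
  have lg_mul : ∀ a b : S, a ∈ Subgroup.zpowers c → b ∈ Subgroup.zpowers c →
      lg (a * b) = lg a + lg b := by
    intro a b ha hb
    obtain ⟨i, rfl⟩ := Subgroup.mem_zpowers_iff.1 (hgen.symm ▸ ha : a ∈ Subgroup.zpowers L)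
    obtain ⟨j, rfl⟩ := Subgroup.mem_zpowers_iff.1 (hgen.symm ▸ hb : b ∈ Subgroup.zpowers L)
    rw [← zpow_add, lg_zpow, lg_zpow, lg_zpow, Int.cast_add]
  have lg_eq_zero : ∀ a : S, a ∈ Subgroup.zpowers c → lg a = 0 → a = 1 := by
    intro a ha h0
    obtain ⟨i, rfl⟩ := Subgroup.mem_zpowers_iff.1 (hgen.symm ▸ ha : a ∈ Subgroup.zpowers L)
    rw [lg_zpow] at h0
    refine orderOf_dvd_iff_zpow_eq_one.1 ?_
    rw [hLo]
    exact (ZMod.intCast_zmod_eq_zero_iff_dvd i p).1 h0
  let B : S → S → ZMod p := fun u v => lg ⁅u, v⁆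
  have B_add : ∀ a b v, B (a * b) v = B a v + B b v := fun a b v => by
    show lg _ = _
    rw [comm_mul_left (hcen (hcomm b v)), lg_mul _ _ (hcomm a v) (hcomm b v)]
  have B_one : ∀ v, B 1 v = 0 := fun v => by
    have h1 := B_add 1 1 v
    rw [one_mul] at h1
    simpa using h1
  have B_inv : ∀ a v, B a⁻¹ v = - B a v := fun a v => by
    have h1 := B_add a⁻¹ a v
    rw [inv_mul_cancel, B_one] at h1
    linear_combination -h1
  have B_swap : ∀ u v, B v u = - B u v := fun u v => by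
    show lg _ = _
    obtain ⟨i, hi⟩ := Subgroup.mem_zpowers_iff.1 (hgen.symm ▸ hcomm u v : ⁅u, v⁆ ∈ Subgroup.zpowers L)
    show _ = - lg ⁅u, v⁆
    rw [← commutatorElement_inv u v, ← hi, ← zpow_neg, lg_zpow, lg_zpow, Int.cast_neg]
  have B_zpow : ∀ (a v : S) (i : ℤ), B (a ^ i) v = i * B a v := fun a v i => by
    induction i using Int.induction_on with
    | zero => simp [B_one]
    | succ i ih => rw [zpow_add_one, B_add, ih]; push_cast; ring
    | pred i ih => rw [zpow_sub_one, B_add, ih, B_inv]; push_cast; ring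
  have B_center : ∀ t ∈ Subgroup.center S, ∀ v, B t v = 0 := fun t ht v => by
    show lg _ = 0
    rw [commutatorElement_eq_one_iff_mul_comm.2 (h.commute_center ht v).eq]
    simpa using lg_zpow 0
  have B_expand : ∀ (i j : ℤ) (t v : S), t ∈ Subgroup.center S →
      B (w ^ i * y ^ j * t) v = i * B w v + j * B y v := fun i j t v ht => by
    rw [B_add, B_add, B_zpow, B_zpow, B_center t ht, add_zero]
  have B_self : ∀ u, B u u = 0 := fun u => by
    show lg _ = 0
    rw [commutatorElement_self]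
    simpa using lg_zpow 0
  have B_wy : B w y = 1 := by
    show lg L = 1
    simpa using lg_zpow 1
  have B_yw : B y w = -1 := by rw [B_swap w y, B_wy]
  have B_form : ∀ u v, B u v = B v y * B u w - B v w * B u y := fun u v => by
    obtain ⟨i, j, t, ht, rfl⟩ := hdec v
    rw [B_swap _ u, B_expand i j t u ht, B_expand i j t y ht, B_expand i j t w ht, B_swap u w,
      B_swap u y, B_wy, B_yw, B_self, B_self]
    ring
  have B_map : ∀ u v, B (φ u) (φ v) = B u v := fun u v => by
    show lg _ = lg _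
    rw [← map_commutatorElement, h.map_zpowers_fix hco hφc (hcomm u v)]
  let π : S →* Multiplicative (Fin 2 → ZMod p) :=
    MonoidHom.mk' (fun u => Multiplicative.ofAdd ![B u y, B u w]) (fun a b => by
      rw [← ofAdd_add]
      congr 1
      ext k
      fin_cases k <;> simp [B_add])
  have hker : π.ker = Subgroup.zpowers c := by
    refine le_antisymm (fun u hu => ?_) fun u hu => ?_
    · have h1 : ![B u y, B u w] = 0 := congrArg Multiplicative.toAdd (MonoidHom.mem_ker.1 hu)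
      have hy0 : B u y = 0 := by simpa using congrFun h1 0
      have hw0 : B u w = 0 := by simpa using congrFun h1 1
      refine hcenle (Subgroup.mem_center_iff.2 fun g => ?_)
      have hg : B u g = 0 := by rw [B_form u g, hy0, hw0]; ring
      exact (commutatorElement_eq_one_iff_mul_comm.1 (lg_eq_zero _ (hcomm u g) hg)).symm
    · refine MonoidHom.mem_ker.2 ?_
      show Multiplicative.ofAdd ![B u y, B u w] = 1
      rw [B_center u (hcen hu), B_center u (hcen hu)]
      apply Multiplicative.toAdd.injective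
      ext k
      fin_cases k <;> rfl
  have hsurj : Function.Surjective π := by
    intro x
    refine ⟨w ^ ((x.toAdd 0).val : ℤ) * y ^ (-((x.toAdd 1).val : ℤ)) * 1, ?_⟩
    apply Multiplicative.toAdd.injective
    show ![B _ y, B _ w] = x.toAdd
    ext k
    fin_cases k
    · simp only [Matrix.cons_val_zero, Fin.zero_eta]
      rw [B_expand _ _ _ _ (one_mem _), B_wy, B_self]
      simp
    · simp only [Fin.mk_one, Matrix.cons_val_one, Matrix.cons_val_fin_one]
      rw [B_expand _ _ _ _ (one_mem _), B_yw, B_self]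
      simp
  refine ⟨?_, ?_⟩
  · have h1 := Subgroup.card_eq_card_quotient_mul_card_subgroup π.ker
    rw [Nat.card_congr (QuotientGroup.quotientKerEquivOfSurjective π hsurj).toEquiv, hker,
      Nat.card_zpowers, hco, Nat.card_congr Multiplicative.toAdd, Nat.card_fun, Nat.card_zmod,
      Nat.card_fin] at h1
    rw [h1, pow_succ p 2]
  -- the matrix of `φ`
  set A : Matrix (Fin 2) (Fin 2) (ZMod p) := !![B (φ w) y, -B (φ y) y; B (φ w) w, -B (φ y) w]
    with hA
  have hdet : -(B (φ w) y * B (φ y) w) + B (φ y) y * B (φ w) w = 1 := by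
    rw [← B_wy, ← B_map w y, B_form (φ w) (φ y)]
    ring
  have hCH : A * A + 1 = (B (φ w) y + -B (φ y) w) • A := by
    ext a b
    fin_cases a <;> fin_cases b <;>
      simp [hA, Matrix.mul_apply, Fin.sum_univ_two] <;>
      first | ring1 | linear_combination -hdet | linear_combination hdet
  have hπφ : ∀ u, (π (φ u)).toAdd = Matrix.mulVec A (π u).toAdd := by
    intro u
    obtain ⟨i, j, t, ht, rfl⟩ := hdec u
    have e1 : ∀ v, B (φ (w ^ i * y ^ j * t)) v = i * B (φ w) v + j * B (φ y) v := fun v => by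
      rw [map_mul, map_mul, map_zpow, map_zpow, B_add, B_add, B_zpow, B_zpow,
        B_center _ (h.mem_center_map φ ht), add_zero]
    show ![B _ y, B _ w] = Matrix.mulVec A ![B _ y, B _ w]
    rw [e1, e1, B_expand i j t y ht, B_expand i j t w ht, B_wy, B_yw, B_self, B_self]
    ext a
    fin_cases a <;> simp [hA, Matrix.mulVec, dotProduct, Fin.sum_univ_two] <;> ring
  have hπpow : ∀ (n : ℕ) u, (π ((φ ^ n) u)).toAdd = Matrix.mulVec (A ^ n) (π u).toAdd := by
    intro n u
    induction n with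
    | zero => simp
    | succ n ih => rw [pow_succ', MulAut.mul_apply, hπφ, ih, Matrix.mulVec_mulVec, ← pow_succ']
  by_contra hne2
  apply hne
  ext u
  set ψ := φ ^ (p + 1) with hψ
  set u₁ := (φ ^ (p - 1)) u * u⁻¹ with hu₁
  have hfix : ∀ (m : ℕ) {d : S}, d ∈ Subgroup.zpowers c → (φ ^ m) d = d := by
    intro m d hd
    induction m with
    | zero => simp
    | succ m ih => rw [pow_succ', MulAut.mul_apply, ih, h.map_zpowers_fix hco hφc hd]
  have hord : ∀ m : ℕ, ¬ p ∣ orderOf (φ ^ m) := fun m hd => hφo (hd.trans (orderOf_pow_dvd m))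
  have hd : u₁⁻¹ * ψ u₁ ∈ Subgroup.zpowers c := by
    rw [← hker, MonoidHom.mem_ker]
    apply Multiplicative.toAdd.injective
    rw [map_mul, map_inv, toAdd_mul, toAdd_inv, hψ, hπpow, hu₁, map_mul, map_inv, toAdd_mul,
      toAdd_inv, hπpow, Matrix.mulVec_add, Matrix.mulVec_neg, Matrix.mulVec_mulVec, toAdd_one]
    have hid := congrArg (fun X => Matrix.mulVec X (π u).toAdd) (h.mat_identity hCH)
    simp only [Matrix.add_mulVec, Matrix.one_mulVec] at hid
    linear_combination (norm := module) hid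
  have h1 : ψ u₁ = u₁ * (u₁⁻¹ * ψ u₁) := by group
  have hfixed : ψ u₁ = u₁ := by
    rw [h1, eq_one_of_shift h.prime (hord _) h1 (hfix _ hd) (h.pow_of_mem_zpowers hco hd), mul_one]
  have hu₁c : u₁ ∈ Subgroup.zpowers c := hcle (hfree _ hne2 u₁ hfixed).1
  have h2 : (φ ^ (p - 1)) u = u * u₁ := by
    rw [(h.commute_center (hcen hu₁c) u).symm.eq, hu₁, inv_mul_cancel_right]
  rw [h2, eq_one_of_shift h.prime (hord _) h2 (hfix _ hu₁c) (h.pow_of_mem_zpowers hco hu₁c),
    mul_one, MulAut.one_apply]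

end Small

end Cfsg.Agent.OddOrder14.SmallCent
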