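import Cfsg.Agent.Lib.OddOrder14.Tau

/-!
# Bender-Glauberman 14.11: the maximal subgroup over `N(R)`, `R` a Sylow subgroup of `U`

* `FcoreFact`: the consequence of 15.2 used in 14.11 and 14.12
* `NData`: the hypotheses of 14.11; `NData.kappa_empty`, `NData.fix_k`, `NData.u_le_sigmaCore`,
  `NData.inf_eq`, `NData.not_normalizer_le`, `NData.inf_partner`
-/

set_option autoImplicit false
set_option linter.unusedSectionVars false

open scoped Pointwise

universe u

namespace Cfsg.Agent.OddOrder14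

open Cfsg.Agent.Solvable

variable {G : Type u} [Group G] [Finite G]

/-- What 14.11 and 14.12 need from BG 15.2. -/
def FcoreFact (G : Type u) [Group G] : Prop :=
  ∀ (M : Subgroup G), IsCoatom M → ∀ (K U : Subgroup G), Cfsg.IsSigmaDecomposition M K U →
    K ≠ ⊥ → Cfsg.fittingHallOf M ≠ Cfsg.sigmaCore M →
    kStar M K ≤ Cfsg.fittingHallOf M ∧ ¬ IsCyclic (Cfsg.fittingHallOf M)

theorem KData.kstar_le_fcore {M K E U : Subgroup G} (D : KData M K E U) (hU : Upstream G)
    (F : FcoreFact G) : kStar M K ≤ Cfsg.fittingHallOf M := by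
  by_cases h : Cfsg.fittingHallOf M = Cfsg.sigmaCore M
  · rw [h]; exact inf_le_left
  · obtain ⟨V, hV⟩ := hU.exists_decomposition D.isCoatom (D.isCyclic_k hU) D.hall
    exact (F M D.isCoatom K V hV D.ne_bot h).1

theorem KData.u_inf_z {M K E U : Subgroup G} (D : KData M K E U) :
    U ⊓ (K ⊔ kStar M K) = ⊥ := by
  refine inf_eq_bot_of_pi (π := (Cfsg.kappa M ∪ Cfsg.sigma M)ᶜ) D.u_hall.2.1 ?_
  rw [compl_compl, D.card_z]
  intro p hp hd
  rcases hp.dvd_mul.1 hd with h | h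
  · exact Or.inl (D.hall.2.1 p hp h)
  · exact Or.inr (mem_sigma_of_dvd_sigmaCore hp (h.trans (Subgroup.card_dvd_of_le inf_le_left)))

/-- A Sylow subgroup of an abelian group contains every `p`-subgroup. -/
theorem le_sylow_of_comm {U R Y : Subgroup G} {p : ℕ} [hp : Fact p.Prime] [IsMulCommutative U]
    (hR : R ≤ U) (hRp : IsPGroup p R) (hi : ¬ p ∣ R.relIndex U) (hY : Y ≤ U) (hYp : IsPGroup p Y) :
    Y ≤ R := by
  have hn : Y ≤ Subgroup.normalizer (R : Set G) := fun y hy =>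
    Coprime.mem_normalizer_of_forall fun z hz => by
      rwa [setLike_mul_comm (hY hy) (hR hz), mul_inv_cancel_right]
  obtain ⟨j, hj⟩ := (hYp.to_sup_of_normal_right' hRp hn).exists_card_eq
  obtain ⟨i, -, hi'⟩ := (Nat.dvd_prime_pow hp.out).1
    (hj ▸ Subgroup.relIndex_dvd_card R (Y ⊔ R))
  have hd : R.relIndex (Y ⊔ R) ∣ R.relIndex U :=
    ⟨_, (Subgroup.relIndex_mul_relIndex R (Y ⊔ R) U le_sup_right (sup_le hY hR)).symm⟩
  have h1 : R.relIndex (Y ⊔ R) = 1 := by
    rcases Nat.eq_zero_or_pos i with h | h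
    · rw [hi', h, pow_zero]
    · exact absurd (((dvd_pow_self p h.ne').trans hi'.symm.dvd).trans hd) hi
  exact le_sup_left.trans (Subgroup.relIndex_eq_one.1 h1)

/-- A subgroup of a cyclic group is normalised by the normaliser of the group. -/
theorem normalizer_le_of_cyclic {S T : Subgroup G} (hT : IsCyclic T) (hST : S ≤ T) :
    Subgroup.normalizer (T : Set G) ≤ Subgroup.normalizer (S : Set G) := by
  intro g hg
  refine Coprime.mem_normalizer_of_forall fun x hx => ?_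
  have h := zpowers_eq_of_cyclic hT ((Subgroup.mem_normalizer_iff.1 hg x).1 (hST hx)) (hST hx)
    (orderOf_conj_eq g x)
  exact Subgroup.zpowers_le.2 hx (h ▸ Subgroup.mem_zpowers _)

theorem exists_sylow_sub (U : Subgroup G) (p : ℕ) [Fact p.Prime] :
    ∃ S : Subgroup G, S ≤ U ∧ IsPGroup p S ∧ ¬ p ∣ S.relIndex U := by
  obtain ⟨P⟩ : Nonempty (Sylow p U) := inferInstance
  exact ⟨_, Subgroup.map_subtype_le _, P.2.map _, OddMax.sylow_relIndex P⟩

theorem sylow_ne_bot {U S : Subgroup G} {p : ℕ} [hp : Fact p.Prime] (hS : S ≤ U)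
    (hd : p ∣ Nat.card U) (hi : ¬ p ∣ S.relIndex U) : S ≠ ⊥ := by
  rintro rfl
  rw [Subgroup.relIndex_bot_left] at hi
  exact hi hd

/-- The hypotheses of BG 14.11. -/
structure NData (M K E U L : Subgroup G) (r : ℕ) (R H : Subgroup G) : Prop where
  data : KData M K E U
  pair : Pair M K L
  u_ne : U ≠ ⊥
  isCoatom : IsCoatom H
  prime : r.Prime
  dvd : r ∣ Nat.card U
  r_le : R ≤ U
  r_pgroup : IsPGroup r R
  r_index : ¬ r ∣ R.relIndex U
  normalizer_le_h : Subgroup.normalizer (R : Set G) ≤ H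

namespace NData

variable {M K E U L R H : Subgroup G} {r : ℕ} (T : NData M K E U L r R H)
include T

theorem r_ne_bot : R ≠ ⊥ :=
  haveI := Fact.mk T.prime
  sylow_ne_bot T.r_le T.dvd T.r_index

theorem r_not : r ∉ Cfsg.kappa M ∪ Cfsg.sigma M := T.data.u_hall.2.1 r T.prime T.dvd

theorem r_index_m : ¬ r ∣ R.relIndex M := by
  rw [← Subgroup.relIndex_mul_relIndex R U M T.r_le T.data.u_hall.1]
  exact T.prime.not_dvd_mul T.r_index (T.data.u_hall.2.2 r T.prime T.r_not)

theorem u_le : U ≤ H := by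
  have := T.data.u_comm
  refine le_trans (fun u hu => ?_) T.normalizer_le_h
  exact Coprime.mem_normalizer_of_forall fun z hz => by
    rwa [setLike_mul_comm hu (T.r_le hz), mul_inv_cancel_right]

theorem k_le : K ≤ H := by
  have := Fact.mk T.prime
  have := T.data.u_comm
  refine le_trans (fun k hk => ?_) T.normalizer_le_h
  rw [mem_normalizer_iff_conj]
  refine Subgroup.eq_of_le_of_card_ge (le_sylow_of_comm T.r_le T.r_pgroup T.r_index ?_ ?_)
    (card_conj k R).ge
  · exact (conj_mono k T.r_le).trans (mem_normalizer_iff_conj.1 (T.data.k_normalizes_u hk)).le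
  · exact T.r_pgroup.map _

theorem h_ne : H ≠ M := by
  intro h
  have := Fact.mk T.prime
  refine T.r_not (Or.inr (OddMax.mem_sigma_iff.2 ⟨T.dvd.trans (Subgroup.card_dvd_of_le T.data.u_hall.1),
    R, T.r_le.trans T.data.u_hall.1, T.r_pgroup, T.r_index_m, h ▸ T.normalizer_le_h⟩))

theorem not_conj_left (g : G) : H ≠ MulAut.conj g • M := by
  intro h
  have := Fact.mk T.prime
  have hRH : R ≤ H := T.r_le.trans T.u_le
  refine T.r_not (Or.inr ?_)
  rw [← sigma_conj g M, ← h]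
  refine OddMax.mem_sigma_iff.2 ⟨T.dvd.trans (Subgroup.card_dvd_of_le T.u_le), R, hRH, T.r_pgroup,
    ?_, T.normalizer_le_h⟩
  have heq : R.relIndex H = R.relIndex M := Nat.eq_of_mul_eq_mul_left Nat.card_pos
    ((card_mul_relIndex hRH).trans ((by rw [h, card_conj] : Nat.card H = Nat.card M).trans
      (card_mul_relIndex (T.r_le.trans T.data.u_hall.1)).symm))
  rw [heq]
  exact T.r_index_m

/-- A non-trivial subgroup of `U` does not lie in `L`. -/
theorem not_le_partner (hU : Upstream G) {S : Subgroup G} (hS : S ≤ U) (hS1 : S ≠ ⊥) : ¬ S ≤ L := by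
  intro hSL
  refine hS1 (le_bot_iff.1 (le_trans (le_inf hS ?_) T.data.u_inf_z.le))
  rw [← T.pair.inf_eq hU]
  exact le_inf (hS.trans T.data.u_hall.1) hSL

theorem not_conj_right (hU : Upstream G) (g : G) : H ≠ MulAut.conj g • L := by
  intro h
  obtain ⟨E₂, U₂, D₂⟩ := T.pair.right
  have hg : g ∈ L := by
    by_contra hg
    refine T.data.ne_bot (le_bot_iff.1 ((le_inf T.pair.star_star.ge ?_).trans
      (D₂.kstar_inf_conj hU hg).le))
    rw [← h]; exact T.k_le
  rw [conj_eq_self hg] at h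
  exact T.not_le_partner hU le_rfl T.u_ne (h ▸ T.u_le)

theorem kappa_empty (hU : Upstream G) : Cfsg.kappa H = ∅ := by
  rw [Set.eq_empty_iff_forall_notMem]
  intro p hp
  obtain ⟨g, hg | hg⟩ := T.pair.two_classes hU T.isCoatom ⟨p, hp⟩
  · exact T.not_conj_left g hg
  · exact T.not_conj_right hU g hg

theorem sigma_disjoint_left (hU : Upstream G) {p : ℕ} (hp : p ∈ Cfsg.sigma M) :
    p ∉ Cfsg.sigma H := fun h => by
  obtain ⟨g, hg⟩ := hU.conj_of_sigma T.data.isCoatom T.isCoatom hp h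
  exact T.not_conj_left g hg

theorem sigma_disjoint_right (hU : Upstream G) {p : ℕ} (hp : p ∈ Cfsg.sigma L) :
    p ∉ Cfsg.sigma H := fun h => by
  obtain ⟨g, hg⟩ := hU.conj_of_sigma T.pair.isCoatom_right T.isCoatom hp h
  exact T.not_conj_right hU g hg

theorem k_prime (hU : Upstream G) : (Nat.card K).Prime :=
  (T.data.u_ne_bot_facts hU T.u_ne).2.2

theorem k_sigma (hU : Upstream G) : Nat.card K ∈ Cfsg.sigma L :=
  mem_sigma_of_dvd_sigmaCore (T.k_prime hU) (Subgroup.card_dvd_of_le T.pair.k_le_sigmaCore)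

theorem k_not_sigma (hU : Upstream G) : Nat.card K ∉ Cfsg.sigma H :=
  T.sigma_disjoint_right hU (T.k_sigma hU)

theorem k_coprime (hU : Upstream G) :
    (Nat.card K).Coprime (Nat.card (Cfsg.sigmaCore H)) :=
  IsPiNum.coprime (π := (Cfsg.sigma H)ᶜ) (isPiNum_of_card_prime (T.k_prime hU) rfl (T.k_not_sigma hU))
    (by rw [compl_compl]; exact isPiNum_sigmaCore H)

theorem tau2_of_centralizes (hU : Upstream G) {x y : G} (hx : x ∈ H) {s : ℕ} (hs : s.Prime)
    (hxs : orderOf x = s) (hσ : s ∉ Cfsg.sigma H) (hy : y ∈ Cfsg.sigmaCore H) (hy1 : y ≠ 1)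
    (hxy : x * y = y * x) :
    s ∈ Cfsg.tau2 H ∧ Subgroup.centralizer ({x} : Set G) ≤ H ∧
      ∀ N : Subgroup G, IsCoatom N → Subgroup.centralizer ({x} : Set G) ≤ N → N = H := by
  rcases hU.dichotomy T.isCoatom hy hy1
    (Subgroup.mem_inf.2 ⟨hx, Subgroup.mem_centralizer_singleton_iff.2 hxy⟩)
    (ne_one_of_orderOf hs hxs) (fun p hp hd => by
      rw [hxs, Nat.prime_dvd_prime_iff_eq hp hs] at hd
      exact hd ▸ hσ) with ⟨h, -⟩ | ⟨h, -, h'⟩
  · exact ((T.kappa_empty hU).le (h s hs hxs.symm.dvd)).elim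
  · exact ⟨h s hs hxs.symm.dvd, h'⟩

/-- `C_{H_σ}(K) = 1`. -/
theorem fix_k (hU : Upstream G) :
    Cfsg.sigmaCore H ⊓ Subgroup.centralizer (K : Set G) = ⊥ := by
  refine (Subgroup.eq_bot_iff_forall _).2 fun y hy => by_contra fun hy1 => ?_
  obtain ⟨k, hk, hk1⟩ := exists_ne_one_of_card_prime (T.k_prime hU)
  obtain ⟨E₂, U₂, D₂⟩ := T.pair.right
  obtain ⟨-, -, huniq⟩ := T.tau2_of_centralizes hU (T.k_le hk) (T.k_prime hU)
    (orderOf_of_prime_card (T.k_prime hU) hk hk1) (T.k_not_sigma hU) hy.1 hy1 (hy.2 k hk)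
  have h := huniq L T.pair.isCoatom_right
    (D₂.centralizer_kstar_le hU (T.pair.star_star.ge hk) hk1)
  exact T.not_conj_right hU 1 (by rw [conj_one_smul]; exact h.symm)

/-- If `K` acts freely on `X` then `X` centralises `H_σ`. -/
theorem centralizes (hU : Upstream G) {X : Subgroup G} (hX : X ≤ H)
    (hKX : K ≤ Subgroup.normalizer (X : Set G)) {s : ℕ} (hs : s.Prime) (hσ : s ∉ Cfsg.sigma H)
    (hXs : IsPGroup s X) (hfix : X ⊓ Subgroup.centralizer (K : Set G) = ⊥) :
    X ≤ Subgroup.centralizer (Cfsg.sigmaCore H : Set G) := by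
  have := Fact.mk hs
  have := hU.solvable T.isCoatom
  obtain ⟨j, hj⟩ := hXs.exists_card_eq
  refine centralizes_of_fpf (T.k_prime hU) (isSolvable_of_le (sup_le (sigmaCore_le H) hX))
    (hX.trans (le_normalizer_sigmaCore H)) hKX (T.k_le.trans (le_normalizer_sigmaCore H)) ?_ hfix
    (T.fix_k hU)
  rw [hj]
  exact IsPiNum.coprime (π := (Cfsg.sigma H)ᶜ) (isPiNum_pow hs hσ j)
    (by rw [compl_compl]; exact isPiNum_sigmaCore H)

/-- An elementary subgroup of order `p²` for `p ∈ τ₂(H)` normalised by `K` meets `C(K)`. -/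
theorem elementary_meets (hU : Upstream G) {A : Subgroup G} {s : ℕ} (hA : A ≤ H)
    (hAe : Cfsg.IsElementaryAbelian s A) (hAc : Nat.card A = s ^ 2) (hs : s ∈ Cfsg.tau2 H)
    (hKA : K ≤ Subgroup.normalizer (A : Set G)) :
    A ⊓ Subgroup.centralizer (K : Set G) ≠ ⊥ := by
  intro hfix
  have := Fact.mk hs.1
  have h := T.centralizes hU hA hKA hs.1 hs.2.1 (IsPGroup.of_card hAc) hfix
  exact hU.sigmaCore_ne_bot T.isCoatom (le_bot_iff.1 ((le_inf le_rfl
    (Subgroup.le_centralizer_iff.1 h)).trans (hU.s1417 H T.isCoatom s hs A ⟨hA, hAe, hAc⟩).2.2.2.1.le))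

theorem mem_sigma_of_dvd_step (hU : Upstream G) {s : ℕ} (hs : s.Prime) (hd : s ∣ Nat.card U)
    (hr : s = r ∨ r ∈ Cfsg.sigma H) : s ∈ Cfsg.sigma H := by
  by_contra hσ
  have := Fact.mk hs
  have := T.data.u_comm
  have := hU.solvable T.isCoatom
  obtain ⟨S, hSU, hSp, hSi⟩ := exists_sylow_sub U s
  have hS1 : S ≠ ⊥ := sylow_ne_bot hSU hd hSi
  have hSH : S ≤ H := hSU.trans T.u_le
  have hKS : K ≤ Subgroup.normalizer (S : Set G) := by
    intro k hk
    rw [mem_normalizer_iff_conj]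
    refine Subgroup.eq_of_le_of_card_ge (le_sylow_of_comm hSU hSp hSi ?_ ?_) (card_conj k S).ge
    · exact (conj_mono k hSU).trans (mem_normalizer_iff_conj.1 (T.data.k_normalizes_u hk)).le
    · exact hSp.map _
  obtain ⟨k, hk, hk1⟩ := exists_ne_one_of_card_prime (T.k_prime hU)
  have hcopS : (Nat.card K).Coprime (Nat.card S) :=
    T.data.coprime_k_u.coprime_dvd_right (Subgroup.card_dvd_of_le hSU)
  obtain ⟨x, hx, hxs⟩ : ∃ x ∈ S, orderOf x = s := by
    obtain ⟨x, hx, hx1⟩ := S.bot_or_exists_ne_one.resolve_left hS1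
    obtain ⟨p, hp, hpd, y, hy, hyp⟩ := exists_prime_orderOf hx1
    obtain ⟨j, hj⟩ := hSp.exists_card_eq
    have : p = s := (Nat.prime_dvd_prime_iff_eq hp hs).1
      (hp.dvd_of_dvd_pow (hj ▸ dvd_card_of_mem hx hpd))
    exact ⟨y, Subgroup.zpowers_le.2 hx hy, this ▸ hyp⟩
  have hsH : s ∣ Nat.card ↥⁅H, H⁆ := by
    have hcm := Coprime.commutator_sup_centralizer (K := S) (A := K) hKS hcopS
      (Or.inr (isSolvable_of_le hSH))
    have hfix : S ⊓ Subgroup.centralizer (K : Set G) = ⊥ := le_bot_iff.1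
      ((inf_le_inf hSU (Subgroup.centralizer_le (Set.singleton_subset_iff.2 hk))).trans
        (T.data.u_free k hk hk1).le)
    rw [hfix, sup_bot_eq] at hcm
    exact hxs ▸ Subgroup.orderOf_dvd_natCard _ (Subgroup.commutator_mono hSH T.k_le (hcm.symm ▸ hx))
  rcases hU.tau_cases T.isCoatom hs (hd.trans (Subgroup.card_dvd_of_le T.u_le)) hσ with h | h | h
  · exact h.2.2.2.1 hsH
  · -- `s ∈ τ₂(H)`
    have hW : IsPiNum (Cfsg.sigma H)ᶜ (Nat.card ↥(S ⊔ K)) := by
      obtain ⟨j, hj⟩ := hSp.exists_card_eq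
      rw [Coprime.card_sup_of_coprime hKS hcopS.symm, hj]
      exact IsPiNum.mul (isPiNum_pow hs hσ j)
        (isPiNum_of_card_prime (T.k_prime hU) rfl (T.k_not_sigma hU))
    obtain ⟨EH, hEH, hle⟩ := hU.exists_compl_ge T.isCoatom (sup_le hSH T.k_le) hW
    obtain ⟨A, hAE, hA, hAc⟩ := hU.exists_elementary_compl T.isCoatom hEH h
    have hEA := (hU.s1418 H T.isCoatom EH hEH s h A ⟨hAE, hA, hAc⟩).1.1
    have hAH : A ≤ H := hAE.trans hEH.1
    obtain ⟨x₂, hx₂, hx₂1⟩ := (A ⊓ Subgroup.centralizer (K : Set G)).bot_or_exists_ne_one.resolve_left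
      (T.elementary_meets hU hAH hA hAc h ((le_sup_right.trans hle).trans hEA))
    obtain ⟨hx₂A, hx₂C⟩ := Subgroup.mem_inf.1 hx₂
    obtain ⟨E₂, U₂, D₂⟩ := T.pair.right
    have hkL := T.pair.star_star.ge hk
    have hx₂k : x₂ ∈ L ⊓ Subgroup.centralizer ({k} : Set G) :=
      Subgroup.mem_inf.2 ⟨D₂.centralizer_kstar_le hU hkL hk1
        (Subgroup.mem_centralizer_singleton_iff.2 (hx₂C k hk).symm),
        Subgroup.mem_centralizer_singleton_iff.2 (hx₂C k hk).symm⟩
    have hx₂s : orderOf x₂ = s := orderOf_eq_prime (hA.2 _ hx₂A) hx₂1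
    by_cases hσL : s ∈ Cfsg.sigma L
    · have hY : IsPiNum (Cfsg.sigma L) (Nat.card ↥(S ⊔ K)) := by
        obtain ⟨j, hj⟩ := hSp.exists_card_eq
        rw [Coprime.card_sup_of_coprime hKS hcopS.symm, hj]
        exact IsPiNum.mul (isPiNum_pow hs hσL j)
          (isPiNum_of_card_prime (T.k_prime hU) rfl (T.k_sigma hU))
      have h2 := D₂.le_sigmaCore_of_meet hU hY (by
        rw [T.pair.star_star, inf_of_le_right le_sup_right]; exact T.data.ne_bot)
      exact T.not_le_partner hU hSU hS1 ((le_sup_left.trans h2).trans (sigmaCore_le L))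
    · rcases hU.dichotomy T.pair.isCoatom_right hkL.1 hk1 hx₂k hx₂1
        (fun p hp hpd => by
          rw [hx₂s, Nat.prime_dvd_prime_iff_eq hp hs] at hpd
          exact hpd ▸ hσL) with ⟨hκ, -⟩ | ⟨-, -, hC, -⟩
      · have hsκ := hκ s hs hx₂s.symm.dvd
        have hsK : s ∣ Nat.card (kStar M K) := by
          have h1 := (dvd_card_of_mem hx₂k.1 hx₂s.symm.dvd : s ∣ Nat.card L)
          rw [← card_mul_relIndex D₂.hall.1] at h1
          exact (hs.dvd_mul.1 h1).resolve_right (D₂.hall.2.2 s hs hsκ)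
        exact T.data.u_hall.2.1 s hs hd (Or.inr (mem_sigma_of_dvd_sigmaCore hs
          (hsK.trans (Subgroup.card_dvd_of_le inf_le_left))))
      · have hpg : IsPGroup s ↥(S ⊔ A) :=
          hSp.to_sup_of_normal_right' (IsPGroup.of_card hAc) ((le_sup_left.trans hle).trans hEA)
        obtain ⟨P, hP⟩ := (hpg.comap_of_injective H.subtype H.subtype_injective).exists_le_sylow
        have := ((hU.s1417 H T.isCoatom s h A ⟨hAH, hA, hAc⟩).2.1 P).1
        refine T.not_le_partner hU hSU hS1 (le_trans (fun w hw => ?_) hC)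
        have h1 : (⟨w, hSH hw⟩ : H) ∈ (P : Subgroup H) := hP (Subgroup.mem_sup_left hw)
        have h2 : (⟨x₂, hAH hx₂A⟩ : H) ∈ (P : Subgroup H) := hP (Subgroup.mem_sup_right hx₂A)
        exact Subgroup.mem_centralizer_singleton_iff.2
          (congrArg Subtype.val (setLike_mul_comm (S := Subgroup H) h1 h2))
  · -- `s ∈ τ₃(H)`
    obtain ⟨P, hP⟩ := (hSp.comap_of_injective H.subtype H.subtype_injective).exists_le_sylow
    have hSP : S ≤ (P : Subgroup H).map H.subtype := fun w hw => ⟨⟨w, hSH hw⟩, hP hw, rfl⟩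
    rcases hr with rfl | hr
    · have hPc := hU.isCyclic_of_le_rank_one hs h.2.2.2 (hd.trans (Subgroup.card_dvd_of_le T.u_le))
        (Subgroup.map_subtype_le (P : Subgroup H)) (P.2.map _)
      refine hσ (OddMax.mem_sigma_iff.2 ⟨hd.trans (Subgroup.card_dvd_of_le T.u_le), _,
        Subgroup.map_subtype_le (P : Subgroup H), P.2.map _, OddMax.sylow_relIndex P, ?_⟩)
      refine ((normalizer_le_of_cyclic hPc hSP).trans (le_of_eq ?_)).trans T.normalizer_le_h
      rw [le_antisymm (le_sylow_of_comm hSU hSp hSi T.r_le T.r_pgroup)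
        (le_sylow_of_comm T.r_le T.r_pgroup T.r_index hSU hSp)]
    · have := Fact.mk T.prime
      obtain ⟨j, hj⟩ := T.r_pgroup.exists_card_eq
      obtain ⟨y, hy, hy1⟩ := R.bot_or_exists_ne_one.resolve_left T.r_ne_bot
      have hyH : y ∈ Cfsg.sigmaCore H :=
        hU.mem_sigmaCore_of_pi T.isCoatom (T.r_le.trans T.u_le) (hj ▸ isPiNum_pow T.prime hr j) hy
      exact hU.not_tau2_of_tau13 (Or.inr h) (T.tau2_of_centralizes hU (hSH hx) hs hxs hσ hyH hy1
        (setLike_mul_comm (hSU hx) (T.r_le hy))).1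

theorem r_mem_sigma (hU : Upstream G) : r ∈ Cfsg.sigma H :=
  T.mem_sigma_of_dvd_step hU T.prime T.dvd (Or.inl rfl)

theorem mem_sigma_of_dvd (hU : Upstream G) {s : ℕ} (hs : s.Prime) (hd : s ∣ Nat.card U) :
    s ∈ Cfsg.sigma H :=
  T.mem_sigma_of_dvd_step hU hs hd (Or.inr (T.r_mem_sigma hU))

theorem u_le_sigmaCore (hU : Upstream G) : U ≤ Cfsg.sigmaCore H :=
  hU.mem_sigmaCore_of_pi T.isCoatom T.u_le fun _ hs hd => T.mem_sigma_of_dvd hU hs hd

theorem inf_eq (hU : Upstream G) : M ⊓ H = U ⊔ K := by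
  refine le_antisymm (fun m hm => ?_)
    (sup_le (le_inf T.data.u_hall.1 T.u_le) (le_inf T.data.hall.1 T.k_le))
  obtain ⟨k, hk, u, hu, h, hh, rfl⟩ := T.data.mul_of_mem hm.1
  have hhH : h ∈ H := by
    simpa using mul_mem (inv_mem (T.u_le hu)) (mul_mem (inv_mem (T.k_le hk)) hm.2)
  have hh1 : h = 1 := by
    have hc : h ∈ Cfsg.sigmaCore M ⊓ Subgroup.centralizer (U : Set G) := by
      refine Subgroup.mem_inf.2 ⟨hh, fun v hv => ?_⟩
      have h1 : h * v * h⁻¹ * v⁻¹ ∈ Cfsg.sigmaCore M ⊓ Cfsg.sigmaCore H := by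
        refine Subgroup.mem_inf.2 ⟨?_, ?_⟩
        · rw [show h * v * h⁻¹ * v⁻¹ = h * (v * h⁻¹ * v⁻¹) by group]
          exact mul_mem hh (conj_mem_sigmaCore (T.data.u_hall.1 hv) (inv_mem hh))
        · exact mul_mem (conj_mem_sigmaCore hhH (T.u_le_sigmaCore hU hv))
            (inv_mem (T.u_le_sigmaCore hU hv))
      rw [inf_eq_bot_of_pi (π := Cfsg.sigma M) (isPiNum_sigmaCore M)
        (fun p hp hd hσ => T.sigma_disjoint_left hU hσ (mem_sigma_of_dvd_sigmaCore hp hd)),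
        Subgroup.mem_bot, mul_inv_eq_one, mul_inv_eq_iff_eq_mul] at h1
      exact h1.symm
    rw [(T.data.u_ne_bot_facts hU T.u_ne).2.1, Subgroup.mem_bot] at hc
    exact hc
  rw [hh1, mul_one]
  exact mul_mem (Subgroup.mem_sup_right hk) (Subgroup.mem_sup_left hu)

theorem nilpotent (hU : Upstream G) : Group.IsNilpotent (Cfsg.sigmaCore H) :=
  have := hU.solvable T.isCoatom
  OddMax.nilpotent_of_fpf (T.k_prime hU) (T.k_le.trans (le_normalizer_sigmaCore H)) (T.fix_k hU)
    (isSolvable_of_le (sigmaCore_le H))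

theorem not_normalizer_le (hU : Upstream G) : ¬ H ⊓ Subgroup.normalizer (U : Set G) ≤ M := by
  intro hle
  have hUH := T.u_le_sigmaCore hU
  by_cases htop : U.subgroupOf (Cfsg.sigmaCore H) = ⊤
  · have heq : U = Cfsg.sigmaCore H := le_antisymm hUH (Subgroup.subgroupOf_eq_top.1 htop)
    have hHM : H ≤ M := (le_inf le_rfl (heq ▸ le_normalizer_sigmaCore H)).trans hle
    rcases hHM.eq_or_lt with h | h
    · exact T.h_ne h
    · exact T.data.isCoatom.1 (T.isCoatom.2 _ h)
  · have hnil := T.nilpotent hU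
    obtain ⟨w, hw, hw'⟩ := SetLike.exists_of_lt (Group.normalizerCondition_of_isNilpotent _
      (lt_top_iff_ne_top.2 htop))
    have hwN : (w : G) ∈ Subgroup.normalizer (U : Set G) := by
      refine Coprime.mem_normalizer_of_forall fun u hu => ?_
      have := (Subgroup.mem_normalizer_iff.1 hw ⟨u, hUH hu⟩).1 (Subgroup.mem_subgroupOf.2 hu)
      simpa [Subgroup.mem_subgroupOf] using this
    have hwMH : (w : G) ∈ U ⊔ K := (T.inf_eq hU).le
      (Subgroup.mem_inf.2 ⟨hle (Subgroup.mem_inf.2 ⟨sigmaCore_le H w.2, hwN⟩), sigmaCore_le H w.2⟩)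
    obtain ⟨u, hu, k, hk, he⟩ := (Coprime.mem_sup_iff T.data.k_normalizes_u).1 hwMH
    have hk1 : k ∈ K ⊓ Cfsg.sigmaCore H := Subgroup.mem_inf.2
      ⟨hk, by simpa [← he] using mul_mem (inv_mem (hUH hu)) w.2⟩
    rw [Coprime.inf_eq_bot (T.k_coprime hU), Subgroup.mem_bot] at hk1
    rw [hk1, mul_one] at he
    exact hw' (Subgroup.mem_subgroupOf.2 (he ▸ hu))

/-- A complement of `H_σ` over `K` lies in `L`, and `K` is in its Fitting subgroup. -/
theorem compl_le_partner (hU : Upstream G) (F : FcoreFact G) {EH : Subgroup G}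
    (hEH : Cfsg.IsComplIn EH (Cfsg.sigmaCore H) H) (hKE : K ≤ EH) :
    EH ≤ L ∧ K ≤ Cfsg.fittingOf EH := by
  obtain ⟨k, hk, hk1⟩ := exists_ne_one_of_card_prime (T.k_prime hU)
  obtain ⟨E₂, U₂, D₂⟩ := T.pair.right
  have hkL := T.pair.star_star.ge hk
  have hCL : Subgroup.centralizer (K : Set G) ≤ L :=
    (Subgroup.centralizer_le (Set.singleton_subset_iff.2 hk)).trans
      (D₂.centralizer_kstar_le hU hkL hk1)
  have hqp := T.k_prime hU
  have := Fact.mk hqp
  have hKn : Group.IsNilpotent K := (IsPGroup.of_card (n := 1) (by rw [pow_one])).isNilpotent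
  rcases hU.tau_cases T.isCoatom hqp (Subgroup.card_dvd_of_le T.k_le) (T.k_not_sigma hU)
    with h | h | h
  · -- `q ∈ τ₁(H)`: `K` centralises `E'`
    set V₀ := ⁅EH, EH⁆ with hV₀def
    have hV₀E : V₀ ≤ EH := Subgroup.commutator_le_self EH
    have := (hU.s1420 H T.isCoatom EH hEH).2.1
    have hKV : K ≤ Subgroup.normalizer (V₀ : Set G) :=
      hKE.trans (Subgroup.normalizer_commutator_ge_left EH EH)
    have hcop : (Nat.card K).Coprime (Nat.card V₀) := hqp.coprime_iff_not_dvd.2 fun hd =>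
      h.2.2.2.1 (hd.trans (Subgroup.card_dvd_of_le (Subgroup.commutator_mono hEH.1 hEH.1)))
    have hcent : K ≤ Subgroup.centralizer (V₀ : Set G) := by
      by_contra hnc
      set W := ⁅V₀, K⁆ with hWdef
      have hWV : W ≤ V₀ := Subgroup.le_normalizer_iff_commutator_le_left.1 hKV
      have hW1 : W ≠ ⊥ := fun hb => hnc (by
        rw [hWdef, Subgroup.commutator_comm] at hb
        exact Subgroup.commutator_eq_bot_iff_le_centralizer.1 hb)
      have hWfix : W ⊓ Subgroup.centralizer (K : Set G) = ⊥ := le_bot_iff.1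
        ((le_inf (le_inf (inf_le_left.trans hWV) inf_le_right) inf_le_left).trans
          (Coprime.abelian_inf_eq_bot hKV hcop).le)
      have hKW : K ≤ Subgroup.normalizer (W : Set G) := Subgroup.normalizer_commutator_ge_right V₀ K
      obtain ⟨z, hz, hz1⟩ := W.bot_or_exists_ne_one.resolve_left hW1
      obtain ⟨s, hs, hsd, x, hxz, hxs⟩ := exists_prime_orderOf hz1
      have := Fact.mk hs
      have hxW : x ∈ W := Subgroup.zpowers_le.2 hz hxz
      set W₁ := omegaCenter s W with hW₁def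
      have hW₁W : W₁ ≤ W := fun w hw => (Subgroup.mem_inf.1 hw.1).1
      have hxW₁ : x ∈ W₁ := ⟨Subgroup.mem_inf.2 ⟨hxW, fun w hw =>
        setLike_mul_comm (hWV hw) (hWV hxW)⟩, by rw [← hxs, pow_orderOf_eq_one]⟩
      have hKW₁ : K ≤ Subgroup.normalizer (W₁ : Set G) :=
        hKW.trans (normalizer_le_normalizer_omegaCenter s W)
      have hW₁fix : W₁ ⊓ Subgroup.centralizer (K : Set G) = ⊥ :=
        le_bot_iff.1 ((inf_le_inf_right _ hW₁W).trans hWfix.le)
      have hW₁p : IsPGroup s W₁ := Signalizer.isPGroup_of_elemAb (omegaCenter_elementary s W)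
      have hxE : x ∈ EH := hV₀E (hWV hxW)
      have hσ : s ∉ Cfsg.sigma H :=
        (compl_hall hU T.isCoatom hEH).2.1 s hs (dvd_card_of_mem hxE hxs.symm.dvd)
      obtain ⟨y, hy, hy1⟩ :=
        (Cfsg.sigmaCore H).bot_or_exists_ne_one.resolve_left (hU.sigmaCore_ne_bot T.isCoatom)
      have hW₁H : W₁ ≤ H := ((hW₁W.trans hWV).trans hV₀E).trans hEH.1
      have hW₁C := T.centralizes hU hW₁H hKW₁ hs hσ hW₁p hW₁fix
      obtain ⟨hs2, -, -⟩ := T.tau2_of_centralizes hU (hEH.1 hxE) hs hxs hσ hy hy1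
        (hW₁C hxW₁ y hy).symm
      obtain ⟨A, hAE, hA, hAc⟩ := hU.exists_elementary_compl T.isCoatom hEH hs2
      obtain ⟨hEA, hsub⟩ := (hU.s1418 H T.isCoatom EH hEH s hs2 A ⟨hAE, hA, hAc⟩).1
      have hxA : x ∈ A := hsub _ (Subgroup.zpowers_le.2 hxE) (card_zpowers' hxs)
        (Subgroup.mem_zpowers x)
      obtain ⟨x₂, hx₂, hx₂1⟩ :=
        (A ⊓ Subgroup.centralizer (K : Set G)).bot_or_exists_ne_one.resolve_left
          (T.elementary_meets hU (hAE.trans hEH.1) hA hAc hs2 (hKE.trans hEA))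
      obtain ⟨hx₂A, hx₂C⟩ := Subgroup.mem_inf.1 hx₂
      have hx₂s : orderOf x₂ = s := orderOf_eq_prime (hA.2 _ hx₂A) hx₂1
      -- `x` is not in `L`
      have hxL : x ∉ L := by
        intro hxL
        have hF : K ≤ Cfsg.fittingHallOf L := T.pair.star_star.ge.trans (D₂.kstar_le_fcore hU F)
        have hall : ∀ v ∈ K, v * x = x * v := by
          intro v hv
          set c := x * v * x⁻¹ * v⁻¹ with hcdef
          have hcF : c ∈ Cfsg.fittingHallOf L :=
            mul_mem ((Subgroup.mem_normalizer_iff.1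
              (OddMax.le_normalizer_fittingHallOf L hxL) v).1 (hF hv)) (inv_mem (hF hv))
          have hcW : c ∈ W₁ := by
            rw [hcdef, show x * v * x⁻¹ * v⁻¹ = x * (v * x⁻¹ * v⁻¹) by group]
            exact mul_mem hxW₁ ((Subgroup.mem_normalizer_iff.1 (hKW₁ hv) _).1 (inv_mem hxW₁))
          have hc : c ∈ W₁ ⊓ Subgroup.centralizer (K : Set G) := by
            refine Subgroup.mem_inf.2 ⟨hcW, fun w hw => ?_⟩
            refine OddSigma.commute_in_nilpotent (OddMax.fittingHallOf_nilpotent L) (hF hw) hcF ?_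
            refine Nat.Coprime.coprime_dvd_left (Subgroup.orderOf_dvd_natCard K hw) ?_
            exact hcop.coprime_dvd_right (Subgroup.orderOf_dvd_natCard V₀ (hWV (hW₁W hcW)))
          rw [hW₁fix, Subgroup.mem_bot, hcdef, mul_inv_eq_one, mul_inv_eq_iff_eq_mul] at hc
          exact hc.symm
        have : x ∈ W₁ ⊓ Subgroup.centralizer (K : Set G) := Subgroup.mem_inf.2 ⟨hxW₁, hall⟩
        rw [hW₁fix, Subgroup.mem_bot] at this
        exact ne_one_of_orderOf hs hxs this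
      have hx₂k : x₂ ∈ L ⊓ Subgroup.centralizer ({k} : Set G) :=
        Subgroup.mem_inf.2 ⟨hCL hx₂C, Subgroup.mem_centralizer_singleton_iff.2 (hx₂C k hk).symm⟩
      by_cases hσL : s ∈ Cfsg.sigma L
      · have hcopW : (Nat.card W₁).Coprime (Nat.card K) :=
          (hcop.coprime_dvd_right (Subgroup.card_dvd_of_le (hW₁W.trans hWV))).symm
        have hY : IsPiNum (Cfsg.sigma L) (Nat.card ↥(W₁ ⊔ K)) := by
          obtain ⟨j, hj⟩ := hW₁p.exists_card_eq
          rw [Coprime.card_sup_of_coprime hKW₁ hcopW, hj]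
          exact IsPiNum.mul (isPiNum_pow hs hσL j) (isPiNum_of_card_prime hqp rfl (T.k_sigma hU))
        have h2 := D₂.le_sigmaCore_of_meet hU hY (by
          rw [T.pair.star_star, inf_of_le_right le_sup_right]; exact T.data.ne_bot)
        exact hxL (sigmaCore_le L (h2 (Subgroup.mem_sup_left hxW₁)))
      · rcases hU.dichotomy T.pair.isCoatom_right hkL.1 hk1 hx₂k hx₂1
          (fun p hp hpd => by
            rw [hx₂s, Nat.prime_dvd_prime_iff_eq hp hs] at hpd
            exact hpd ▸ hσL) with ⟨hκ, -⟩ | ⟨-, -, hC, -⟩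
        · have hsK : s ∣ Nat.card (kStar M K) := by
            have h1 := (dvd_card_of_mem hx₂k.1 hx₂s.symm.dvd : s ∣ Nat.card L)
            rw [← card_mul_relIndex D₂.hall.1] at h1
            exact (hs.dvd_mul.1 h1).resolve_right (D₂.hall.2.2 s hs (hκ s hs hx₂s.symm.dvd))
          exact T.data.not_tau2_of_sigma hU T.u_ne T.isCoatom
            (mem_sigma_of_dvd_sigmaCore hs (hsK.trans (Subgroup.card_dvd_of_le inf_le_left))) hs2
        · exact hxL (hC (Subgroup.mem_centralizer_singleton_iff.2 (OddSigma.elem_comm hA hxA hx₂A)))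
    have hEC : EH ≤ Subgroup.centralizer (K : Set G) := by
      intro e he v hv
      have hc : e * v * e⁻¹ * v⁻¹ ∈ V₀ := Subgroup.commutator_mem_commutator he (hKE hv)
      have hcv : Commute (e * v * e⁻¹ * v⁻¹) v := hcent hv _ hc
      have hpow : (e * v * e⁻¹ * v⁻¹) ^ Nat.card K = 1 := by
        have h1 : (e * v * e⁻¹ * v⁻¹ * v) ^ Nat.card K = 1 := by
          have hv1 : v ^ Nat.card K = 1 :=
            orderOf_dvd_iff_pow_eq_one.1 (Subgroup.orderOf_dvd_natCard K hv)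
          rw [inv_mul_cancel_right, conj_pow, hv1, mul_one, mul_inv_cancel]
        rwa [hcv.mul_pow, orderOf_dvd_iff_pow_eq_one.1 (Subgroup.orderOf_dvd_natCard K hv),
          mul_one] at h1
      have h1 : orderOf (e * v * e⁻¹ * v⁻¹) = 1 := Nat.eq_one_of_dvd_coprimes hcop
        (orderOf_dvd_of_pow_eq_one hpow) (Subgroup.orderOf_dvd_natCard V₀ hc)
      rw [orderOf_eq_one_iff, mul_inv_eq_one, mul_inv_eq_iff_eq_mul] at h1
      exact h1.symm
    exact ⟨hEC.trans hCL,
      OddMax.le_fittingOf hKE (hEC.trans (Subgroup.centralizer_le_normalizer _)) hKn⟩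
  · -- `q ∈ τ₂(H)`
    obtain ⟨A, hAE, hA, hAc⟩ := hU.exists_elementary_compl T.isCoatom hEH h
    obtain ⟨hEA, hsub⟩ := (hU.s1418 H T.isCoatom EH hEH _ h A ⟨hAE, hA, hAc⟩).1
    have hKA : K ≤ A := hsub K hKE rfl
    have hAC : A ≤ Subgroup.centralizer (K : Set G) :=
      fun a ha v hv => OddSigma.elem_comm hA (hKA hv) ha
    have hAL : A ≤ L := hAC.trans hCL
    have hAp : IsPGroup (Nat.card K) A := IsPGroup.of_card hAc
    have hNA : Subgroup.normalizer (A : Set G) ≤ L :=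
      (hU.s1420 L T.pair.isCoatom_right E₂ D₂.compl).2.2.1 (Nat.card K) A (T.k_sigma hU) hAp hAL
        (OddMax.not_isCyclic_of_elementary hA hAc.ge)
    exact ⟨hEA.trans hNA, hKA.trans (OddMax.le_fittingOf hAE hEA hAp.isNilpotent)⟩
  · -- `q ∈ τ₃(H)`
    have := hU.solvable T.isCoatom
    obtain ⟨E₃, hE₃, hKE₃⟩ := exists_hallOf_ge (π := Cfsg.tau3 H) (isSolvable_of_le hEH.1) hKE
      (isPiNum_of_card_prime hqp rfl h)
    obtain ⟨hc, -, hn⟩ := (hU.s1415 H T.isCoatom EH hEH).2.2 E₃ hE₃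
    have hEK : EH ≤ Subgroup.normalizer (K : Set G) := hn.trans (normalizer_le_of_cyclic hc hKE₃)
    exact ⟨hEK.trans (D₂.normalizer_le_of_le_kstar hU T.pair.star_star.ge hqp),
      OddMax.le_fittingOf hKE hEK hKn⟩

/-- **BG 14.11**, the last two assertions. -/
theorem inf_partner (hU : Upstream G) (F : FcoreFact G) :
    K ≤ Cfsg.fittingOf (H ⊓ L) ∧ Cfsg.IsComplIn (H ⊓ L) (Cfsg.sigmaCore H) H := by
  obtain ⟨EH, hEH, hKE⟩ := hU.exists_compl_ge T.isCoatom T.k_le
    (isPiNum_of_card_prime (T.k_prime hU) rfl (T.k_not_sigma hU))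
  obtain ⟨hEL, hKF⟩ := T.compl_le_partner hU F hEH hKE
  suffices heq : H ⊓ L = EH by rw [heq]; exact ⟨hKF, hEH⟩
  refine le_antisymm (fun h hh => ?_) (le_inf hEH.1 hEL)
  obtain ⟨e, he, w, hw, rfl⟩ := hEH.2.2.2 h hh.1
  have hwL : w ∈ L := by simpa using mul_mem (inv_mem (hEL he)) hh.2
  have hwC : w ∈ Cfsg.sigmaCore H ⊓ Subgroup.centralizer (K : Set G) := by
    refine Subgroup.mem_inf.2 ⟨hw, fun v hv => ?_⟩
    have h1 : w * v * w⁻¹ * v⁻¹ ∈ Cfsg.sigmaCore H ⊓ Cfsg.sigmaCore L := by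
      refine Subgroup.mem_inf.2 ⟨?_, ?_⟩
      · rw [show w * v * w⁻¹ * v⁻¹ = w * (v * w⁻¹ * v⁻¹) by group]
        exact mul_mem hw (conj_mem_sigmaCore (T.k_le hv) (inv_mem hw))
      · exact mul_mem (conj_mem_sigmaCore hwL (T.pair.k_le_sigmaCore hv))
          (inv_mem (T.pair.k_le_sigmaCore hv))
    rw [inf_eq_bot_of_pi (π := Cfsg.sigma H) (isPiNum_sigmaCore H)
      (fun p hp hd hσ => T.sigma_disjoint_right hU (mem_sigma_of_dvd_sigmaCore hp hd) hσ),
      Subgroup.mem_bot, mul_inv_eq_one, mul_inv_eq_iff_eq_mul] at h1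
    exact h1.symm
  rw [T.fix_k hU, Subgroup.mem_bot] at hwC
  rw [hwC, mul_one]
  exact he

end NData

end Cfsg.Agent.OddOrder14
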