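import Cfsg.Agent.Lib.OddOrder14.TauTwoAbelian
import Cfsg.Agent.Lib.OddOrder14.Normalizer
import Cfsg.Agent.Lib.Coprime.Factorization

/-!
# The complement `U` in a standard factorisation `M = K U M_σ`

* `Upstream.exists_free_element`: a cyclic subgroup of maximal order in a Sylow `p`-subgroup,
  `p ∈ τ₂(M)`, without fixed points on `M_σ`
* `Upstream.s1358`, `Upstream.s1359`, `Upstream.s1360`, `Upstream.s1361`; the two middle ones take
  the type of statement 1421 as a hypothesis.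
-/

set_option autoImplicit false
set_option linter.unusedSectionVars false

open scoped Pointwise

universe u

namespace Cfsg.Agent.OddOrder14

open Cfsg.Agent.Solvable

variable {G : Type u} [Group G] [Finite G]

/-- The type of statement 1421 for the group `G`. -/
def AbelianFixedFact (G : Type u) [Group G] : Prop :=
  ∀ (M : Subgroup G) (hM : IsCoatom M) (E : Subgroup G) (hE : Cfsg.IsComplIn E (Cfsg.sigmaCore M) M)
    (h : ∀ e ∈ E, e ≠ 1 → (∀ p : ℕ, p.Prime → p ∣ orderOf e → p ∈ Cfsg.tau1 M ∪ Cfsg.tau3 M) →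
      Cfsg.sigmaCore M ⊓ Subgroup.centralizer ({e} : Set G) = ⊥),
    (∃ A₀ : Subgroup G, A₀ ≤ E ∧ E ≤ Subgroup.normalizer (A₀ : Set G) ∧ IsMulCommutative A₀ ∧
        ∀ x ∈ Cfsg.sigmaCore M, x ≠ 1 → E ⊓ Subgroup.centralizer ({x} : Set G) ≤ A₀) ∧
      ∃ E₀ : Subgroup G, E₀ ≤ E ∧ Monoid.exponent E₀ = Monoid.exponent E ∧
        ∀ e ∈ E₀, e ≠ 1 → Cfsg.sigmaCore M ⊓ Subgroup.centralizer ({e} : Set G) = ⊥

namespace Upstream

variable (hU : Upstream G)
include hU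

/-- For `p ∈ τ₂(M)` a Sylow `p`-subgroup of `M` has an element `x` of maximal order such that the
subgroup of order `p` of `⟨x⟩` fixes no non-identity element of `M_σ`. -/
theorem exists_free_element {M P : Subgroup G} (hM : IsCoatom M) {p : ℕ} (hp : p ∈ Cfsg.tau2 M)
    (hPM : P ≤ M) (hPp : IsPGroup p P) (hPi : ¬ p ∣ P.relIndex M) :
    ∃ x ∈ P, (∀ y ∈ P, orderOf y ∣ orderOf x) ∧
      ∀ z ∈ Subgroup.zpowers x, orderOf z = p →
        Cfsg.sigmaCore M ⊓ Subgroup.centralizer ({z} : Set G) = ⊥ := by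
  classical
  have := Fact.mk hp.1
  have hhall : Cfsg.IsPiHallOf {p} P M := by
    refine ⟨hPM, fun q hq hd => ?_, fun q _ hq => ?_⟩
    · obtain ⟨j, hj⟩ := hPp.exists_card_eq
      exact (Nat.prime_dvd_prime_iff_eq hq hp.1).1 (hq.dvd_of_dvd_pow (hj ▸ hd))
    · rw [show q = p from hq]; exact hPi
  obtain ⟨A₀, hA₀M, hA₀, hA₀c⟩ := hU.exists_elementary_of_tau2 hM hp
  obtain ⟨m, hm, hle⟩ := hallOf_conj_ge (hU.solvable hM) hhall hA₀M
    (hA₀c ▸ isPiNum_pow (π := {p}) hp.1 rfl 2)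
  set A := MulAut.conj m⁻¹ • A₀ with hAdef
  have hAP : A ≤ P := by
    have h := conj_mono m⁻¹ hle
    rwa [conj_inv_smul] at h
  have hA : Cfsg.IsElementaryAbelian p A := isElementaryAbelian_conj hA₀ _
  have hAc : Nat.card A = p ^ 2 := by rw [hAdef, card_conj, hA₀c]
  have hAM : A ≤ M := hAP.trans hPM
  obtain ⟨Q, hQ⟩ := OddMax.exists_sylow_eq hPp hPM hPi
  obtain ⟨-, hsyl, -, -, -, A₁, hA₁A, hA₁c, hA₁free⟩ := hU.s1417 M hM p hp A ⟨hAM, hA, hAc⟩
  obtain ⟨hQcomm, hQ2⟩ := hsyl Q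
  rw [hQ] at hQ2
  obtain ⟨homega, hnN⟩ := hQ2 hAP
  have hcomm : ∀ a ∈ P, ∀ b ∈ P, a * b = b * a := by
    intro a ha b hb
    obtain ⟨a', ha', rfl⟩ := hQ.symm.le ha
    obtain ⟨b', hb', rfl⟩ := hQ.symm.le hb
    have := hQcomm
    exact congrArg Subtype.val (setLike_mul_comm ha' hb')
  -- the exponent
  obtain ⟨j, hj⟩ := hPp.exists_card_eq
  have hex : ∃ n, ∀ y ∈ P, y ^ (p ^ n) = 1 := ⟨j, fun y hy =>
    orderOf_dvd_iff_pow_eq_one.1 (hj ▸ Subgroup.orderOf_dvd_natCard P hy)⟩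
  set n := Nat.find hex with hndef
  have hn : ∀ y ∈ P, y ^ (p ^ n) = 1 := Nat.find_spec hex
  have hA1 : A₁ ≠ ⊥ := fun h => hp.1.ne_one (by rw [← hA₁c, h, Subgroup.card_bot])
  have hn0 : n ≠ 0 := by
    intro h0
    obtain ⟨a, ha, ha1⟩ := A₁.bot_or_exists_ne_one.resolve_left hA1
    have := hn a (hAP (hA₁A ha))
    rw [h0, pow_zero, pow_one] at this
    exact ha1 this
  obtain ⟨k, hk⟩ := Nat.exists_eq_succ_of_ne_zero hn0
  have hnot : ∃ y ∈ P, y ^ (p ^ k) ≠ 1 := by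
    by_contra hcon
    simp only [not_exists, not_and, not_not] at hcon
    exact Nat.find_min hex (hndef ▸ (by omega : k < n)) hcon
  let T : Subgroup G :=
    { carrier := {z | ∃ y ∈ P, y ^ (p ^ k) = z}
      one_mem' := ⟨1, one_mem P, one_pow _⟩
      mul_mem' := by
        rintro _ _ ⟨a, ha, rfl⟩ ⟨b, hb, rfl⟩
        exact ⟨a * b, mul_mem ha hb, (show Commute a b from hcomm a ha b hb).mul_pow _⟩
      inv_mem' := by
        rintro _ ⟨a, ha, rfl⟩
        exact ⟨a⁻¹, inv_mem ha, inv_pow _ _⟩ }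
  -- an element `x` with `x ^ (p ^ k) ≠ 1` works when the line it generates is free
  have hkey : ∀ x ∈ P, x ^ (p ^ k) ≠ 1 →
      Cfsg.sigmaCore M ⊓ Subgroup.centralizer ({x ^ (p ^ k)} : Set G) = ⊥ →
      ∃ x ∈ P, (∀ y ∈ P, orderOf y ∣ orderOf x) ∧
        ∀ z ∈ Subgroup.zpowers x, orderOf z = p →
          Cfsg.sigmaCore M ⊓ Subgroup.centralizer ({z} : Set G) = ⊥ := by
    intro x hx hx1 hfree
    have hxo : orderOf x = p ^ n := by
      rw [hk]
      exact orderOf_eq_prime_pow hx1 (by have h := hn x hx; rwa [hk] at h)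
    refine ⟨x, hx, fun y hy => hxo ▸ orderOf_dvd_of_pow_eq_one (hn y hy), fun z hz hzo => ?_⟩
    have hao : orderOf (x ^ (p ^ k)) = p := by
      rw [orderOf_pow' x (pow_ne_zero k hp.1.ne_zero), hxo, hk,
        Nat.gcd_eq_right (pow_dvd_pow p (Nat.le_succ k)), Nat.pow_div (Nat.le_succ k) hp.1.pos,
        Nat.succ_sub (le_refl k), Nat.sub_self, pow_one]
    have h := zpowers_eq_of_cyclic (P := Subgroup.zpowers x) inferInstance hz
      (Subgroup.pow_mem _ (Subgroup.mem_zpowers x) (p ^ k)) (hzo.trans hao.symm)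
    rw [← centralizer_zpowers_eq z, h, centralizer_zpowers_eq]
    exact hfree
  obtain ⟨a, ha, ha1⟩ := A₁.bot_or_exists_ne_one.resolve_left hA1
  have haA : Subgroup.zpowers a = A₁ := zpowers_eq_of_prime_card (hA₁c.symm ▸ hp.1) ha ha1
  by_cases haT : a ∈ T
  · obtain ⟨x, hx, rfl⟩ := haT
    refine hkey x hx ha1 ?_
    rw [← centralizer_zpowers_eq, haA]
    exact hA₁free
  · obtain ⟨x, hx, hx1⟩ := hnot
    refine hkey x hx hx1 (by_contra fun hne => hnN ?_)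
    have hTA : T ≤ A := by
      rintro _ ⟨y, hy, rfl⟩
      refine (homega _ (P.pow_mem hy _)).1 ?_
      rw [← pow_mul, ← pow_succ, ← Nat.succ_eq_add_one, ← hk]
      exact hn y hy
    have hTc : Nat.card T = p := by
      have hd := Subgroup.card_dvd_of_le hTA
      rw [hAc] at hd
      obtain ⟨i, hi, hic⟩ := (Nat.dvd_prime_pow hp.1).1 hd
      interval_cases i
      · exact absurd (Subgroup.mem_bot.1 (Subgroup.card_eq_one.1 hic ▸
          (⟨x, hx, rfl⟩ : x ^ (p ^ k) ∈ T))) hx1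
      · rwa [pow_one] at hic
      · exact absurd (Subgroup.eq_of_le_of_card_ge hTA (by rw [hAc, hic]) ▸ hA₁A ha) haT
    have hTz : Subgroup.zpowers (x ^ (p ^ k)) = T :=
      zpowers_eq_of_prime_card (hTc.symm ▸ hp.1) ⟨x, hx, rfl⟩ hx1
    obtain ⟨E, hE, hAE⟩ := hU.exists_compl_ge hM hAM (hAc ▸ isPiNum_pow hp.1 hp.2.1 2)
    obtain ⟨hC, huniq⟩ := (hU.s1418 M hM E hE p hp A ⟨hAE, hA, hAc⟩).2.2 T hTA hTc
      (by rw [← hTz, centralizer_zpowers_eq]; exact hne)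
    refine le_trans (fun g hg => ?_) (normalizer_le_of_unique hU hM hC huniq)
    refine Coprime.mem_normalizer_of_forall fun z hz => ?_
    obtain ⟨y, hy, rfl⟩ := hz
    exact ⟨g * y * g⁻¹, (Subgroup.mem_normalizer_iff.1 hg y).1 hy, conj_pow⟩

/-- The primes of an element of `U ∩ M̂_σ` lie in `τ₂(M)`. -/
theorem tau2_of_mem_sigmaHat {M K U : Subgroup G} (hM : IsCoatom M)
    (hKU : Cfsg.IsSigmaDecomposition M K U) {a : G} (ha : a ∈ U) (hσ : a ∈ Cfsg.sigmaHat M)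
    {p : ℕ} (hp : p.Prime) (hd : p ∣ orderOf a) : p ∈ Cfsg.tau2 M := by
  obtain ⟨haM, y, hy, hy1, hc⟩ := hσ
  have hUh := decomp_hall hU hM hKU
  have ha1 : a ≠ 1 := by
    rintro rfl
    rw [orderOf_one] at hd
    exact hp.not_dvd_one hd
  rcases hU.dichotomy hM hy hy1 (Subgroup.mem_inf.2
      ⟨haM, Subgroup.mem_centralizer_singleton_iff.2 hc⟩) ha1
    (fun q hq hqd hσ' => hUh.2.1 q hq (dvd_card_of_mem ha hqd) (Or.inr hσ')) with ⟨hk, -⟩ | ⟨ht, -⟩
  · exact absurd (Or.inl (hk p hp hd)) (hUh.2.1 p hp (dvd_card_of_mem ha hd))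
  · exact ht p hp hd

theorem compl_of_k_bot {M K U : Subgroup G} (hKU : Cfsg.IsSigmaDecomposition M K U) (hK : K = ⊥) :
    Cfsg.IsComplIn U (Cfsg.sigmaCore M) M := by
  have h := hKU.compl
  rwa [hK, bot_sup_eq] at h

theorem fixed_hyp_of_k_bot {M K U : Subgroup G} (hM : IsCoatom M)
    (hKU : Cfsg.IsSigmaDecomposition M K U) (hK : K = ⊥) :
    ∀ e ∈ U, e ≠ 1 → (∀ p : ℕ, p.Prime → p ∣ orderOf e → p ∈ Cfsg.tau1 M ∪ Cfsg.tau3 M) →
      Cfsg.sigmaCore M ⊓ Subgroup.centralizer ({e} : Set G) = ⊥ := by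
  intro e he he1 hτ
  by_contra hne
  obtain ⟨p, hp, hpd, y, hy, hyp⟩ := exists_prime_orderOf he1
  have hκ : p ∈ Cfsg.kappa M := by
    refine hU.mem_kappa_of_centralizes hM (hτ p hp hpd)
      (hKU.compl.1 (Subgroup.zpowers_le.2 he hy)) hyp fun hb => hne (le_bot_iff.1 ?_)
    exact (inf_le_inf_left _ (centralizer_le_of_mem_zpowers hy)).trans hb.le
  refine hKU.hall.2.2 p hp hκ ?_
  rw [hK, Subgroup.relIndex_bot_left]
  exact hκ.2.1

theorem s1358 (M : Subgroup G) (hM : IsCoatom M) (K U : Subgroup G)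
    (hKU : Cfsg.IsSigmaDecomposition M K U) :
    ∀ (p : ℕ), p.Prime → ∀ P : Sylow p U,
      IsMulCommutative (P : Subgroup U) ∧ Cfsg.PRankLE p 2 (P : Subgroup U) := by
  intro p hp P
  have := Fact.mk hp
  have hUh := decomp_hall hU hM hKU
  obtain ⟨E, hE, -⟩ := hU.exists_compl_ge hM (U := ⊥) bot_le
    (by rw [Subgroup.card_bot]; exact isPiNum_one)
  set Q := (P : Subgroup U).map U.subtype with hQdef
  have hQM : Q ≤ M := (Subgroup.map_subtype_le _).trans hKU.compl.1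
  have hQp : IsPGroup p Q := P.2.map _
  have hQc : IsMulCommutative Q := (hU.s1420 M hM E hE).1 Q hQM hQp.isNilpotent
    fun q hq hd hσ => hUh.2.1 q hq (hd.trans (Subgroup.card_dvd_of_le (Subgroup.map_subtype_le _)))
      (Or.inr hσ)
  have e := (P : Subgroup U).equivMapOfInjective U.subtype U.subtype_injective
  refine ⟨⟨⟨fun a b => e.injective ?_⟩⟩, fun A hA hAe => ?_⟩
  · rw [map_mul, map_mul]
    exact mul_comm' _ _
  by_cases hpM : p ∈ Cfsg.sigma M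
  · have hPbot : (P : Subgroup U) = ⊥ := by
      obtain ⟨j, hj⟩ := P.2.exists_card_eq
      rcases Nat.eq_zero_or_pos j with h0 | h0
      · exact Subgroup.card_eq_one.1 (by rw [hj, h0, pow_zero])
      · exact absurd (Or.inr hpM) (hUh.2.1 p hp
          ((dvd_pow_self p h0.ne').trans (hj ▸ Subgroup.card_subgroup_dvd_card _)))
    calc Nat.card A ≤ Nat.card (P : Subgroup U) :=
          Nat.le_of_dvd Nat.card_pos (Subgroup.card_subgroup_dvd_card A)
      _ = 1 := by rw [hPbot, Subgroup.card_bot]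
      _ ≤ p ^ 2 := Nat.one_le_pow _ _ hp.pos
  · have hr : Cfsg.PRankLE p 2 Q := OddSigma.prankLE_mono hQM (hU.prankLE_two hM hp hpM)
    have h := hr (A.map e.toMonoidHom) ?_ ?_
    · rwa [Subgroup.card_map_of_injective e.injective] at h
    · refine ⟨⟨fun a b => Subtype.ext ?_⟩⟩
      obtain ⟨a', ha', hae⟩ := a.2
      obtain ⟨b', hb', hbe⟩ := b.2
      push_cast
      rw [← hae, ← hbe, ← map_mul, ← map_mul, setLike_mul_comm ha' hb']
    · rintro _ ⟨a, ha, rfl⟩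
      rw [← map_pow, hAe a ha, map_one]

theorem s1359 (h21 : AbelianFixedFact G) (M : Subgroup G) (hM : IsCoatom M) (K U : Subgroup G)
    (hKU : Cfsg.IsSigmaDecomposition M K U) :
    IsMulCommutative (Subgroup.closure ((U : Set G) ∩ Cfsg.sigmaHat M)) := by
  obtain ⟨A₀, hle, hA₀⟩ : ∃ A₀ : Subgroup G,
      Subgroup.closure ((U : Set G) ∩ Cfsg.sigmaHat M) ≤ A₀ ∧ IsMulCommutative A₀ := by
    by_cases hK : K = ⊥
    · obtain ⟨⟨A₀, -, -, hA₀, hfix⟩, -⟩ :=
        h21 M hM U (hU.compl_of_k_bot hKU hK) (hU.fixed_hyp_of_k_bot hM hKU hK)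
      refine ⟨A₀, (Subgroup.closure_le _).2 ?_, hA₀⟩
      rintro a ⟨ha, -, y, hy, hy1, hc⟩
      exact hfix y hy hy1 (Subgroup.mem_inf.2 ⟨ha, Subgroup.mem_centralizer_singleton_iff.2 hc⟩)
    · exact ⟨U, (Subgroup.closure_le _).2 fun a ha => ha.1, decomp_u_comm hU hM hKU hK⟩
  exact ⟨⟨fun a b => Subtype.ext (setLike_mul_comm (hle a.2) (hle b.2))⟩⟩

theorem s1360 (h21 : AbelianFixedFact G) (M : Subgroup G) (hM : IsCoatom M) (K U : Subgroup G)
    (hKU : Cfsg.IsSigmaDecomposition M K U) :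
    ∃ U₀ : Subgroup G, U₀ ≤ U ∧ Monoid.exponent U₀ = Monoid.exponent U ∧
      ∀ u ∈ U₀, u ∈ Cfsg.sigmaHat M → u = 1 := by
  by_cases hK : K = ⊥
  · obtain ⟨-, E₀, hE₀, hexp, hfree⟩ :=
      h21 M hM U (hU.compl_of_k_bot hKU hK) (hU.fixed_hyp_of_k_bot hM hKU hK)
    refine ⟨E₀, hE₀, hexp, fun a ha hσ => by_contra fun ha1 => ?_⟩
    obtain ⟨-, y, hy, hy1, hc⟩ := hσ
    exact hy1 (Subgroup.mem_bot.1 (hfree a ha ha1 ▸ Subgroup.mem_inf.2
      ⟨hy, Subgroup.mem_centralizer_singleton_iff.2 hc.symm⟩))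
  have hUh := decomp_hall hU hM hKU
  have := decomp_u_comm hU hM hKU hK
  -- one cyclic subgroup for each prime of `τ₂(M)`
  have hex : ∀ p ∈ Cfsg.tau2 M, ∃ x ∈ U, ∃ m : ℕ, ¬ p ∣ m ∧
      (∀ y ∈ U, ∀ i, orderOf y = p ^ i → orderOf y ∣ orderOf x) ∧
      (∃ i, orderOf x = p ^ i) ∧
      (∀ y : G, ∀ q i : ℕ, y ∈ U → q.Prime → q ≠ p → orderOf y = q ^ i → y ^ m = 1) ∧
      ∀ z ∈ Subgroup.zpowers x, orderOf z = p →
        Cfsg.sigmaCore M ⊓ Subgroup.centralizer ({z} : Set G) = ⊥ := by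
    intro p hp
    have := Fact.mk hp.1
    obtain ⟨P, hPU, hPp, hPi⟩ := exists_sylow_sub U p
    have hq : ∀ y : G, ∀ q i : ℕ, y ∈ U → q.Prime → q ≠ p → orderOf y = q ^ i →
        y ^ P.relIndex U = 1 := by
      intro y q i hy hq hqp hyo
      refine orderOf_dvd_iff_pow_eq_one.1 ?_
      obtain ⟨j, hj⟩ := hPp.exists_card_eq
      have h := Subgroup.orderOf_dvd_natCard U hy
      rw [← card_mul_relIndex hPU, hj] at h
      refine Nat.Coprime.dvd_of_dvd_mul_left ?_ h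
      rw [hyo]
      exact Nat.Coprime.pow _ _ ((Nat.coprime_primes hq hp.1).2 hqp)
    by_cases hpU : p ∣ Nat.card U
    · have hPi' : ¬ p ∣ P.relIndex M := by
        rw [← Subgroup.relIndex_mul_relIndex P U M hPU hKU.compl.1]
        exact hp.1.not_dvd_mul hPi (hUh.2.2 p hp.1 (hUh.2.1 p hp.1 hpU))
      obtain ⟨x, hx, hmax, hfree⟩ :=
        hU.exists_free_element hM hp (hPU.trans hKU.compl.1) hPp hPi'
      refine ⟨x, hPU hx, P.relIndex U, hPi, fun y hy i hyo => ?_, ?_, hq, hfree⟩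
      · exact hmax y (le_sylow_of_comm hPU hPp hPi (Y := Subgroup.zpowers y)
          (Subgroup.zpowers_le.2 hy) (IsPGroup.of_card (by rw [Nat.card_zpowers, hyo]))
          (Subgroup.mem_zpowers y))
      · obtain ⟨i, hi⟩ := IsPGroup.iff_orderOf.1 hPp ⟨x, hx⟩
        exact ⟨i, by rwa [Subgroup.orderOf_mk] at hi⟩
    · refine ⟨1, one_mem U, P.relIndex U, hPi, fun y hy i hyo => ?_, ⟨0, by simp⟩, hq,
        fun z hz hzo => absurd hzo ?_⟩
      · rcases Nat.eq_zero_or_pos i with h0 | h0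
        · rw [hyo, h0, pow_zero]; exact one_dvd _
        · exact absurd ((dvd_pow_self p h0.ne').trans (hyo ▸ Subgroup.orderOf_dvd_natCard U hy)) hpU
      · rw [Subgroup.zpowers_one_eq_bot, Subgroup.mem_bot] at hz
        rw [hz, orderOf_one]
        exact hp.1.ne_one.symm
  choose x hxU m hm hmax hxp hq hfree using hex
  let U₀ : Subgroup G :=
    { carrier := {a | a ∈ U ∧ ∀ p, ∀ hp : p ∈ Cfsg.tau2 M, a ^ m p hp ∈ Subgroup.zpowers (x p hp)}
      one_mem' := ⟨one_mem U, fun p hp => by rw [one_pow]; exact one_mem _⟩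
      mul_mem' := by
        rintro a b ⟨ha, ha'⟩ ⟨hb, hb'⟩
        refine ⟨mul_mem ha hb, fun p hp => ?_⟩
        rw [(show Commute a b from setLike_mul_comm ha hb).mul_pow]
        exact mul_mem (ha' p hp) (hb' p hp)
      inv_mem' := by
        rintro a ⟨ha, ha'⟩
        exact ⟨inv_mem ha, fun p hp => by rw [inv_pow]; exact inv_mem (ha' p hp)⟩ }
  have hle : U₀ ≤ U := fun a ha => ha.1
  refine ⟨U₀, hle, ?_, fun a ha hσ => by_contra fun ha1 => ?_⟩
  · refine Nat.dvd_antisymm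
      (Monoid.exponent_dvd_of_monoidHom (Subgroup.inclusion hle) (Subgroup.inclusion_injective hle)) ?_
    refine Monoid.exponent_dvd.2 fun g => (Nat.dvd_iff_prime_pow_dvd_dvd _ _).2 fun q i hq' hd => ?_
    have hgo : orderOf g ≠ 0 := (orderOf_pos g).ne'
    set w : G := (g : G) ^ (orderOf g / q ^ i) with hwdef
    have hwU : w ∈ U := U.pow_mem g.2 _
    have hwo : orderOf w = q ^ i := by
      have h := orderOf_pow_orderOf_div hgo hd
      rwa [← Subgroup.orderOf_coe, Subgroup.coe_pow] at h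
    by_cases hqτ : q ∈ Cfsg.tau2 M
    · refine ((hwo ▸ hmax q hqτ w hwU i hwo : q ^ i ∣ orderOf (x q hqτ))).trans ?_
      have hxU₀ : x q hqτ ∈ U₀ := by
        refine ⟨hxU q hqτ, fun p hp => ?_⟩
        obtain ⟨l, hl⟩ := hxp q hqτ
        by_cases hpq : q = p
        · subst hpq
          exact Subgroup.pow_mem _ (Subgroup.mem_zpowers _) _
        · rw [hq p hp _ q l (hxU q hqτ) hq' hpq hl]
          exact one_mem _
      rw [← Subgroup.orderOf_mk (x q hqτ) hxU₀]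
      exact Monoid.order_dvd_exponent _
    · have hwU₀ : w ∈ U₀ := by
        refine ⟨hwU, fun p hp => ?_⟩
        rw [hq p hp w q i hwU hq' (fun h => hqτ (h ▸ hp)) hwo]
        exact one_mem _
      rw [← hwo, ← Subgroup.orderOf_mk w hwU₀]
      exact Monoid.order_dvd_exponent _
  · obtain ⟨p, hp, hd, z, hz, hzp⟩ := exists_prime_orderOf ha1
    have hp2 := hU.tau2_of_mem_sigmaHat hM hKU ha.1 hσ hp hd
    obtain ⟨-, y, hy, hy1, hc⟩ := hσ
    have hz₀ : z ∈ U₀ := Subgroup.zpowers_le.2 ha hz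
    have hzx : z ∈ Subgroup.zpowers (x p hp2) := by
      obtain ⟨l, hl⟩ := exists_pow_eq_self_of_coprime (x := z) (n := m p hp2)
        (by rw [hzp]; exact (hp.coprime_iff_not_dvd.2 (hm p hp2)).symm)
      rw [← hl]
      exact Subgroup.pow_mem _ (hz₀.2 p hp2) _
    refine hy1 (Subgroup.mem_bot.1 (hfree p hp2 z hzx hzp ▸ Subgroup.mem_inf.2
      ⟨hy, centralizer_le_of_mem_zpowers hz (Subgroup.mem_centralizer_singleton_iff.2 hc.symm)⟩))

theorem s1361 (M : Subgroup G) (hM : IsCoatom M) (K U : Subgroup G)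
    (hKU : Cfsg.IsSigmaDecomposition M K U) (X : Subgroup G) (hXU : X ≤ U) (hX : X ≠ ⊥)
    (hXc : Cfsg.sigmaCore M ⊓ Subgroup.centralizer (X : Set G) ≠ ⊥) :
    Subgroup.centralizer (X : Set G) ≤ M ∧
      ∀ L : Subgroup G, IsCoatom L → Subgroup.centralizer (X : Set G) ≤ L → L = M := by
  have hUh := decomp_hall hU hM hKU
  have hXM : X ≤ M := hXU.trans hKU.compl.1
  obtain ⟨y, hy, hy1⟩ :=
    (Cfsg.sigmaCore M ⊓ Subgroup.centralizer (X : Set G)).bot_or_exists_ne_one.resolve_left hXc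
  obtain ⟨hyσ, hyC⟩ := Subgroup.mem_inf.1 hy
  have hσ : ∀ a ∈ X, a ∈ Cfsg.sigmaHat M := fun a ha => ⟨hXM ha, y, hyσ, hy1, hyC a ha⟩
  have hτ : ∀ p : ℕ, p.Prime → p ∣ Nat.card X → p ∈ Cfsg.tau2 M := by
    intro p hp hd
    have := Fact.mk hp
    obtain ⟨a, ha⟩ := exists_prime_orderOf_dvd_card' (G := X) p hd
    exact hU.tau2_of_mem_sigmaHat hM hKU (hXU a.2) (hσ a a.2) hp
      (by rw [Subgroup.orderOf_coe, ha])
  obtain ⟨x', hx', hx'1⟩ := X.bot_or_exists_ne_one.resolve_left hX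
  obtain ⟨E, hE, hXE⟩ := hU.exists_compl_ge hM hXM fun p hp hd => (hτ p hp hd).2.1
  obtain ⟨hCM, -⟩ := (hU.s1420 M hM E hE).2.2.2 x' (hXM hx') hx'1
    (fun p hp hd => hτ p hp (dvd_card_of_mem hx' hd)) (hσ x' hx')
  refine ⟨(Subgroup.centralizer_le (Set.singleton_subset_iff.2 hx')).trans hCM,
    fun L hL hCL => by_contra fun hne => hy1 ?_⟩
  obtain ⟨p, hp, hpd⟩ := Nat.exists_prime_and_dvd (mt Subgroup.card_eq_one.1 hX)
  have hp2 := hτ p hp hpd
  have := Fact.mk hp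
  obtain ⟨A, hAE, hA, hAc⟩ := hU.exists_elementary_compl hM hE hp2
  have hXA : X ≤ Subgroup.normalizer (A : Set G) :=
    hXE.trans (hU.s1418 M hM E hE p hp2 A ⟨hAE, hA, hAc⟩).1.1
  have hcomm := hU.tau2_abelian M hM (A ⊔ X) (sup_le (hAE.trans hE.1) hXM) fun q hq hd => by
    have h1 : Nat.card ↥(A ⊔ X) ∣ Nat.card A * Nat.card X := by
      refine ⟨Nat.card ↥(X ⊓ A : Subgroup G), ?_⟩
      have := Coprime.card_mul_inf X A
      rw [← Subgroup.coe_mul_of_left_le_normalizer_right X A hXA] at this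
      rw [sup_comm A X, mul_comm (Nat.card A)]
      exact this.symm
    rcases hq.dvd_mul.1 (hd.trans h1) with h | h
    · rw [(Nat.prime_dvd_prime_iff_eq hq hp).1 (hq.dvd_of_dvd_pow (hAc ▸ h))]
      exact hp2
    · exact hτ q hq h
  have hAL : A ≤ L := le_trans (fun a ha => Subgroup.mem_centralizer_iff.2 fun b hb =>
    setLike_mul_comm (S := Subgroup G) (s := A ⊔ X) (Subgroup.mem_sup_right hb)
      (Subgroup.mem_sup_left ha)) hCL
  rw [← Subgroup.mem_bot, ← (hU.s1417 M hM p hp2 A ⟨hAE.trans hE.1, hA, hAc⟩).2.2.2.2.1 L hL hne hAL]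
  exact Subgroup.mem_inf.2 ⟨hyσ, hCL hyC⟩

end Upstream

end Cfsg.Agent.OddOrder14
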