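import Cfsg.Agent.Lib.OddOrder14.Inputs
import Cfsg.Agent.Lib.OddOrder14.UFacts
import Cfsg.Agent.Lib.OddOrder14.SmallCentralizer
import Cfsg.Agent.Lib.OddOrder.Sec15
import Cfsg.Agent.Lib.OddPrime.Fitting
import Cfsg.Agent.Lib.OddPrime.Tools
import Cfsg.Agent.Lib.OddPrime.NonabelianUnique

/-!
# Bender-Glauberman 15.7

`fitting_not_ti`: for `g ∉ M` with `X = F(M) ∩ F(M)^g ≠ 1`: `X ≤ M_F` is cyclic,
`M' ≤ F(M) = M_σ × O_{σ'}(F(M))` with `M' = F(M)` if `K ≠ 1`, and the trichotomy of statement 1440.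

In the printed theorem (and in statement 1440) `M' = F(M)` is also asserted for `K = 1`; that clause
is a known erratum and is not proved here.
-/

set_option autoImplicit false
set_option linter.unusedVariables false
set_option linter.unusedSectionVars false

open scoped Pointwise commutatorElement

universe u

namespace Cfsg.Agent.OddOrder14

open Cfsg.Agent.Solvable

variable {G : Type u} [Group G] [Finite G]

/-- An element of `F(M) ∩ M_σ` of prime order `p` with the properties of the elements of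
`F(M) ∩ F(M)^g`. -/
structure NonTI (M : Subgroup G) (p : ℕ) (y : G) : Prop where
  isCoatom : IsCoatom M
  prime : p.Prime
  mem_fitting : y ∈ Cfsg.fittingOf M
  mem_sigma : y ∈ Cfsg.sigmaCore M
  order : orderOf y = p
  not_le : ¬ Subgroup.centralizer ({y} : Set G) ≤ M
  not_beta : p ∉ Cfsg.beta M
  not_derived : y ∉ ⁅Cfsg.sigmaCore M, Cfsg.sigmaCore M⁆

theorem mem_pCore_of_nilpotent {H : Subgroup G} (hn : Group.IsNilpotent H) {p : ℕ} [Fact p.Prime]
    {y : G} (hy : y ∈ H) (hp : IsPGroup p (Subgroup.zpowers y)) :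
    y ∈ (Cfsg.pCore p H).map H.subtype := by
  have := hn
  refine ⟨⟨y, hy⟩, Cores.le_pCore_of_isSubnormal (Cores.isSubnormal_of_nilpotent _) ?_
    (Subgroup.mem_zpowers (⟨y, hy⟩ : H)), rfl⟩
  obtain ⟨n, hn'⟩ := hp.exists_card_eq
  exact IsPGroup.of_card (n := n) (by
    rw [Nat.card_zpowers, Subgroup.orderOf_mk, ← Nat.card_zpowers, hn'])

theorem mem_pPrimeCore_of_nilpotent {H : Subgroup G} (hn : Group.IsNilpotent H) {p : ℕ}
    {y : G} (hy : y ∈ H) (hp : (orderOf y).Coprime p) :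
    y ∈ (Cfsg.pPrimeCore p H).map H.subtype := by
  have := hn
  exact ⟨⟨y, hy⟩, Cores.le_pPrimeCore_of_isSubnormal (Cores.isSubnormal_of_nilpotent _)
    (by rwa [Nat.card_zpowers, Subgroup.orderOf_mk]) (Subgroup.mem_zpowers (⟨y, hy⟩ : H)), rfl⟩

/-- A nilpotent group with abelian Sylow subgroups is abelian. -/
theorem isMulCommutative_of_pCore {H : Subgroup G} (hH : Group.IsNilpotent H)
    (h : ∀ r : ℕ, r.Prime → IsMulCommutative (Cfsg.pCore r H)) : IsMulCommutative H := by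
  have := hH
  have htop := Cores.iSup_pCore_eq_top (G := H)
  have hcen : ∀ q : ℕ, q.Prime → Cfsg.pCore q H ≤ Subgroup.center H := by
    intro q hq x hx
    have := Fact.mk hq
    refine Subgroup.mem_center_iff.2 fun g => ?_
    have hle : (⊤ : Subgroup H) ≤ Subgroup.centralizer ({x} : Set H) := by
      rw [← htop]
      refine iSup_le fun r => ?_
      intro z hz
      refine Subgroup.mem_centralizer_singleton_iff.2 ?_
      have := Fact.mk r.2
      by_cases hrq : (r : ℕ) = q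
      · have := h q hq
        exact congrArg Subtype.val
          (mul_comm' (⟨z, hrq ▸ hz⟩ : Cfsg.pCore q H) ⟨x, hx⟩)
      · exact Cores.pCore_commute hrq hz hx
    exact Subgroup.mem_centralizer_singleton_iff.1 (hle (Subgroup.mem_top g))
  refine ⟨⟨fun a b => ?_⟩⟩
  have hle : (⊤ : Subgroup H) ≤ Subgroup.center H := by
    rw [← htop]
    exact iSup_le fun r => hcen r r.2
  exact (Subgroup.mem_center_iff.1 (hle (Subgroup.mem_top a)) b).symm

/-- A power with exponent `|W| - 1` centralises a normalised subgroup `W` of prime order. -/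
theorem pow_sub_one_commute {u w : G} {q : ℕ} (hq : q.Prime) (hw : orderOf w = q)
    (hu : u ∈ Subgroup.normalizer (Subgroup.zpowers w : Set G)) :
    u ^ (q - 1) * w = w * u ^ (q - 1) := by
  have := Fact.mk hq
  obtain ⟨i, hi⟩ := Subgroup.mem_zpowers_iff.1
    ((Subgroup.mem_normalizer_iff.1 hu w).1 (Subgroup.mem_zpowers w))
  have hiter : ∀ n : ℕ, u ^ n * w * (u ^ n)⁻¹ = w ^ (i ^ n) := by
    intro n
    induction n with
    | zero => simp
    | succ n ih =>
      have h1 : u * w ^ (i ^ n) * u⁻¹ = (w ^ i) ^ (i ^ n) := by rw [hi, conj_zpow]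
      calc u ^ (n + 1) * w * (u ^ (n + 1))⁻¹ = u * (u ^ n * w * (u ^ n)⁻¹) * u⁻¹ := by
            rw [pow_succ']; group
        _ = w ^ (i ^ (n + 1)) := by rw [ih, h1, ← zpow_mul, ← pow_succ']
  have hi0 : (i : ZMod q) ≠ 0 := by
    intro h0
    obtain ⟨k, rfl⟩ := (ZMod.intCast_zmod_eq_zero_iff_dvd i q).1 h0
    rw [zpow_mul, zpow_natCast, ← hw, pow_orderOf_eq_one, one_zpow] at hi
    have : w = 1 := conj_eq_one_iff.1 hi.symm
    rw [this, orderOf_one] at hw
    exact hq.one_lt.ne hw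
  have h2 : w ^ (i ^ (q - 1)) = w := by
    conv_rhs => rw [← zpow_one w]
    refine zpow_eq_zpow_iff_modEq.2 ?_
    rw [hw]
    refine (ZMod.intCast_eq_intCast_iff _ _ q).1 ?_
    push_cast
    exact ZMod.pow_card_sub_one_eq_one hi0
  have h3 := hiter (q - 1)
  rw [h2] at h3
  exact mul_inv_eq_iff_eq_mul.1 h3

section NonTI

variable (hG : Cfsg.IsMinSimpleOddOrder G) {M : Subgroup G}
include hG

/-- An element of prime order of `F(M) ∩ F(M)^g` is as in `NonTI`. -/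
theorem nonTI_of_inter (hM : IsCoatom M) {g : G} (hg : g ∉ M) {p : ℕ} (hp : p.Prime) {y : G}
    (hy : y ∈ Cfsg.fittingOf M) (hyg : g⁻¹ * y * g ∈ Cfsg.fittingOf M) (hyo : orderOf y = p) :
    NonTI M p y := by
  have hU := upstream hG
  have O := OddPrime.facts hG
  have := Fact.mk hp
  have hy1 : y ≠ 1 := ne_one_of_orderOf hp hyo
  have hFM := OddMax.fittingOf_le M
  have hFn := OddMax.fittingOf_nilpotent M
  have hpσ : p ∈ Cfsg.sigma M := by
    by_contra hpσ
    obtain ⟨hcyc, -, -⟩ := O.fitting_split hM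
    set Z := Cfsg.piCoreOf {q | q.Prime ∧ q ∉ Cfsg.sigma M} (Cfsg.fittingOf M) with hZ
    set T := (Cfsg.pCore p (Cfsg.fittingOf M)).map (Cfsg.fittingOf M).subtype with hT
    have hTp : IsPGroup p T := (Cores.isPGroup_pCore p _).map _
    have hTZ : T ≤ Z := OddTrans.le_piCoreOf (Subgroup.map_subtype_le _)
      (Subgroup.le_normalizer.trans (Cores.normalizer_le_normalizer_map _))
      fun r hr hrd => show r.Prime ∧ r ∉ Cfsg.sigma M from
        ⟨hr, OddPrime.eq_of_dvd_card_pGroup hTp hr hrd ▸ hpσ⟩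
    have hMZ : M ≤ Subgroup.normalizer (Z : Set G) := fun m hm =>
      OddTrans.mem_normalizer_piCoreOf (OddMax.le_normalizer_fittingOf M hm)
    have hmem : ∀ {z : G}, z ∈ Cfsg.fittingOf M → orderOf z = p → z ∈ Z := fun {z} hz hzo =>
      hTZ (mem_pCore_of_nilpotent hFn hz (IsPGroup.of_card (n := 1)
        (by rw [Nat.card_zpowers, hzo, pow_one])))
    have hy'o : orderOf (g⁻¹ * y * g) = p := by
      have := orderOf_conj_eq g⁻¹ y
      rw [inv_inv, hyo] at this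
      exact this
    have heq := zpowers_eq_of_cyclic hcyc (hmem hy hyo) (hmem hyg hy'o) (hyo.trans hy'o.symm)
    have hN : Subgroup.normalizer (Subgroup.zpowers y : Set G) = M :=
      hU.normalizer_eq_of_normal hM (Subgroup.zpowers_le.2 (hFM hy))
        (hMZ.trans (normalizer_le_of_cyclic hcyc (Subgroup.zpowers_le.2 (hmem hy hyo))))
        (mt Subgroup.zpowers_eq_bot.1 hy1)
    refine hg (inv_mem_iff.1 (hN.le (Coprime.mem_normalizer_of_forall fun z hz => ?_)))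
    obtain ⟨i, rfl⟩ := Subgroup.mem_zpowers_iff.1 hz
    rw [inv_inv]
    have h2 : g⁻¹ * y ^ i * g = (g⁻¹ * y * g) ^ i := by
      have := conj_zpow (i := i) (a := g⁻¹) (b := y)
      rw [inv_inv] at this
      exact this.symm
    rw [h2]
    exact Subgroup.zpow_mem _ (heq.ge (Subgroup.mem_zpowers _)) i
  have hys : y ∈ Cfsg.sigmaCore M := hU.mem_sigmaCore_of_order hM (hFM hy) fun q hq hd => by
    rw [hyo] at hd
    rwa [(Nat.prime_dvd_prime_iff_eq hq hp).1 hd]
  have hyD : y ∈ Cfsg.sigmaCore M ⊓ M.map (MulAut.conj g).toMonoidHom :=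
    ⟨hys, g⁻¹ * y * g, hFM hyg, by show g * (g⁻¹ * y * g) * g⁻¹ = y; group⟩
  obtain ⟨E, hE, -⟩ := hU.exists_compl_ge hM (U := ⊥) bot_le
    (by rw [Subgroup.card_bot]; exact isPiNum_one)
  obtain ⟨-, hβ, hder⟩ := (hU.s1426 M hM E hE).2.2 g hg
  refine ⟨hM, hp, hy, hys, hyo, fun hC => ?_, hβ p hp (dvd_card_of_mem hyD (dvd_of_eq hyo.symm)),
    fun hd => hy1 ?_⟩
  · have hmap : (Subgroup.zpowers y).map (MulAut.conj g⁻¹).toMonoidHom ≤ M := by
      rw [MonoidHom.map_zpowers, Subgroup.zpowers_le]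
      show g⁻¹ * y * g⁻¹⁻¹ ∈ M
      rw [inv_inv]
      exact hFM hyg
    obtain ⟨m, hm, c, hc, hmc⟩ := (hU.s1404 M hM p hpσ (Subgroup.zpowers y)
      (IsPGroup.of_card (n := 1) (by rw [Nat.card_zpowers, hyo, pow_one]))
      (mt Subgroup.zpowers_eq_bot.1 hy1) (Subgroup.zpowers_le.2 (hFM hy))).1 g⁻¹ hmap
    rw [centralizer_zpowers_eq] at hc
    exact hg (inv_mem_iff.1 (hmc ▸ mul_mem hm (hC hc)))
  · have h1 : y ∈ Cfsg.sigmaCore M ⊓ M.map (MulAut.conj g).toMonoidHom ⊓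
        ⁅Cfsg.sigmaCore M, Cfsg.sigmaCore M⁆ := ⟨hyD, hd⟩
    rwa [hder, Subgroup.mem_bot] at h1

variable {p : ℕ} {y : G} (N : NonTI M p y)
include N

theorem NonTI.ne_top : Subgroup.centralizer ({y} : Set G) ≠ ⊤ :=
  OddTrans.centralizer_ne_top hG.2.1 hG.2.2.1 rfl (ne_one_of_orderOf N.prime N.order)

theorem NonTI.no_unique {T : Subgroup G} (hT : Cfsg.InUniqueMaximal T) (hTM : T ≤ M)
    (hTy : T ≤ Subgroup.centralizer ({y} : Set G)) : False :=
  N.not_le (OddSigma.le_of_unique hT N.isCoatom hTM hTy (N.ne_top hG))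

/-- `C(y) ∩ M` has rank at most two. -/
theorem NonTI.small {r : ℕ} [hr : Fact r.Prime] {E : Subgroup G}
    (hE : Cfsg.IsElementaryAbelian r E) (hEM : E ≤ M)
    (hEy : E ≤ Subgroup.centralizer ({y} : Set G)) : Nat.card E ≤ r ^ 2 := by
  by_contra h
  obtain ⟨j, hj⟩ := (Signalizer.isPGroup_of_elemAb hE).exists_card_eq
  refine N.no_unique hG ((OddPrime.facts hG).unique_of_elementary hE ?_) hEM hEy
  rw [hj] at h ⊢
  exact Nat.pow_le_pow_right hr.out.pos (_root_.not_le.1 fun hle => h (Nat.pow_le_pow_right hr.out.pos (by omega)))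

theorem NonTI.commutative {r : ℕ} [Fact r.Prime] {T : Subgroup G} (hT : IsPGroup r T) (hTM : T ≤ M)
    (hTy : T ≤ Subgroup.centralizer ({y} : Set G)) : IsMulCommutative T :=
  by_contra fun h => N.no_unique hG ((OddPrime.facts hG).unique_of_nonabelian hT h) hTM hTy

/-- `M_F = M_σ`. -/
theorem NonTI.core_eq : Cfsg.fittingHallOf M = Cfsg.sigmaCore M := by
  have hU := upstream hG
  have F := sec15 hG
  rcases OddMax.fittingHallOf_eq_or_ne F N.isCoatom with h | ⟨K, U, hKU, hne⟩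
  · exact h
  exfalso
  obtain ⟨Q, -, hq, hb, -, hQp, hQF, hQs, hMQ, hidx, -, -⟩ :=
    OddMax.fcore_ne_structure hG F N.isCoatom hKU hne
  set q := Nat.card ↥(Cfsg.sigmaCore M ⊓ Subgroup.centralizer (K : Set G))
  have := Fact.mk hq
  have hpq : p ≠ q := fun e => N.not_beta (e ▸ hb)
  obtain ⟨E, hEM, hE, hEc⟩ := OddSigma.exists_elementary hb.1.2
  have hEp := Signalizer.isPGroup_of_elemAb hE
  have hEQ : E ≤ Q := fun e he => by
    have hes : e ∈ Cfsg.sigmaCore M := hU.mem_sigmaCore_of_order N.isCoatom (hEM he)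
      fun r hr hd => by
        rw [OddPrime.eq_of_dvd_card_pGroup hEp hr (dvd_card_of_mem he hd)]
        exact hU.alpha_subset_sigma N.isCoatom hb.1
    refine OddMax.mem_of_coprime_relIndex ((OddMax.sigmaCore_le M).trans hMQ) hes ?_
    obtain ⟨i, hi⟩ := hEp.exists_card_eq
    exact (((hq.coprime_iff_not_dvd).2 hidx).pow_left i).coprime_dvd_left
      (hi ▸ Subgroup.orderOf_dvd_natCard _ he)
  have hEy : E ≤ Subgroup.centralizer ({y} : Set G) := fun e he =>
    Subgroup.mem_centralizer_singleton_iff.2 <|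
      OddSigma.commute_in_nilpotent (OddMax.fittingOf_nilpotent M)
        (OddMax.fittingHallOf_le_fittingOf M (hQF (hEQ he))) N.mem_fitting (by
          rw [N.order]
          refine ((N.prime.coprime_iff_not_dvd).2 fun hd => hpq ?_).symm
          exact OddPrime.eq_of_dvd_card_pGroup hEp N.prime (dvd_card_of_mem he hd))
  have := N.small hG hE hEM hEy
  have := Nat.pow_lt_pow_right hq.one_lt (show 2 < 2 + 1 by omega)
  omega

theorem NonTI.nilpotent : Group.IsNilpotent (Cfsg.sigmaCore M) :=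
  N.core_eq hG ▸ OddMax.fittingHallOf_nilpotent M

/-- Away from `p` the subgroups of `M_σ` centralise `y`. -/
theorem NonTI.le_centralizer {r : ℕ} [Fact r.Prime] (hrp : r ≠ p) {T : Subgroup G}
    (hT : IsPGroup r T) (hTs : T ≤ Cfsg.sigmaCore M) :
    T ≤ Subgroup.centralizer ({y} : Set G) := fun t ht =>
  Subgroup.mem_centralizer_singleton_iff.2 <|
    OddSigma.commute_in_nilpotent (N.nilpotent hG) (hTs ht) N.mem_sigma (by
      rw [N.order]
      refine ((N.prime.coprime_iff_not_dvd).2 fun hd => hrp ?_).symm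
      exact (OddPrime.eq_of_dvd_card_pGroup hT N.prime (dvd_card_of_mem ht hd)).symm)

theorem NonTI.beta_empty : Cfsg.beta M = ∅ := by
  have hU := upstream hG
  refine Set.eq_empty_iff_forall_notMem.2 fun r hr => ?_
  have := Fact.mk hr.1.1
  have hrp : r ≠ p := fun e => N.not_beta (e ▸ hr)
  obtain ⟨E, hEM, hE, hEc⟩ := OddSigma.exists_elementary hr.1.2
  have hEp := Signalizer.isPGroup_of_elemAb hE
  have hEs : E ≤ Cfsg.sigmaCore M := fun e he => hU.mem_sigmaCore_of_order N.isCoatom (hEM he)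
    fun q hq hd => by
      rw [OddPrime.eq_of_dvd_card_pGroup hEp hq (dvd_card_of_mem he hd)]
      exact hU.alpha_subset_sigma N.isCoatom hr.1
  have := N.small hG hE hEM (N.le_centralizer hG hrp hEp hEs)
  have := Nat.pow_lt_pow_right hr.1.1.one_lt (show 2 < 2 + 1 by omega)
  omega

theorem NonTI.commutator_le : ⁅M, M⁆ ≤ Cfsg.fittingOf M := by
  have hU := upstream hG
  obtain ⟨-, -, ⟨H, hH, hHn⟩, -⟩ := hU.s1414 M N.isCoatom
  have hM'M : ⁅M, M⁆ ≤ M := (OddMax.commutator_lt hG N.isCoatom).le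
  have h1 : H.relIndex ⁅M, M⁆ = 1 := by
    by_contra h
    obtain ⟨r, hr, hrd⟩ := Nat.exists_prime_and_dvd h
    exact hH.2.2 r hr ⟨hr, fun hb => (Set.eq_empty_iff_forall_notMem.1 (N.beta_empty hG)) r hb⟩ hrd
  have hHeq : H = ⁅M, M⁆ := le_antisymm hH.1 (Subgroup.relIndex_eq_one.1 h1)
  rw [← hHeq]
  exact OddMax.le_fittingOf (hHeq ▸ hM'M) (hHeq ▸ Subgroup.normalizer_commutator_ge_right M M) hHn

theorem NonTI.fitting_eq : Cfsg.fittingOf M = Cfsg.sigmaCore M ⊔
    Cfsg.piCoreOf {q | q.Prime ∧ q ∉ Cfsg.sigma M} (Cfsg.fittingOf M) := by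
  have h := ((OddPrime.facts hG).fitting_split N.isCoatom).2.2
  rwa [le_antisymm (OddMax.fittingOf_le (Cfsg.sigmaCore M))
    (OddMax.le_fittingOf le_rfl Subgroup.le_normalizer (N.nilpotent hG))] at h

theorem NonTI.k_facts {K U : Subgroup G} (hKU : Cfsg.IsSigmaDecomposition M K U) (hK : K ≠ ⊥) :
    U = ⊥ ∧ ⁅M, M⁆ = Cfsg.sigmaCore M ∧ ⁅M, M⁆ = Cfsg.fittingOf M := by
  have hU := upstream hG
  have D := kData_of_decomp hU N.isCoatom hKU hK
  have h65 := (hU.s1365 M N.isCoatom K U hKU hK).1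
  have hle := N.commutator_le hG
  have hUbot : U = ⊥ := by
    by_contra hU1
    obtain ⟨-, hC, -⟩ := D.u_ne_bot_facts hU hU1
    refine hU.sigmaCore_ne_bot N.isCoatom (le_bot_iff.1 (le_trans (le_inf le_rfl ?_) hC.le))
    intro s hs u hu
    refine OddSigma.commute_in_nilpotent (OddMax.fittingOf_nilpotent M)
      (hle (h65.ge (Subgroup.mem_sup_left hu))) (hle (h65.ge (Subgroup.mem_sup_right hs))) ?_
    exact (D.coprime_u_sigmaCore.coprime_dvd_left (Subgroup.orderOf_dvd_natCard _ hu)).coprime_dvd_right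
      (Subgroup.orderOf_dvd_natCard _ hs)
  have heq : ⁅M, M⁆ = Cfsg.sigmaCore M := by rw [h65, hUbot, bot_sup_eq]
  refine ⟨hUbot, heq, le_antisymm hle (OddMax.fitting_le_commutator hG (sec15 hG) N.isCoatom ?_)⟩
  exact (OddMax.kappa_nonempty_iff hKU).2 hK

/-- With a non-abelian Sylow `p`-subgroup the other Sylow subgroups of `M_σ` are cyclic. -/
theorem NonTI.isCyclic_of_ne {P : Subgroup G} (hP : IsPGroup p P) (hna : ¬ IsMulCommutative P)
    {r : ℕ} [hr : Fact r.Prime] (hrp : r ≠ p) {T : Subgroup G} (hT : IsPGroup r T)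
    (hTs : T ≤ Cfsg.sigmaCore M) : IsCyclic T := by
  by_contra hc
  have hU := upstream hG
  have := Fact.mk N.prime
  have hM := N.isCoatom
  have hy1 := ne_one_of_orderOf N.prime N.order
  have hTy := N.le_centralizer hG hrp hT hTs
  have hd : r ∣ Nat.card T := OddPrime.dvd_card_of_ne_bot hT fun e => hc (e ▸ inferInstance)
  obtain ⟨R₀, hR₀, hR₀e, hR₀c⟩ :=
    OddPrime.exists_elementary_of_not_cyclic (hU.prime_ne_two hd) hT hc
  obtain ⟨L, hL, hCL⟩ := OddSigma.exists_coatom (N.ne_top hG)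
  have hS := hU.signalizer_of_le hM N.mem_sigma hy1 N.not_le hL hCL
  have hrσ : r ∈ Cfsg.sigma M :=
    mem_sigma_of_dvd_sigmaCore hr.out (hd.trans (Subgroup.card_dvd_of_le hTs))
  have hr2 : r ∈ Cfsg.tau2 L := hU.mem_tau2_of_elementary hL hr.out
    ((hR₀.trans hTy).trans hCL) hR₀e hR₀c (hU.signalizer_disjoint hM hS hrσ)
  have hp2 : p ∈ Cfsg.tau2 L := hS.tau2 p N.prime (dvd_of_eq N.order.symm)
  have hSna : ∀ S : Sylow p G, ¬ IsMulCommutative (S : Subgroup G) := by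
    intro S hSc
    obtain ⟨S', hS'⟩ := hP.exists_le_sylow
    obtain ⟨a, ha⟩ := MulAction.exists_smul_eq G S S'
    have hS'c : IsMulCommutative (S' : Subgroup G) := by
      rw [← ha, Sylow.coe_subgroup_smul]
      exact isMulCommutative_conj a S
    exact hna ⟨⟨fun a b => Subtype.ext (setLike_mul_comm (hS' a.2) (hS' b.2))⟩⟩
  obtain ⟨A, hA⟩ := hU.exists_elementary_compl hL hS.compl hp2
  have h := (hU.s1419 L hL (M ⊓ L) hS.compl p hp2 hSna A hA).1
  rw [h] at hr2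
  exact hrp hr2

/-- The Sylow `p`-subgroup of `M_σ` has `p'`-index in `G`. -/
theorem NonTI.pSub_facts :
    IsPGroup p ((Cfsg.pCore p (Cfsg.sigmaCore M)).map (Cfsg.sigmaCore M).subtype) ∧
      M ≤ Subgroup.normalizer
        (((Cfsg.pCore p (Cfsg.sigmaCore M)).map (Cfsg.sigmaCore M).subtype : Subgroup G) : Set G) ∧
      ¬ p ∣ ((Cfsg.pCore p (Cfsg.sigmaCore M)).map (Cfsg.sigmaCore M).subtype).index := by
  have hU := upstream hG
  have := Fact.mk N.prime
  have hn := N.nilpotent hG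
  refine ⟨(Cores.isPGroup_pCore p _).map _,
    (le_normalizer_sigmaCore M).trans (Cores.normalizer_le_normalizer_map _), ?_⟩
  obtain ⟨S⟩ : Nonempty (Sylow p (Cfsg.sigmaCore M)) := inferInstance
  have hSn : (S : Subgroup (Cfsg.sigmaCore M)).Normal :=
    (Group.isNilpotent_of_finite_tfae.out 0 3 rfl rfl).1 hn p ‹_› S
  rw [Cores.pCore_eq_sylow S, ← Subgroup.relIndex_mul_index (Subgroup.map_subtype_le _)]
  have hpσ : p ∈ Cfsg.sigma M :=
    mem_sigma_of_dvd_sigmaCore N.prime (dvd_card_of_mem N.mem_sigma (dvd_of_eq N.order.symm))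
  exact N.prime.not_dvd_mul (OddMax.sylow_relIndex S)
    ((hU.s1350 M N.isCoatom).2.1.2 p N.prime hpσ)

theorem NonTI.mem_pSub {a : G} (ha : a ∈ Cfsg.sigmaCore M)
    (hp : ∀ q : ℕ, q.Prime → q ∣ orderOf a → q = p) :
    a ∈ (Cfsg.pCore p (Cfsg.sigmaCore M)).map (Cfsg.sigmaCore M).subtype := by
  have := Fact.mk N.prime
  refine mem_pCore_of_nilpotent (N.nilpotent hG) ha (IsPGroup.of_card
    (n := (orderOf a).primeFactorsList.length) ?_)
  rw [Nat.card_zpowers]
  exact Nat.eq_prime_pow_of_unique_prime_dvd (orderOf_pos a).ne' (fun {q} hq hd => hp q hq hd)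

/-- With a non-abelian Sylow `p`-subgroup `M_σ` is its product with a cyclic `p'`-part. -/
theorem NonTI.pPrime_facts
    (hna : ¬ IsMulCommutative (Cfsg.pCore p (Cfsg.sigmaCore M))) :
    IsCyclic (Cfsg.pPrimeCore p (Cfsg.sigmaCore M)) ∧
      ⁅Cfsg.sigmaCore M, Cfsg.sigmaCore M⁆ ≤
        ⁅(Cfsg.pCore p (Cfsg.sigmaCore M)).map (Cfsg.sigmaCore M).subtype,
          (Cfsg.pCore p (Cfsg.sigmaCore M)).map (Cfsg.sigmaCore M).subtype⁆ := by
  classical
  have := Fact.mk N.prime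
  set S := Cfsg.sigmaCore M with hS
  set P := (Cfsg.pCore p S).map S.subtype with hPdef
  have hn : Group.IsNilpotent S := N.nilpotent hG
  have hPna : ¬ IsMulCommutative P := fun h => hna ⟨⟨fun a b => Subtype.ext (Subtype.ext
    (setLike_mul_comm (s := P) ⟨a, a.2, rfl⟩ ⟨b, b.2, rfl⟩))⟩⟩
  have hR : IsCyclic (Cfsg.pPrimeCore p S) := by
    have := hn
    have hnR : Group.IsNilpotent (Cfsg.pPrimeCore p S) := inferInstance
    have hZ : IsZGroup (Cfsg.pPrimeCore p S) := ⟨fun r hr T => by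
      have := Fact.mk hr
      by_cases hT : (T : Subgroup (Cfsg.pPrimeCore p S)) = ⊥
      · rw [show IsCyclic T ↔ IsCyclic (T : Subgroup (Cfsg.pPrimeCore p S)) from Iff.rfl, hT]
        infer_instance
      have hd : r ∣ Nat.card (Cfsg.pPrimeCore p S) :=
        (OddPrime.dvd_card_of_ne_bot T.isPGroup' hT).trans (Subgroup.card_subgroup_dvd_card _)
      have hrp : r ≠ p := fun e => hr.one_lt.ne' (Nat.eq_one_of_dvd_coprimes
        (Cores.coprime_card_pPrimeCore p) hd (e ▸ dvd_refl p))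
      have hc := N.isCyclic_of_ne hG ((Cores.isPGroup_pCore p S).map S.subtype) hPna hrp
        ((T.isPGroup'.map (Cfsg.pPrimeCore p S).subtype).map S.subtype) (Subgroup.map_subtype_le _)
      let e := ((T : Subgroup (Cfsg.pPrimeCore p S)).equivMapOfInjective _
        (Cfsg.pPrimeCore p S).subtype_injective).trans
          ((((T : Subgroup (Cfsg.pPrimeCore p S)).map (Cfsg.pPrimeCore p S).subtype)).equivMapOfInjective _
            S.subtype_injective)
      exact e.isCyclic.2 hc⟩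
    infer_instance
  refine ⟨hR, Subgroup.commutator_le.2 fun a ha b hb => ?_⟩
  have hdec : ∀ x ∈ S, ∃ x₁ x₂ : S, x₁ ∈ Cfsg.pCore p S ∧ x₂ ∈ Cfsg.pPrimeCore p S ∧
      x = (x₁ : G) * x₂ := by
    intro x hx
    obtain ⟨u, v, hu, hv, huv, huπ, hvπ⟩ := OddMax.exists_pi_parts {p} x
    obtain ⟨x₁, hx₁, rfl⟩ := N.mem_pSub hG (Subgroup.zpowers_le.2 hx hu)
      (fun q hq hd => huπ q hq hd)
    obtain ⟨x₂, hx₂, rfl⟩ := mem_pPrimeCore_of_nilpotent hn (p := p) (Subgroup.zpowers_le.2 hx hv)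
      (((N.prime.coprime_iff_not_dvd).2 fun hd => hvπ p N.prime hd rfl).symm)
    exact ⟨x₁, x₂, hx₁, hx₂, huv.symm⟩
  obtain ⟨a₁, a₂, ha₁, ha₂, rfl⟩ := hdec a ha
  obtain ⟨b₁, b₂, hb₁, hb₂, rfl⟩ := hdec b hb
  have c1 : ∀ (u v : S), u ∈ Cfsg.pCore p S → v ∈ Cfsg.pPrimeCore p S →
      Commute (u : G) (v : G) := fun u v hu hv =>
    congrArg Subtype.val (Cores.pCore_pPrimeCore_commute hu hv)
  have hRab : IsMulCommutative (Cfsg.pPrimeCore p S) := hR.isMulCommutative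
  have c2 : Commute (a₂ : G) (b₂ : G) := congrArg Subtype.val (setLike_mul_comm ha₂ hb₂)
  have h1 : Commute (a₂ : G) ((b₁ : G) * b₂) := (c1 b₁ a₂ hb₁ ha₂).symm.mul_right c2
  have h2 : Commute (b₂ : G) (a₁ : G) := (c1 a₁ b₂ ha₁ hb₂).symm
  have hcalc : ⁅(a₁ : G) * a₂, (b₁ : G) * b₂⁆ = ⁅(a₁ : G), (b₁ : G)⁆ := by
    simp only [commutatorElement_def, mul_inv_rev]
    calc (a₁ : G) * a₂ * (b₁ * b₂) * ((a₂ : G)⁻¹ * (a₁ : G)⁻¹) * ((b₂ : G)⁻¹ * (b₁ : G)⁻¹)
        = (a₁ : G) * (a₂ * (b₁ * b₂)) * (a₂ : G)⁻¹ * (a₁ : G)⁻¹ * (b₂ : G)⁻¹ * (b₁ : G)⁻¹ := by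
          group
      _ = (a₁ : G) * b₁ * (b₂ * (a₁ : G)⁻¹) * (b₂ : G)⁻¹ * (b₁ : G)⁻¹ := by
          rw [h1.eq]; group
      _ = (a₁ : G) * b₁ * (a₁ : G)⁻¹ * (b₁ : G)⁻¹ := by
          rw [h2.inv_right.eq]; group
  rw [hcalc]
  exact Subgroup.commutator_mem_commutator ⟨a₁, ha₁, rfl⟩ ⟨b₁, hb₁, rfl⟩

/-- The Sylow `p`-subgroup of `M_σ` as in `SmallCent.Small`. -/
theorem NonTI.small_pSub
    (hna : ¬ IsMulCommutative (Cfsg.pCore p (Cfsg.sigmaCore M)))
    {P : Subgroup G} (hPdef : P = (Cfsg.pCore p (Cfsg.sigmaCore M)).map (Cfsg.sigmaCore M).subtype)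
    (hyP : y ∈ P) : SmallCent.Small p (⟨y, hyP⟩ : P) := by
  subst hPdef
  set P := (Cfsg.pCore p (Cfsg.sigmaCore M)).map (Cfsg.sigmaCore M).subtype with hPdef
  have hU := upstream hG
  have O := OddPrime.facts hG
  have := Fact.mk N.prime
  obtain ⟨hPp, -, hidx⟩ := N.pSub_facts hG
  have hPM : P ≤ M := (Subgroup.map_subtype_le _).trans (sigmaCore_le M)
  have hPna : ¬ IsMulCommutative P := fun h => hna ⟨⟨fun a b => Subtype.ext (Subtype.ext
    (setLike_mul_comm (s := P) ⟨a, a.2, rfl⟩ ⟨b, b.2, rfl⟩))⟩⟩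
  refine ⟨N.prime, hU.prime_ne_two (dvd_card_of_mem hyP (dvd_of_eq N.order.symm)), hPp,
    Subtype.ext ?_, fun hc => ?_, fun a b ha hb => ?_, fun E hE hEy => ?_, fun hr => ?_⟩
  · rw [SubmonoidClass.coe_pow]
    exact N.order ▸ pow_orderOf_eq_one y
  · refine hPna (N.commutative hG hPp hPM fun t ht => Subgroup.mem_centralizer_singleton_iff.2 ?_)
    exact congrArg Subtype.val (Subgroup.mem_center_iff.1 hc ⟨t, ht⟩)
  · have hC : IsMulCommutative ↥(P ⊓ Subgroup.centralizer ({y} : Set G)) :=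
      N.commutative hG (hPp.to_le inf_le_left) (inf_le_left.trans hPM) inf_le_right
    exact Subtype.ext (setLike_mul_comm (s := P ⊓ Subgroup.centralizer ({y} : Set G))
      ⟨a.2, Subgroup.mem_centralizer_singleton_iff.2 (congrArg Subtype.val ha.eq)⟩
      ⟨b.2, Subgroup.mem_centralizer_singleton_iff.2 (congrArg Subtype.val hb.eq)⟩)
  · have h := N.small hG (r := p) (E := E.map P.subtype) ⟨⟨⟨?_⟩⟩, ?_⟩
      ((Subgroup.map_subtype_le E).trans hPM) ?_
    · rwa [Subgroup.card_map_of_injective P.subtype_injective] at h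
    · rintro ⟨_, a, ha, rfl⟩ ⟨_, b, hb, rfl⟩
      exact Subtype.ext (congrArg (fun t : P => (t : G)) (OddSigma.elem_comm hE ha hb))
    · rintro _ ⟨a, ha, rfl⟩
      rw [← map_pow, hE.2 a ha, map_one]
    · rintro _ ⟨a, ha, rfl⟩
      exact Subgroup.mem_centralizer_singleton_iff.2 (congrArg Subtype.val (hEy a ha).eq)
  · set S : Sylow p G := hPp.toSylow hidx
    have hSP : (S : Subgroup G) = P := rfl
    rcases O.s1412 p S hr with hab | ⟨P₁, P₂, hsup, hcom, hna₁, hc₁, he₁, -, -⟩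
    · exact absurd hab hPna
    have hP₁ : P₁ ≤ P := hSP ▸ hsup ▸ le_sup_left
    have hn : P₁ ≤ Subgroup.normalizer (P₂ : Set G) := fun a ha =>
      Coprime.mem_normalizer_of_forall fun b hb => by
        rw [hcom a ha b hb, mul_inv_cancel_right]; exact hb
    have hdec : ∀ u : P, ∃ b ∈ P₂, ∃ a ∈ P₁, (u : G) = b * a := fun u => by
      have h := (hsup.trans hSP).ge u.2
      rw [sup_comm] at h
      obtain ⟨b, hb, a, ha, e⟩ := (Coprime.mem_sup_iff hn).1 h
      exact ⟨b, hb, a, ha, e.symm⟩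
    refine ⟨P₁.subgroupOf P, ⟨fun v hv u => ?_⟩, by rw [Cores.card_subgroupOf hP₁, hc₁],
      fun a ha => ?_, fun hc => hna₁ ?_, fun u => ?_⟩
    · obtain ⟨b, hb, a, ha, hu⟩ := hdec u
      rw [Subgroup.mem_subgroupOf] at hv ⊢
      show (u : G) * v * (u : G)⁻¹ ∈ P₁
      have h1 : a * (v : G) * a⁻¹ ∈ P₁ := mul_mem (mul_mem ha hv) (inv_mem ha)
      rw [hu, show b * a * (v : G) * (b * a)⁻¹ = b * (a * v * a⁻¹) * b⁻¹ by group,
        ← hcom _ h1 b hb, mul_inv_cancel_right]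
      exact h1
    · rw [Subgroup.mem_subgroupOf] at ha
      refine Subtype.ext ?_
      rw [SubmonoidClass.coe_pow]
      have h1 := congrArg Subtype.val (Monoid.pow_exponent_eq_one (⟨(a : G), ha⟩ : P₁))
      rw [he₁] at h1
      exact h1
    · refine ⟨⟨fun a b => Subtype.ext ?_⟩⟩
      have h1 := setLike_mul_comm (s := P₁.subgroupOf P)
        (show (⟨(a : G), hP₁ a.2⟩ : P) ∈ P₁.subgroupOf P from a.2)
        (show (⟨(b : G), hP₁ b.2⟩ : P) ∈ P₁.subgroupOf P from b.2)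
      exact congrArg (fun t : P => (t : G)) h1
    · obtain ⟨b, hb, a, ha, hu⟩ := hdec u
      refine ⟨⟨a, hP₁ ha⟩, ha, fun v hv => Subtype.ext ?_⟩
      rw [Subgroup.mem_subgroupOf] at hv
      show ⁅(u : G), (v : G)⁆ = ⁅a, (v : G)⁆
      have h1 : a * (v : G) * a⁻¹ ∈ P₁ := mul_mem (mul_mem ha hv) (inv_mem ha)
      rw [hu, commutatorElement_def, commutatorElement_def,
        show b * a * (v : G) * (b * a)⁻¹ = b * (a * v * a⁻¹) * b⁻¹ by group,
        ← hcom _ h1 b hb, mul_inv_cancel_right]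

/-- `M` normalises the subgroup of order `p` of the centre of the Sylow subgroup. -/
theorem NonTI.exists_center_line {P : Subgroup G}
    (hMP : M ≤ Subgroup.normalizer (P : Set G)) (hyP : y ∈ P)
    (hSm : SmallCent.Small p (⟨y, hyP⟩ : P)) :
    ∃ c : P, orderOf c = p ∧ c ∈ Subgroup.center P ∧
      (∀ a ∈ Subgroup.center P, a ^ p = 1 → a ∈ Subgroup.zpowers c) ∧
      M ≤ Subgroup.normalizer (Subgroup.zpowers (c : G) : Set G) := by
  obtain ⟨c, hco, hcc, huniq⟩ := hSm.exists_c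
  refine ⟨c, hco, hcc, huniq, fun m hm => Coprime.mem_normalizer_of_forall fun z hz => ?_⟩
  obtain ⟨i, rfl⟩ := Subgroup.mem_zpowers_iff.1 hz
  rw [← conj_zpow]
  refine Subgroup.zpow_mem _ ?_ i
  set φ := Coprime.conjAut hMP ⟨m, hm⟩
  have h1 : φ c ∈ Subgroup.center P := hSm.mem_center_map φ hcc
  have h2 : φ c ^ p = 1 := by rw [← map_pow, ← hco, pow_orderOf_eq_one, map_one]
  obtain ⟨j, hj⟩ := Subgroup.mem_zpowers_iff.1 (huniq _ h1 h2)
  exact ⟨j, by
    have h3 := congrArg (fun t : P => (t : G)) hj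
    simpa [φ, Coprime.coe_conjAut] using h3⟩

/-- For a non-abelian Sylow `p`-subgroup: `M` normalises a subgroup of order `q` of `M_σ` for every
prime `q` dividing `|M_σ|`. -/
theorem NonTI.exists_normal_line (hna : ¬ IsMulCommutative (Cfsg.pCore p (Cfsg.sigmaCore M)))
    {q : ℕ} (hq : q.Prime) (hqd : q ∣ Nat.card (Cfsg.sigmaCore M)) :
    ∃ w ∈ Cfsg.sigmaCore M, orderOf w = q ∧
      M ≤ Subgroup.normalizer (Subgroup.zpowers w : Set G) := by
  have := Fact.mk hq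
  by_cases hqp : q = p
  · subst hqp
    obtain ⟨hPp, hMP, -⟩ := N.pSub_facts hG
    have hyP := N.mem_pSub hG N.mem_sigma fun r hr hd => by
      rw [N.order] at hd
      exact (Nat.prime_dvd_prime_iff_eq hr hq).1 hd
    obtain ⟨c, hco, -, -, hc⟩ := N.exists_center_line hG hMP hyP (N.small_pSub hG hna rfl hyP)
    exact ⟨c, Subgroup.map_subtype_le _ c.2, by rw [Subgroup.orderOf_coe, hco], hc⟩
  · obtain ⟨⟨x, hx⟩, hxo⟩ := exists_prime_orderOf_dvd_card' (G := Cfsg.sigmaCore M) q hqd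
    rw [Subgroup.orderOf_mk] at hxo
    set R := (Cfsg.pPrimeCore p (Cfsg.sigmaCore M)).map (Cfsg.sigmaCore M).subtype
    have hxR : x ∈ R := mem_pPrimeCore_of_nilpotent (N.nilpotent hG) hx
      (by rw [hxo]; exact (Nat.coprime_primes hq N.prime).2 hqp)
    have hRc : IsCyclic R := ((Cfsg.pPrimeCore p (Cfsg.sigmaCore M)).equivMapOfInjective _
      (Cfsg.sigmaCore M).subtype_injective).isCyclic.1 (N.pPrime_facts hG hna).1
    exact ⟨x, hx, hxo, ((le_normalizer_sigmaCore M).trans (Cores.normalizer_le_normalizer_map _)).trans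
      (normalizer_le_of_cyclic hRc (Subgroup.zpowers_le.2 hxR))⟩

omit hG N in
/-- An exponent bound on `M / M_F` from a complement. -/
theorem exponent_dvd_of_compl {A : Subgroup G} (hA : Cfsg.IsComplIn A (Cfsg.fittingHallOf M) M)
    {n : ℕ} (hn : ∀ a ∈ A, a ^ n = 1) : Monoid.exponent (↥M ⧸ Cfsg.fittingHall ↥M) ∣ n := by
  refine Monoid.exponent_dvd_of_forall_pow_eq_one fun x => ?_
  obtain ⟨m, rfl⟩ := QuotientGroup.mk'_surjective (Cfsg.fittingHall ↥M) x
  obtain ⟨a, ha, b, hb, he⟩ := hA.2.2.2 m m.2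
  obtain ⟨b', hb', rfl⟩ := hb
  have h1 : m = (⟨a, hA.1 ha⟩ : M) * b' := Subtype.ext he
  rw [h1, map_mul, show QuotientGroup.mk' (Cfsg.fittingHall ↥M) b' = 1 from
    (QuotientGroup.eq_one_iff b').2 hb', mul_one, ← map_pow,
    show (⟨a, hA.1 ha⟩ : M) ^ n = 1 from Subtype.ext (hn a ha), map_one]

theorem NonTI.case_k_bot (h21 : AbelianFixedFact G)
    (hna : ¬ IsMulCommutative (Cfsg.pCore p (Cfsg.sigmaCore M))) {U : Subgroup G}
    (hKU : Cfsg.IsSigmaDecomposition M ⊥ U) {q : ℕ} (hq : q.Prime)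
    (hqd : q ∣ Nat.card (Cfsg.sigmaCore M)) :
    Monoid.exponent (↥M ⧸ Cfsg.fittingHall ↥M) ∣ q - 1 := by
  have hU := upstream hG
  obtain ⟨w, hw, hwo, hMw⟩ := N.exists_normal_line hG hna hq hqd
  obtain ⟨U₀, hU₀, hexp, hfree⟩ := hU.s1360 h21 M N.isCoatom ⊥ U hKU
  refine exponent_dvd_of_compl (N.core_eq hG ▸ hU.compl_of_k_bot hKU rfl) fun a ha => ?_
  have h1 : Monoid.exponent U ∣ q - 1 := by
    rw [← hexp]
    refine Monoid.exponent_dvd_of_forall_pow_eq_one fun u => Subtype.ext ?_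
    have huM : (u : G) ∈ M := hKU.compl.1 (hU₀ u.2)
    refine hfree _ (U₀.pow_mem u.2 _) ⟨M.pow_mem huM _, w, hw, ne_one_of_orderOf hq hwo, ?_⟩
    exact pow_sub_one_commute hq hwo (hMw huM)
  have h2 := (Monoid.exponent_dvd_iff_forall_pow_eq_one.1 h1) ⟨a, ha⟩
  exact congrArg Subtype.val h2

theorem NonTI.case_k_ne
    (hna : ¬ IsMulCommutative (Cfsg.pCore p (Cfsg.sigmaCore M))) {K U : Subgroup G}
    (hKU : Cfsg.IsSigmaDecomposition M K U) (hK : K ≠ ⊥) :
    (∀ q : ℕ, q.Prime → q ∣ Nat.card (Cfsg.sigmaCore M) →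
        Monoid.exponent (↥M ⧸ Cfsg.fittingHall ↥M) ∣ q - 1) ∨
      (Nat.card (Cfsg.pCore p (Cfsg.sigmaCore M)) = p ^ 3 ∧
        (Cfsg.fittingHallOf M).relIndex M ∣ p + 1) := by
  classical
  have hU := upstream hG
  have := Fact.mk N.prime
  have hM := N.isCoatom
  obtain ⟨hUbot, hM', -⟩ := N.k_facts hG hKU hK
  have D := kData_of_decomp hU hM hKU hK
  have hcompl : Cfsg.IsComplIn K (Cfsg.sigmaCore M) M := by
    have h := D.compl
    rwa [hUbot, bot_sup_eq] at h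
  obtain ⟨k₀, hk₀⟩ := hKU.cyclic.exists_generator
  set k : G := (k₀ : G) with hkdef
  have hgen : ∀ a ∈ K, ∃ i : ℤ, k ^ i = a := fun a ha => by
    obtain ⟨i, hi⟩ := Subgroup.mem_zpowers_iff.1 (hk₀ ⟨a, ha⟩)
    exact ⟨i, congrArg Subtype.val hi⟩
  have hall : ∀ n : ℕ, k ^ n = 1 → ∀ a ∈ K, a ^ n = 1 := fun n hn a ha => by
    obtain ⟨i, rfl⟩ := hgen a ha
    rw [← zpow_natCast, ← zpow_mul, mul_comm, zpow_mul, zpow_natCast, hn, one_zpow]
  by_cases hcase : ∀ q : ℕ, q.Prime → q ∣ Nat.card (Cfsg.sigmaCore M) → k ^ (q - 1) = 1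
  · exact Or.inl fun q hq hqd =>
      exponent_dvd_of_compl (N.core_eq hG ▸ hcompl) (hall _ (hcase q hq hqd))
  simp only [not_forall] at hcase
  obtain ⟨q, hq, hqd, hne⟩ := hcase
  obtain ⟨w, hw, hwo, hMw⟩ := N.exists_normal_line hG hna hq hqd
  have hkK : k ∈ K := k₀.2
  have hkM : k ∈ M := D.hall.1 hkK
  have hfix : ∀ n : ℕ, k ^ n ≠ 1 → ∀ a ∈ Cfsg.sigmaCore M, k ^ n * a = a * k ^ n →
      a ∈ kStar M K := fun n hn a ha hc =>
    (D.prime_action _ (K.pow_mem hkK n) hn).le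
      ⟨ha, Subgroup.mem_centralizer_singleton_iff.2 hc.symm⟩
  set P := (Cfsg.pCore p (Cfsg.sigmaCore M)).map (Cfsg.sigmaCore M).subtype with hPdef
  obtain ⟨hPp, hMP, -⟩ := N.pSub_facts hG
  have hPs : P ≤ Cfsg.sigmaCore M := Subgroup.map_subtype_le _
  have hKsP : kStar M K ≤ ⁅P, P⁆ := by
    have h := (hU.s1365 M hM K U hKU hK).2
    rw [hM'] at h
    exact h.trans (N.pPrime_facts hG hna).2
  have hKsP' : kStar M K ≤ P := hKsP.trans (Subgroup.commutator_le.2 fun a ha b hb =>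
    P.mul_mem (P.mul_mem (P.mul_mem ha hb) (P.inv_mem ha)) (P.inv_mem hb))
  have hcyc : IsCyclic ↥(kStar M K) := (hU.s1364 (fcore hG) M hM K U hKU hK).1
  have hwK : w ∈ kStar M K := hfix _ hne w hw (pow_sub_one_commute hq hwo (hMw hkM))
  have hqp : q = p := OddPrime.eq_of_dvd_card_pGroup hPp hq
    (dvd_card_of_mem (hKsP' hwK) (dvd_of_eq hwo.symm))
  subst hqp
  have hyP : y ∈ P := N.mem_pSub hG N.mem_sigma fun r hr hd => by
    rw [N.order] at hd
    exact (Nat.prime_dvd_prime_iff_eq hr hq).1 hd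
  have hSm := N.small_pSub hG hna hPdef hyP
  obtain ⟨c, hco, hcc, huniq, hMc⟩ := N.exists_center_line hG hMP hyP hSm
  have hco' : orderOf (c : G) = q := by rw [Subgroup.orderOf_coe, hco]
  have hcK : (c : G) ∈ kStar M K :=
    hfix _ hne _ (hPs c.2) (pow_sub_one_commute hq hco' (hMc hkM))
  set φ := Coprime.conjAut (V := P) (D.hall.1.trans hMP) k₀ with hφdef
  have hφpow : ∀ (n : ℕ) (a : P), (((φ ^ n) a : P) : G) = k ^ n * a * (k ^ n)⁻¹ := by
    intro n a
    rw [hφdef, ← map_pow, Coprime.coe_conjAut]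
    rfl
  have hpk : ¬ q ∣ orderOf φ := by
    intro hd
    refine (D.hall.2.1 q hq ?_).2.2.1
      (mem_sigma_of_dvd_sigmaCore hq (dvd_card_of_mem N.mem_sigma (dvd_of_eq N.order.symm)))
    exact (hd.trans (orderOf_map_dvd _ k₀)).trans (orderOf_dvd_natCard k₀)
  have hone : ∀ n : ℕ, φ ^ n = 1 → k ^ n = 1 := by
    intro n hn
    by_contra hkn
    have hle : P ≤ kStar M K := fun a ha => hfix n hkn a (hPs ha) (by
      have h1 := hφpow n ⟨a, ha⟩
      rw [hn] at h1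
      exact (mul_inv_eq_iff_eq_mul.1 h1.symm))
    refine hna ⟨⟨fun a b => Subtype.ext (Subtype.ext ?_)⟩⟩
    have := hcyc.isMulCommutative
    exact setLike_mul_comm (s := kStar M K) (hle ⟨a, a.2, rfl⟩) (hle ⟨b, b.2, rfl⟩)
  have hφc : φ c = c := by
    refine Subtype.ext ?_
    have h1 := hφpow 1 c
    rw [pow_one, pow_one] at h1
    rw [h1, mul_inv_eq_iff_eq_mul]
    exact (Subgroup.mem_centralizer_iff.1 hcK.2 k hkK)
  have hfree : ∀ n : ℕ, φ ^ n ≠ 1 → ∀ a : P, (φ ^ n) a = a →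
      a ∈ commutator P ∧ (a ^ q = 1 → a ∈ Subgroup.zpowers c) := by
    intro n hn a ha
    have hkn : k ^ n ≠ 1 := fun h => hn (by
      refine MulEquiv.ext fun b => Subtype.ext ?_
      rw [hφpow, h, one_mul, inv_one, mul_one]
      rfl)
    have h1 := hφpow n a
    rw [ha] at h1
    have haK := hfix n hkn a (hPs a.2) (mul_inv_eq_iff_eq_mul.1 h1.symm)
    refine ⟨?_, fun hap => ?_⟩
    · have h2 := hKsP haK
      rw [← Subgroup.map_subtype_commutator] at h2
      obtain ⟨b, hb, he⟩ := h2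
      exact Subtype.ext he ▸ hb
    · have h2 := OddPrime.mem_of_pow_eq_one (p := q) hcyc (Subgroup.zpowers_le.2 hcK)
        (by rw [Nat.card_zpowers, hco']) haK (by
          have := congrArg (fun t : P => (t : G)) hap
          simpa using this)
      obtain ⟨i, hi⟩ := Subgroup.mem_zpowers_iff.1 h2
      exact ⟨i, Subtype.ext (by simpa using hi)⟩
  obtain ⟨hcard, hpow⟩ := hSm.card_eq_and_pow hco hcc huniq hφc hpk
    (fun h => hne (hone _ h)) hfree
  refine Or.inr ⟨?_, ?_⟩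
  · rw [← Subgroup.card_map_of_injective (Cfsg.sigmaCore M).subtype_injective]
    exact hcard
  · rw [N.core_eq hG, compl_relIndex' hcompl]
    have h1 : Nat.card K = orderOf k := by
      rw [hkdef, Subgroup.orderOf_coe]
      exact (orderOf_eq_card_of_forall_mem_zpowers hk₀).symm
    rw [h1]
    exact orderOf_dvd_of_pow_eq_one (hone _ hpow)

end NonTI

/-- **Bender-Glauberman 15.7**, corrected. -/
theorem fitting_not_ti (hG : Cfsg.IsMinSimpleOddOrder G) (h21 : AbelianFixedFact G)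
    (M : Subgroup G) (hM : IsCoatom M) (K U : Subgroup G) (hKU : Cfsg.IsSigmaDecomposition M K U)
    (g : G) (hg : g ∉ M)
    (hX : Cfsg.fittingOf M ⊓ (Cfsg.fittingOf M).map (MulAut.conj g).toMonoidHom ≠ ⊥) :
    (Cfsg.fittingOf M ⊓ (Cfsg.fittingOf M).map (MulAut.conj g).toMonoidHom ≤ Cfsg.fittingHallOf M ∧
        IsCyclic ↥(Cfsg.fittingOf M ⊓ (Cfsg.fittingOf M).map (MulAut.conj g).toMonoidHom)) ∧
      (⁅M, M⁆ ≤ Cfsg.fittingOf M ∧ (K ≠ ⊥ → ⁅M, M⁆ = Cfsg.fittingOf M) ∧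
        Cfsg.fittingOf M = Cfsg.sigmaCore M ⊔
          Cfsg.piCoreOf {q | q.Prime ∧ q ∉ Cfsg.sigma M} (Cfsg.fittingOf M)) ∧
      ((K = ⊥ ∧ IsMulCommutative (Cfsg.fittingHallOf M) ∧ Cfsg.RankLE 2 (Cfsg.fittingHallOf M) ∧
          ¬ Cfsg.RankLE 1 (Cfsg.fittingHallOf M)) ∨
       (∃ p : ℕ, p.Prime ∧
          Nat.card ↥(Cfsg.fittingOf M ⊓ (Cfsg.fittingOf M).map (MulAut.conj g).toMonoidHom) = p ∧
          p ∈ Cfsg.sigma M ∧ p ∉ Cfsg.beta M ∧
          ¬ IsMulCommutative (Cfsg.pCore p ↥(Cfsg.fittingHallOf M)) ∧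
          IsCyclic (Cfsg.pPrimeCore p ↥(Cfsg.fittingHallOf M)) ∧
          ∀ q : ℕ, q.Prime → q ∣ Nat.card (Cfsg.fittingHallOf M) →
            Monoid.exponent (↥M ⧸ Cfsg.fittingHall ↥M) ∣ q - 1) ∨
       (∃ p : ℕ, p.Prime ∧
          Nat.card ↥(Cfsg.fittingOf M ⊓ (Cfsg.fittingOf M).map (MulAut.conj g).toMonoidHom) = p ∧
          p ∈ Cfsg.sigma M ∧ p ∉ Cfsg.beta M ∧
          IsCyclic (Cfsg.pPrimeCore p ↥(Cfsg.fittingHallOf M)) ∧
          Nat.card (Cfsg.pCore p ↥(Cfsg.fittingHallOf M)) = p ^ 3 ∧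
          ¬ IsMulCommutative (Cfsg.pCore p ↥(Cfsg.fittingHallOf M)) ∧ K ≠ ⊥ ∧ U = ⊥ ∧
          (Cfsg.fittingHallOf M).relIndex M ∣ p + 1)) := by
  classical
  have hU := upstream hG
  set X := Cfsg.fittingOf M ⊓ (Cfsg.fittingOf M).map (MulAut.conj g).toMonoidHom with hXdef
  have hNX : ∀ {r : ℕ} {z : G}, r.Prime → z ∈ X → orderOf z = r → NonTI M r z := by
    intro r z hr hz hzo
    obtain ⟨u, hu, rfl⟩ := hz.2
    refine nonTI_of_inter hG hM hg hr hz.1 ?_ hzo
    show g⁻¹ * (g * u * g⁻¹) * g ∈ Cfsg.fittingOf M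
    rwa [show g⁻¹ * (g * u * g⁻¹) * g = u by group]
  obtain ⟨p, hp, hpd⟩ := Nat.exists_prime_and_dvd (mt Subgroup.card_eq_one.1 hX)
  have := Fact.mk hp
  obtain ⟨y₀, hy₀⟩ := exists_prime_orderOf_dvd_card' (G := X) p hpd
  set y : G := (y₀ : G) with hydef
  have hyo : orderOf y = p := by rw [hydef, Subgroup.orderOf_coe, hy₀]
  have N : NonTI M p y := hNX hp y₀.2 hyo
  have heq := N.core_eq hG
  have hn := N.nilpotent hG
  have hXs : X ≤ Cfsg.sigmaCore M := fun z hz =>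
    hU.mem_sigmaCore_of_order hM (OddMax.fittingOf_le M hz.1) fun r hr hd => by
      obtain ⟨z', hz', hz'o⟩ := exists_orderOf_eq hd
      have N' := hNX hr (Subgroup.zpowers_le.2 hz hz') hz'o
      exact mem_sigma_of_dvd_sigmaCore hr (dvd_card_of_mem N'.mem_sigma (dvd_of_eq hz'o.symm))
  have hXc : IsCyclic X := by
    obtain ⟨E, hE, -⟩ := hU.exists_compl_ge hM (U := ⊥) bot_le
      (by rw [Subgroup.card_bot]; exact isPiNum_one)
    have := ((hU.s1426 M hM E hE).2.2 g hg).1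
    exact Subgroup.isCyclic_of_le (le_inf hXs
      (inf_le_right.trans (Subgroup.map_mono (OddMax.fittingOf_le M))))
  refine ⟨⟨heq ▸ hXs, hXc⟩, ⟨N.commutator_le hG, fun hK => (N.k_facts hG hKU hK).2.2,
    N.fitting_eq hG⟩, ?_⟩
  rw [heq]
  by_cases hab : IsMulCommutative (Cfsg.sigmaCore M)
  · have hyle : Cfsg.sigmaCore M ≤ Subgroup.centralizer ({y} : Set G) := fun z hz =>
      Subgroup.mem_centralizer_singleton_iff.2 (setLike_mul_comm hz N.mem_sigma)
    have hrank : Cfsg.RankLE 2 (Cfsg.sigmaCore M) := by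
      intro r hr A hA hAe
      have := Fact.mk hr
      have hA' : Cfsg.IsElementaryAbelian r A := ⟨hA, hAe⟩
      have h := N.small hG (r := r) (E := A.map (Cfsg.sigmaCore M).subtype) ⟨⟨⟨?_⟩⟩, ?_⟩
        ((Subgroup.map_subtype_le A).trans (sigmaCore_le M))
        ((Subgroup.map_subtype_le A).trans hyle)
      · rwa [Subgroup.card_map_of_injective (Cfsg.sigmaCore M).subtype_injective] at h
      · rintro ⟨_, a, ha, rfl⟩ ⟨_, b, hb, rfl⟩
        exact Subtype.ext (congrArg (fun t : Cfsg.sigmaCore M => (t : G)) (OddSigma.elem_comm hA' ha hb))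
      · rintro _ ⟨a, ha, rfl⟩
        rw [← map_pow, hAe a ha, map_one]
    refine Or.inl ⟨?_, hab, hrank, fun h1 => ?_⟩
    · by_contra hK
      obtain ⟨-, hM', -⟩ := N.k_facts hG hKU hK
      have h := (hU.s1365 M hM K U hKU hK).2
      rw [hM', show ⁅Cfsg.sigmaCore M, Cfsg.sigmaCore M⁆ = ⊥ from
        Subgroup.commutator_eq_bot_iff_le_centralizer.2
          fun a ha b hb => setLike_mul_comm hb ha, le_bot_iff] at h
      exact (kData_of_decomp hU hM hKU hK).kstar_ne_bot hU h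
    · have hZ : IsZGroup (Cfsg.sigmaCore M) := ⟨fun r hr S => by
        have := Fact.mk hr
        by_cases hS : (S : Subgroup (Cfsg.sigmaCore M)) = ⊥
        · rw [show IsCyclic S ↔ IsCyclic (S : Subgroup (Cfsg.sigmaCore M)) from Iff.rfl, hS]
          infer_instance
        exact Isolated.isCyclic_of_rank_le_one (hU.prime_ne_two
          ((OddPrime.dvd_card_of_ne_bot S.isPGroup' hS).trans (Subgroup.card_subgroup_dvd_card _)))
          (h1 r hr) _ S.isPGroup'⟩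
      have := hn
      have hcyc : IsCyclic (Cfsg.sigmaCore M) := inferInstance
      refine N.not_le ?_
      rw [← centralizer_zpowers_eq]
      refine (Subgroup.centralizer_le_normalizer _).trans (le_of_eq ?_)
      exact hU.normalizer_eq_of_normal hM (Subgroup.zpowers_le.2 (sigmaCore_le M N.mem_sigma))
        ((le_normalizer_sigmaCore M).trans
          (normalizer_le_of_cyclic hcyc (Subgroup.zpowers_le.2 N.mem_sigma)))
        (mt Subgroup.zpowers_eq_bot.1 (ne_one_of_orderOf hp hyo))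
  -- non-abelian `M_σ`
  have hnaOf : ∀ {r : ℕ} {z : G}, NonTI M r z →
      ¬ IsMulCommutative (Cfsg.pCore r (Cfsg.sigmaCore M)) := by
    intro r z N' hc
    refine hab (isMulCommutative_of_pCore hn fun s hs => ?_)
    by_cases hsr : s = r
    · exact hsr ▸ hc
    have := Fact.mk hs
    have hTp : IsPGroup s ((Cfsg.pCore s (Cfsg.sigmaCore M)).map (Cfsg.sigmaCore M).subtype) :=
      (Cores.isPGroup_pCore s _).map _
    have := N'.commutative hG hTp ((Subgroup.map_subtype_le _).trans (sigmaCore_le M))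
      (N'.le_centralizer hG hsr hTp (Subgroup.map_subtype_le _))
    exact ⟨⟨fun a b => Subtype.ext (Subtype.ext (setLike_mul_comm
      (s := (Cfsg.pCore s (Cfsg.sigmaCore M)).map (Cfsg.sigmaCore M).subtype)
      ⟨a, a.2, rfl⟩ ⟨b, b.2, rfl⟩))⟩⟩
  have hna := hnaOf N
  obtain ⟨hPp, hMP, -⟩ := N.pSub_facts hG
  have hPne : ¬ IsMulCommutative ((Cfsg.pCore p (Cfsg.sigmaCore M)).map (Cfsg.sigmaCore M).subtype) :=
    fun h => hna ⟨⟨fun a b => Subtype.ext (Subtype.ext (setLike_mul_comm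
      (s := (Cfsg.pCore p (Cfsg.sigmaCore M)).map (Cfsg.sigmaCore M).subtype)
      ⟨a, a.2, rfl⟩ ⟨b, b.2, rfl⟩))⟩⟩
  have hprimes : ∀ r : ℕ, r.Prime → r ∣ Nat.card X → r = p := by
    intro r hr hrd
    by_contra hrp
    have := Fact.mk hr
    obtain ⟨z, hz⟩ := exists_prime_orderOf_dvd_card' (G := X) r hrd
    have N' : NonTI M r (z : G) := hNX hr z.2 (by rw [Subgroup.orderOf_coe, hz])
    exact hPne (N'.commutative hG hPp ((Subgroup.map_subtype_le _).trans (sigmaCore_le M))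
      (N'.le_centralizer hG (Ne.symm hrp) hPp (Subgroup.map_subtype_le _)))
  have hXp : Nat.card X = p := by
    obtain ⟨⟨z, hzX⟩, hz⟩ := hXc.exists_ofOrder_eq_natCard
    rw [Subgroup.orderOf_mk] at hz
    have hpow := Nat.eq_prime_pow_of_unique_prime_dvd Nat.card_pos.ne'
      (fun {r} hr hd => hprimes r hr hd)
    set j := (Nat.card X).primeFactorsList.length
    rcases Nat.lt_or_ge j 2 with hj | hj
    · interval_cases j
      · rw [pow_zero] at hpow; exact absurd (hpow ▸ hpd) hp.not_dvd_one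
      · rw [pow_one] at hpow; exact hpow
    exfalso
    set u := z ^ p ^ (j - 2) with hudef
    set y' := u ^ p with hy'
    have hy'o : orderOf y' = p := by
      rw [hy', hudef, ← pow_mul, ← pow_succ, show j - 2 + 1 = j - 1 by omega,
        orderOf_pow' _ (pow_ne_zero _ hp.ne_zero), hz, hpow,
        Nat.gcd_eq_right (pow_dvd_pow p (by omega : j - 1 ≤ j)),
        Nat.pow_div (by omega) hp.pos, show j - (j - 1) = 1 by omega, pow_one]
    have N' : NonTI M p y' := hNX hp (X.pow_mem (X.pow_mem hzX _) _) hy'o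
    have hzP : ∀ n : ℕ, z ^ n ∈ (Cfsg.pCore p (Cfsg.sigmaCore M)).map (Cfsg.sigmaCore M).subtype :=
      fun n => Subgroup.pow_mem _ (N.mem_pSub hG (hXs hzX) fun r hr hd => by
        rw [hz, hpow] at hd
        exact (Nat.prime_dvd_prime_iff_eq hr hp).1 (hr.dvd_of_dvd_pow hd)) n
    have hyP : y' ∈ (Cfsg.pCore p (Cfsg.sigmaCore M)).map (Cfsg.sigmaCore M).subtype :=
      Subgroup.pow_mem _ (hzP _) p
    have hSm := N'.small_pSub hG hna rfl hyP
    obtain ⟨c, hco, hcc, huniq⟩ := hSm.exists_c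
    exact hSm.not_pow hco hcc huniq ⟨u, hzP _⟩ (Subtype.ext rfl)
  have hpσ : p ∈ Cfsg.sigma M :=
    mem_sigma_of_dvd_sigmaCore hp (dvd_card_of_mem N.mem_sigma (dvd_of_eq hyo.symm))
  have hR := (N.pPrime_facts hG hna).1
  by_cases hK : K = ⊥
  · refine Or.inr (Or.inl ⟨p, hp, hXp, hpσ, N.not_beta, hna, hR, fun q hq hqd => ?_⟩)
    subst hK
    exact N.case_k_bot hG h21 hna hKU hq hqd
  · rcases N.case_k_ne hG hna hKU hK with h | ⟨h1, h2⟩
    · exact Or.inr (Or.inl ⟨p, hp, hXp, hpσ, N.not_beta, hna, hR, h⟩)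
    · rw [heq] at h2
      exact Or.inr (Or.inr ⟨p, hp, hXp, hpσ, N.not_beta, hR, h1, hna, hK,
        (N.k_facts hG hKU hK).1, h2⟩)

end Cfsg.Agent.OddOrder14
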