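import Cfsg.Agent.Lib.OddOrder14.Statements
import Cfsg.Agent.Lib.OddOrder.Sec15Facts

/-!
# The facts behind Bender-Glauberman section 15, from the bundle of section 14

`Upstream.sec15Facts` gives `OddMax.Sec15Facts G` from `Upstream G`, statements 1445 and 1446 (for
all groups in the universe) and the commutativity of `τ₂(M)`-subgroups.
-/

set_option autoImplicit false

universe u

namespace Cfsg.Agent.OddOrder14

variable {G : Type u} [Group G] [Finite G]

theorem Upstream.sec15Facts (hU : Upstream G)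
    (h45 : ∀ (X : Type u) [Group X] [Finite X] [Group.IsSolvable X], Odd (Nat.card X) →
      ∀ (K R : Subgroup X) [K.Normal], K ⊔ R = ⊤ → (Nat.card K).Coprime (Nat.card R) →
      (∀ x ∈ R, x ≠ 1 → K ⊓ Subgroup.centralizer ({x} : Set X) =
        K ⊓ Subgroup.centralizer (R : Set X)) →
      Cfsg.fittingOf K ⊓ Subgroup.centralizer (R : Set X) = ⊥ → ⁅K, R⁆ ≤ Cfsg.fittingOf K)
    (h46 : ∀ (X : Type u) [Group X] [Finite X], OddMax.PrimeActionHyp X)
    (hab : ∀ M : Subgroup G, IsCoatom M → ∀ X : Subgroup G, X ≤ M →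
      (∀ p : ℕ, p.Prime → p ∣ Nat.card X → p ∈ Cfsg.tau2 M) → IsMulCommutative X) :
    OddMax.Sec15Facts G where
  toSigFacts := hU.sigFacts
  s1351 := hU.s1351
  s1352_exists M hM K hKc hK := (hU.s1352 M hM K hKc hK).1
  s1353 := hU.s1353
  s1354 M hM K hKc hK := (hU.s1354 M hM K hKc hK).1
  s1365 := hU.s1365
  s1366 M hM K U hKU hK := (hU.s1366 M hM K U hKU hK).exists
  s1369 M hM K U hKU hK L hL h1 h2 := (hU.s1369 M hM K U hKU hK L hL h1 h2).1
  s1414 M hM p hp hd hb := ((hU.s1414 M hM).2.2.2.2 p hp hd hb).2.1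
  s1426 M hM E hE := (hU.s1426 M hM E hE).2.1
  s1429 := fun M hM hP1 p _ hd hp S => (hU.s1429 M hM hP1 p hd hp S).2
  s1430 M hM K hK hK1 := (hU.s1430 M hM K hK hK1).1
  s1431 := fun M hM K hK hK1 p hp hd S => by
    obtain ⟨-, -, h, -⟩ := hU.s1431 M hM K hK hK1
    exact (h p hp hd S).2.2
  s1445 := h45
  s1446 := h46
  tau2_abelian := hab

end Cfsg.Agent.OddOrder14
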