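import Cfsg.Agent.Lib.OddOrder14.Main
import Cfsg.Agent.Lib.OddOrder.HallFusion
import Cfsg.Agent.Lib.OddOrder.PrimeAction

/-!
# Bender-Glauberman 14.9-14.11: tools on `τ₂`-primes

* `centralizes_of_fpf`: a group on which `P` (of prime order) acts freely centralises `H` if `P`
  acts freely on `H` too
* `omegaCenter`, `Upstream.exists_omega_center`
* `KData.not_tau2_of_sigma`: if `U ≠ 1` then no prime of `σ(M)` lies in a `τ₂(N)`
* `Upstream.lt_of_cross`: `p ∈ σ(M) ∩ τ₂(N)` and `s ∈ τ₂(M)` give `s < p`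
-/

set_option autoImplicit false
set_option linter.unusedSectionVars false

open scoped Pointwise

universe u

namespace Cfsg.Agent.OddOrder14

open Cfsg.Agent.Solvable

variable {G : Type u} [Group G] [Finite G]

/-- If `P` has prime order and acts freely on `X` and on `H`, then `X` centralises `H`. -/
theorem centralizes_of_fpf {X H P : Subgroup G} (hP : (Nat.card P).Prime)
    (hsol : Group.IsSolvable ↥(H ⊔ X)) (hXH : X ≤ Subgroup.normalizer (H : Set G))
    (hPX : P ≤ Subgroup.normalizer (X : Set G)) (hPH : P ≤ Subgroup.normalizer (H : Set G))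
    (hcop : (Nat.card X).Coprime (Nat.card H))
    (hcX : X ⊓ Subgroup.centralizer (P : Set G) = ⊥)
    (hcH : H ⊓ Subgroup.centralizer (P : Set G) = ⊥) :
    X ≤ Subgroup.centralizer (H : Set G) := by
  have hPsup : P ≤ Subgroup.normalizer ((H ⊔ X : Subgroup G) : Set G) := by
    intro a ha
    rw [mem_normalizer_iff_conj, Subgroup.smul_sup, mem_normalizer_iff_conj.1 (hPH ha),
      mem_normalizer_iff_conj.1 (hPX ha)]
  have hfix : (H ⊔ X) ⊓ Subgroup.centralizer (P : Set G) = ⊥ := by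
    refine (Subgroup.eq_bot_iff_forall _).2 fun w hw => ?_
    obtain ⟨hw1, hw2⟩ := Subgroup.mem_inf.1 hw
    obtain ⟨h, hh, x, hx, rfl⟩ := (Coprime.mem_sup_iff hXH).1 hw1
    have key : ∀ a ∈ P, a * h * a⁻¹ = h ∧ a * x * a⁻¹ = x := by
      intro a ha
      have hc : a * (h * x) = h * x * a := hw2 a ha
      have h1 : a * h * a⁻¹ ∈ H := (Subgroup.mem_normalizer_iff.1 (hPH ha) h).1 hh
      have h2 : a * x * a⁻¹ ∈ X := (Subgroup.mem_normalizer_iff.1 (hPX ha) x).1 hx
      have he : a * h * a⁻¹ * (a * x * a⁻¹) = h * x := by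
        calc a * h * a⁻¹ * (a * x * a⁻¹) = a * (h * x) * a⁻¹ := by group
          _ = h * x := by rw [hc]; group
      have hd : Disjoint H X := disjoint_iff.2 (Coprime.inf_eq_bot hcop.symm)
      have := Subgroup.mul_injective_of_disjoint hd
        (a₁ := (⟨_, h1⟩, ⟨_, h2⟩)) (a₂ := (⟨h, hh⟩, ⟨x, hx⟩)) he
      simpa [Prod.ext_iff] using this
    have hh1 : h ∈ H ⊓ Subgroup.centralizer (P : Set G) :=
      Subgroup.mem_inf.2 ⟨hh, fun a ha => mul_inv_eq_iff_eq_mul.1 (key a ha).1⟩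
    have hx1 : x ∈ X ⊓ Subgroup.centralizer (P : Set G) :=
      Subgroup.mem_inf.2 ⟨hx, fun a ha => mul_inv_eq_iff_eq_mul.1 (key a ha).2⟩
    rw [hcH, Subgroup.mem_bot] at hh1
    rw [hcX, Subgroup.mem_bot] at hx1
    rw [hh1, hx1, mul_one]
  have hnil := OddMax.nilpotent_of_fpf hP hPsup hfix hsol
  intro x hx y hy
  exact (OddSigma.commute_in_nilpotent hnil (Subgroup.mem_sup_right hx) (Subgroup.mem_sup_left hy)
    ((hcop.coprime_dvd_left (Subgroup.orderOf_dvd_natCard X hx)).coprime_dvd_right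
      (Subgroup.orderOf_dvd_natCard H hy))).symm

/-- The elements of exponent `p` in the centre of `S`. -/
def omegaCenter (p : ℕ) (S : Subgroup G) : Subgroup G where
  carrier := {x | x ∈ S ⊓ Subgroup.centralizer (S : Set G) ∧ x ^ p = 1}
  one_mem' := ⟨one_mem _, one_pow _⟩
  mul_mem' := by
    rintro x y ⟨hx, hxp⟩ ⟨hy, hyp⟩
    refine ⟨mul_mem hx hy, ?_⟩
    have hc : Commute x y := ((Subgroup.mem_inf.1 hx).2 y (Subgroup.mem_inf.1 hy).1).symm
    rw [hc.mul_pow, hxp, hyp, one_mul]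
  inv_mem' := by
    rintro x ⟨hx, hxp⟩
    exact ⟨inv_mem hx, by rw [inv_pow, hxp, inv_one]⟩

theorem omegaCenter_elementary (p : ℕ) (S : Subgroup G) :
    Cfsg.IsElementaryAbelian p (omegaCenter p S) :=
  ⟨⟨⟨fun a b => Subtype.ext (((Subgroup.mem_inf.1 b.2.1).2 a
    (Subgroup.mem_inf.1 a.2.1).1))⟩⟩, fun _ ha => ha.2⟩

theorem normalizer_le_normalizer_omegaCenter (p : ℕ) (S : Subgroup G) :
    Subgroup.normalizer (S : Set G) ≤ Subgroup.normalizer (omegaCenter p S : Set G) := by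
  intro g hg
  refine Coprime.mem_normalizer_of_forall fun x hx => ?_
  obtain ⟨hxS, hxC⟩ := Subgroup.mem_inf.1 hx.1
  refine ⟨Subgroup.mem_inf.2 ⟨(Subgroup.mem_normalizer_iff.1 hg x).1 hxS, fun s hs => ?_⟩,
    by rw [conj_pow, hx.2, mul_one, mul_inv_cancel]⟩
  have h := hxC _ ((Subgroup.mem_normalizer_iff''.1 hg s).1 hs)
  calc s * (g * x * g⁻¹) = g * ((g⁻¹ * s * g) * x) * g⁻¹ := by group
    _ = g * (x * (g⁻¹ * s * g)) * g⁻¹ := by rw [h]
    _ = g * x * g⁻¹ * s := by group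

theorem omegaCenter_ne_bot {p : ℕ} [hp : Fact p.Prime] {S : Subgroup G} (hS : IsPGroup p S)
    (hS1 : S ≠ ⊥) : omegaCenter p S ≠ ⊥ := by
  have : Nontrivial S := (Subgroup.nontrivial_iff_ne_bot S).2 hS1
  have hc := hS.center_nontrivial
  obtain ⟨z, hz⟩ := exists_ne (1 : Subgroup.center S)
  obtain ⟨q, hq, hqd, y, hy, hyq⟩ := exists_prime_orderOf (x := ((z : S) : G))
    fun h => hz (Subtype.ext (Subtype.ext h))
  have hzS : ((z : S) : G) ∈ S ⊓ Subgroup.centralizer (S : Set G) :=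
    Subgroup.mem_inf.2 ⟨(z : S).2, fun s hs =>
      congrArg Subtype.val (Subgroup.mem_center_iff.1 z.2 ⟨s, hs⟩)⟩
  have hqp : q = p := by
    obtain ⟨j, hj⟩ := hS.exists_card_eq
    exact (Nat.prime_dvd_prime_iff_eq hq hp.out).1
      (hq.dvd_of_dvd_pow (hj ▸ dvd_card_of_mem (z : S).2 hqd))
  intro h
  refine ne_one_of_orderOf hq hyq (Subgroup.mem_bot.1 (h ▸ ⟨Subgroup.zpowers_le.2 hzS hy, ?_⟩))
  rw [← hqp, ← hyq, pow_orderOf_eq_one]

theorem not_prankLE_one_of_elementary {L A : Subgroup G} {p : ℕ} (hp : p.Prime) (hA : A ≤ L)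
    (hAe : Cfsg.IsElementaryAbelian p A) (hAc : Nat.card A = p ^ 2) : ¬ Cfsg.PRankLE p 1 L :=
  OddSigma.not_prankLE_of_le hA hAe (by rw [hAc]; exact Nat.pow_lt_pow_right hp.one_lt one_lt_two)

namespace Upstream

variable (hU : Upstream G)
include hU

theorem mem_tau2_of_elementary {L A : Subgroup G} (hL : IsCoatom L) {p : ℕ} (hp : p.Prime)
    (hA : A ≤ L) (hAe : Cfsg.IsElementaryAbelian p A) (hAc : Nat.card A = p ^ 2)
    (hσ : p ∉ Cfsg.sigma L) : p ∈ Cfsg.tau2 L :=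
  ⟨hp, hσ, hU.prankLE_two hL hp hσ, not_prankLE_one_of_elementary hp hA hAe hAc⟩

theorem not_kappa_of_elementary {L A : Subgroup G} {p : ℕ} (hA : A ≤ L)
    (hAe : Cfsg.IsElementaryAbelian p A) (hAc : Nat.card A = p ^ 2) : p ∉ Cfsg.kappa L := by
  intro hk
  rcases hU.kappa_subset_tau hk with h | h
  · exact not_prankLE_one_of_elementary hk.1 hA hAe hAc h.2.2.2.2
  · exact not_prankLE_one_of_elementary hk.1 hA hAe hAc h.2.2.2

theorem dvd_of_tau2 {N : Subgroup G} (hN : IsCoatom N) {p : ℕ} (hp : p ∈ Cfsg.tau2 N) :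
    p ∣ Nat.card N := by
  obtain ⟨E, hE, -⟩ := hU.exists_compl_ge hN (U := ⊥) bot_le
    (by rw [Subgroup.card_bot]; exact isPiNum_one)
  obtain ⟨A, hA, -, hAc⟩ := hU.exists_elementary_compl hN hE hp
  exact (dvd_pow_self p two_ne_zero).trans (hAc ▸ Subgroup.card_dvd_of_le (hA.trans hE.1))

theorem exists_elementary_of_tau2 {N : Subgroup G} (hN : IsCoatom N) {p : ℕ}
    (hp : p ∈ Cfsg.tau2 N) :
    ∃ A : Subgroup G, A ≤ N ∧ Cfsg.IsElementaryAbelian p A ∧ Nat.card A = p ^ 2 := by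
  obtain ⟨E, hE, -⟩ := hU.exists_compl_ge hN (U := ⊥) bot_le
    (by rw [Subgroup.card_bot]; exact isPiNum_one)
  obtain ⟨A, hA, hAe⟩ := hU.exists_elementary_compl hN hE hp
  exact ⟨A, hA.trans hE.1, hAe⟩

/-- For `p ∈ σ(M) ∩ τ₂(N)` and `M_σ` nilpotent, `M` normalises a non-trivial elementary abelian
`p`-subgroup of `M_σ` of order at most `p²`. -/
theorem exists_omega_center {M N : Subgroup G} (hM : IsCoatom M) (hN : IsCoatom N) {p : ℕ}
    (hp : p ∈ Cfsg.sigma M) (hp2 : p ∈ Cfsg.tau2 N)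
    (hnil : Group.IsNilpotent (Cfsg.sigmaCore M)) :
    ∃ V : Subgroup G, V ≤ Cfsg.sigmaCore M ∧ M ≤ Subgroup.normalizer (V : Set G) ∧
      IsMulCommutative V ∧ (Nat.card V = p ∨ Nat.card V = p ^ 2) := by
  have := Fact.mk hp.1
  obtain ⟨S₀⟩ : Nonempty (Sylow p ↥(Cfsg.sigmaCore M)) := inferInstance
  set S := (S₀ : Subgroup ↥(Cfsg.sigmaCore M)).map (Cfsg.sigmaCore M).subtype with hSdef
  have hSle : S ≤ Cfsg.sigmaCore M := Subgroup.map_subtype_le _
  have hSp : IsPGroup p S := S₀.isPGroup'.map _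
  have hS1 : S ≠ ⊥ := by
    rw [hSdef, Ne, Subgroup.map_eq_bot_iff_of_injective _ (Subgroup.subtype_injective _)]
    exact Sylow.ne_bot_of_dvd_card S₀ (hU.dvd_sigmaCore_of_mem_sigma hM hp)
  have hne := omegaCenter_ne_bot hSp hS1
  have hle : omegaCenter p S ≤ S := fun x hx => (Subgroup.mem_inf.1 hx.1).1
  refine ⟨omegaCenter p S, hle.trans hSle, ?_, (omegaCenter_elementary p S).1, ?_⟩
  · exact ((le_normalizer_sigmaCore M).trans (OddMax.normalizer_le_normalizer_sylow hnil S₀)).trans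
      (normalizer_le_normalizer_omegaCenter p S)
  -- a conjugate of an elementary subgroup of `N` lies in `S`
  obtain ⟨A, hAN, hA, hAc⟩ := hU.exists_elementary_of_tau2 hN hp2
  have hA1 : A ≠ ⊥ := fun h => by
    rw [h, Subgroup.card_bot] at hAc
    exact (Nat.one_lt_pow two_ne_zero hp.1.one_lt).ne hAc
  obtain ⟨g, hg⟩ := hU.s1425 M hM A hA1 (hAc ▸ isPiNum_pow hp.1 hp 2)
  rw [map_conj_eq] at hg
  have hAS : MulAut.conj g • A ≤ S := by
    have hpg : IsPGroup p ↥(MulAut.conj g • A) :=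
      IsPGroup.of_card (n := 2) (by rw [card_conj, hAc])
    obtain ⟨T, hT⟩ := (hpg.comap_of_injective (Cfsg.sigmaCore M).subtype
      (Subgroup.subtype_injective _)).exists_le_sylow
    have hn : (S₀ : Subgroup ↥(Cfsg.sigmaCore M)).Normal :=
      (Group.isNilpotent_of_finite_tfae.out 0 3 rfl rfl).1 hnil p ‹_› S₀
    have := Sylow.unique_of_normal S₀ hn
    rw [Subsingleton.elim T S₀] at hT
    exact fun a ha => ⟨⟨a, hg ha⟩, hT ha, rfl⟩
  have hVg : omegaCenter p S ≤ MulAut.conj g • N := by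
    refine le_trans ?_ (conj_mono g (hU.s1416 N hN p A ⟨hAN, hA, hAc⟩).1)
    rw [smul_centralizer]
    exact fun x hx a ha => (Subgroup.mem_inf.1 hx.1).2 a (hAS ha)
  have hb : Nat.card (omegaCenter p S) ≤ p ^ 2 := by
    by_contra hlt
    have hle' : MulAut.conj g⁻¹ • omegaCenter p S ≤ N := by
      have h := conj_mono g⁻¹ hVg
      rwa [conj_inv_smul] at h
    exact OddSigma.not_prankLE_of_le hle'
      (isElementaryAbelian_conj (omegaCenter_elementary p S) _)
      (by rw [card_conj]; exact not_le.1 hlt) hp2.2.2.1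
  obtain ⟨j, hj⟩ := (hSp.to_le hle).exists_card_eq
  rw [hj] at hb ⊢
  have hj2 : j ≤ 2 := (Nat.pow_le_pow_iff_right hp.1.one_lt).1 hb
  have hj0 : j ≠ 0 := fun h => hne (Subgroup.card_eq_one.1 (by rw [hj, h, pow_zero]))
  interval_cases j
  · exact absurd rfl hj0
  · exact Or.inl (pow_one p)
  · exact Or.inr rfl

/-- If `p ∈ σ(M) ∩ τ₂(N)` and `s ∈ τ₂(M)` then `s < p`. -/
theorem lt_of_cross {M N : Subgroup G} (hM : IsCoatom M) (hN : IsCoatom N) {p s : ℕ}
    (hp : p ∈ Cfsg.sigma M) (hp2 : p ∈ Cfsg.tau2 N) (hs : s ∈ Cfsg.tau2 M) : s < p := by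
  have := Fact.mk hs.1
  obtain ⟨B, hBM, hB, hBc⟩ := hU.exists_elementary_of_tau2 hM hs
  obtain ⟨hnil, -, -, hfix, -⟩ := hU.s1417 M hM s hs B ⟨hBM, hB, hBc⟩
  obtain ⟨V, hV, hMV, -, hVc⟩ := hU.exists_omega_center hM hN hp hp2 hnil
  have hBV : B ≤ Subgroup.normalizer (V : Set G) := hBM.trans hMV
  letI : MulAction B V := MulAction.compHom V (Coprime.conjAut hBV)
  have hmod := (Signalizer.isPGroup_of_elemAb hB).card_modEq_card_fixedPoints (α := V)
  have hfix1 : Nat.card (MulAction.fixedPoints B V) = 1 := by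
    refine Nat.card_eq_one_iff_unique.2 ⟨⟨fun a b => ?_⟩, ⟨⟨1, fun b => ?_⟩⟩⟩
    · have h1 : ∀ v : MulAction.fixedPoints B V, ((v : V) : G) = 1 := by
        intro v
        have hv : ((v : V) : G) ∈ Cfsg.sigmaCore M ⊓ Subgroup.centralizer (B : Set G) :=
          Subgroup.mem_inf.2 ⟨hV (v : V).2, fun c hc => by
            have h := congrArg Subtype.val (v.2 ⟨c, hc⟩)
            change (Coprime.conjAut hBV ⟨c, hc⟩ (v : V) : G) = _ at h
            rw [Coprime.coe_conjAut] at h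
            exact mul_inv_eq_iff_eq_mul.1 h⟩
        rwa [hfix, Subgroup.mem_bot] at hv
      exact Subtype.ext (Subtype.ext ((h1 a).trans (h1 b).symm))
    · show Coprime.conjAut hBV b 1 = 1
      exact map_one _
  rw [hfix1] at hmod
  have hd : s ∣ Nat.card V - 1 := (Nat.modEq_iff_dvd' Nat.card_pos).1 hmod.symm
  have hpo : Odd p := hp.1.odd_of_ne_two (hU.prime_ne_two (H := M) hp.2.1)
  have hso : Odd s := hs.1.odd_of_ne_two (hU.prime_ne_two (H := M) (hU.dvd_of_tau2 hM hs))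
  have hp1 := hp.1.one_lt
  rcases hVc with h | h
  · rw [h] at hd
    have := Nat.le_of_dvd (by omega) hd
    omega
  · rw [h, show p ^ 2 - 1 = (p + 1) * (p - 1) by rw [← Nat.sq_sub_sq, one_pow]] at hd
    rcases hs.1.dvd_mul.1 hd with h' | h'
    · have := Nat.le_of_dvd (by omega) h'
      obtain ⟨i, rfl⟩ := hpo
      obtain ⟨j, rfl⟩ := hso
      by_contra hlt
      have he : 2 * j + 1 = 2 * i + 1 ∨ 2 * j + 1 = 2 * i + 1 + 1 := by omega
      rcases he with he | he
      · rw [he] at h'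
        have h1 := (Nat.dvd_add_right (dvd_refl (2 * i + 1))).1 h'
        have := Nat.dvd_one.1 h1
        omega
      · omega
    · have := Nat.le_of_dvd (by omega) h'
      omega

end Upstream

/-- **BG 14.9**, the part used later: with `U ≠ 1` no prime of `σ(M)` is a `τ₂`-prime. -/
theorem KData.not_tau2_of_sigma {M K E U : Subgroup G} (D : KData M K E U) (hU : Upstream G)
    (hU1 : U ≠ ⊥) {N : Subgroup G} (hN : IsCoatom N) {s : ℕ} (hs : s ∈ Cfsg.sigma M) :
    s ∉ Cfsg.tau2 N := by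
  intro hs2
  obtain ⟨hnil, hCU, hKp⟩ := D.u_ne_bot_facts hU hU1
  obtain ⟨V, hV, hMV, hVcomm, hVc⟩ := hU.exists_omega_center D.isCoatom hN hs hs2 hnil
  have hle2 : Nat.card V ≤ s ^ 2 := by
    rcases hVc with h | h
    · rw [h]; exact Nat.le_self_pow two_ne_zero s
    · rw [h]
  have hV1 : V ≠ ⊥ := fun h => by
    rw [h, Subgroup.card_bot] at hVc
    rcases hVc with h' | h'
    · exact hs.1.one_lt.ne h'
    · exact (Nat.one_lt_pow two_ne_zero hs.1.one_lt).ne h'
  have hUM := D.u_hall.1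
  have := hU.solvable D.isCoatom
  have hVn : Group.IsNilpotent V := by
    have := hVcomm
    letI : CommGroup V := { (inferInstance : Group V) with mul_comm := fun a b => mul_comm' a b }
    exact CommGroup.isNilpotent
  obtain ⟨-, hcard, -⟩ := hU.s1446 U K V hU1 D.ne_bot (Coprime.inf_eq_bot D.coprime_k_u.symm)
    D.k_normalizes_u D.u_free (isSolvable_of_le (D.sup_eq.le.trans D.compl.1)) (hU.odd_card _)
    hV1 hVn (hUM.trans hMV) (D.hall.1.trans hMV)
    (by
      rw [Coprime.card_sup_of_coprime D.k_normalizes_u D.coprime_k_u.symm]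
      exact Nat.Coprime.coprime_dvd_right (Subgroup.card_dvd_of_le hV)
        (Nat.Coprime.mul_left D.coprime_u_sigmaCore D.coprime_k_sigmaCore))
    (le_bot_iff.1 ((inf_le_inf_right _ hV).trans hCU.le))
    (fun x hx hx1 => by
      have h := congrArg (V ⊓ ·) (D.prime_action x hx hx1)
      simpa only [← inf_assoc, inf_of_le_left hV] using h)
  set c := Nat.card ↥(V ⊓ Subgroup.centralizer (K : Set G)) with hc
  set q := Nat.card K with hq
  have hc1 : c ≠ 1 := fun h => hV1 (Subgroup.card_eq_one.1 (by rw [hcard, h, one_pow]))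
  obtain ⟨r, hr, hrd⟩ := Nat.exists_prime_and_dvd hc1
  have hrV : r ∣ Nat.card V := hcard ▸ hrd.trans (dvd_pow_self c hKp.ne_zero)
  have hrs : r = s := by
    rcases hVc with h | h
    · exact (Nat.prime_dvd_prime_iff_eq hr hs.1).1 (h ▸ hrV)
    · exact (Nat.prime_dvd_prime_iff_eq hr hs.1).1 (hr.dvd_of_dvd_pow (h ▸ hrV))
  have hcs : s ≤ c := Nat.le_of_dvd Nat.card_pos (hrs ▸ hrd)
  have hq3 : 3 ≤ q := by
    have := hKp.two_le
    have := hU.prime_ne_two (H := K) (p := q) dvd_rfl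
    omega
  have h3 : s ^ 3 ≤ c ^ q :=
    (Nat.pow_le_pow_left hcs 3).trans (Nat.pow_le_pow_right Nat.card_pos hq3)
  have := Nat.pow_lt_pow_right hs.1.one_lt (show 2 < 3 by omega)
  omega

end Cfsg.Agent.OddOrder14
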