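import Cfsg.Agent.Lib.OddOrder14.Statements
import Cfsg.Agent.Lib.OddOrder14.Tau

/-!
# Subgroups of `M` whose primes lie in `τ₂(M)` are abelian

`Upstream.tau2_abelian` fills the field `tau2_abelian` of `OddMax.Sec15Facts`.
-/

set_option autoImplicit false
set_option linter.unusedSectionVars false

open scoped Pointwise

universe u

namespace Cfsg.Agent.OddOrder14

open Cfsg.Agent.Solvable

variable {G : Type u} [Group G] [Finite G]

namespace Upstream

variable (hU : Upstream G)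
include hU

/-- If the Sylow `p`-subgroups of `G` are abelian, a `τ₂(M)`-prime is not ideal. -/
theorem not_ideal_of_abelian {M : Subgroup G} (hM : IsCoatom M) {p : ℕ} (hp : p ∈ Cfsg.tau2 M)
    (hab : ∀ S : Sylow p G, IsMulCommutative (S : Subgroup G)) : ¬ Cfsg.IsIdealPrime p G := by
  have := Fact.mk hp.1
  rintro ⟨-, hr, -⟩
  simp only [Cfsg.PRankLE, not_forall, not_le] at hr
  obtain ⟨B, hB1, hB2, hBc⟩ := hr
  have hB : Cfsg.IsElementaryAbelian p B := ⟨hB1, hB2⟩
  obtain ⟨A, hAM, hA, hAc⟩ := hU.exists_elementary_of_tau2 hM hp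
  obtain ⟨S, hAS⟩ := (Signalizer.isPGroup_of_elemAb hA).exists_le_sylow
  obtain ⟨T, hBT⟩ := (Signalizer.isPGroup_of_elemAb hB).exists_le_sylow
  obtain ⟨g, hg⟩ := MulAction.exists_smul_eq G T S
  have := hab S
  have hSC : (S : Subgroup G) ≤ Subgroup.centralizer (A : Set G) :=
    fun s hs a ha => setLike_mul_comm (hAS ha) hs
  have hSM : (S : Subgroup G) ≤ M := hSC.trans (hU.s1416 M hM p A ⟨hAM, hA, hAc⟩).1
  have hle : MulAut.conj g • B ≤ M := by
    refine le_trans ?_ hSM
    rw [← hg, Sylow.coe_subgroup_smul]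
    exact conj_mono g hBT
  refine OddSigma.not_prankLE_of_le hle (isElementaryAbelian_conj hB g) ?_ hp.2.2.1
  rw [card_conj]
  exact hBc

theorem tau2_abelian (M : Subgroup G) (hM : IsCoatom M) (X : Subgroup G) (hXM : X ≤ M)
    (hX : ∀ p : ℕ, p.Prime → p ∣ Nat.card X → p ∈ Cfsg.tau2 M) : IsMulCommutative X := by
  by_cases hX1 : X = ⊥
  · subst hX1
    exact ⟨⟨fun a b => Subsingleton.elim _ _⟩⟩
  obtain ⟨E, hE, -⟩ := hU.exists_compl_ge hM (U := ⊥) bot_le
    (by rw [Subgroup.card_bot]; exact isPiNum_one)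
  suffices hn : Group.IsNilpotent X from
    (hU.s1420 M hM E hE).1 X hXM hn fun p hp hd => (hX p hp hd).2.1
  by_cases hna : ∃ p ∈ Cfsg.tau2 M, ∃ S : Sylow p G, ¬ IsMulCommutative (S : Subgroup G)
  · obtain ⟨p, hp, S, hS⟩ := hna
    have := Fact.mk hp.1
    have hS' : ∀ T : Sylow p G, ¬ IsMulCommutative (T : Subgroup G) := fun T hT => hS (by
      obtain ⟨g, hg⟩ := MulAction.exists_smul_eq G T S
      rw [← hg, Sylow.coe_subgroup_smul]
      exact isMulCommutative_conj g T)
    obtain ⟨A, hA⟩ := hU.exists_elementary_compl hM hE hp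
    have hone := (hU.s1419 M hM E hE p hp hS' A hA).1
    exact (IsPGroup.of_card (G := X) (p := p)
      (Nat.eq_prime_pow_of_unique_prime_dvd Nat.card_pos.ne' fun {q} hq hd => by
        have := hX q hq hd
        rwa [hone] at this)).isNilpotent
  · simp only [not_exists, not_and, not_not] at hna
    obtain ⟨p₀, hp₀, hd₀⟩ := Nat.exists_prime_and_dvd (mt Subgroup.card_eq_one.1 hX1)
    obtain ⟨L, hL, hLσ⟩ := hU.exists_common_sigma hM (hX p₀ hp₀ hd₀)
    obtain ⟨g, hg⟩ := hU.s1425 L hL X hX1 fun p hp hd => hLσ p (hX p hp hd)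
    rw [map_conj_eq] at hg
    obtain ⟨-, -, -, ⟨H, hH, hHn⟩, -⟩ := hU.s1414 L hL
    have := hU.solvable hL
    obtain ⟨m, -, hle⟩ := hallOf_conj_ge (isSolvable_of_le (sigmaCore_le L)) hH hg
      (fun p hp hd => ⟨hp, fun hβ => hU.not_ideal_of_abelian hM (hX p hp (card_conj g X ▸ hd))
        (hna p (hX p hp (card_conj g X ▸ hd))) hβ.2⟩)
    have hback : MulAut.conj (m⁻¹ * g) • X ≤ H := by
      have h := conj_mono m⁻¹ hle
      rwa [conj_inv_smul, conj_conj] at h
    have hnX : Group.IsNilpotent ↥(MulAut.conj (m⁻¹ * g) • X) := Cores.isNilpotent_of_le hback hHn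
    exact Group.nilpotent_of_mulEquiv
      (Subgroup.equivSMul (MulAut.conj (m⁻¹ * g)) X).symm

end Upstream

end Cfsg.Agent.OddOrder14
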