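import Cfsg.Agent.Lib.OddOrder14.Later
import Cfsg.Agent.Lib.OddOrder14.UFacts
import Cfsg.Agent.Lib.OddOrder14.Sec15Bundle
import Cfsg.Agent.Lib.OddOrder14.TauTwoAbelian
import Cfsg.Agent.Lib.OddPrime.Kappa2
import Cfsg.Agent.Lib.OddOrder.TauTwoPrimes
import Cfsg.Agent.S1424
import Cfsg.Agent.S1425
import Cfsg.Agent.S1426
import Cfsg.Agent.S1427
import Cfsg.Agent.S1428
import Cfsg.Agent.S1429
import Cfsg.Agent.S1445
import Cfsg.Agent.S1446
import Cfsg.Agent.S1421

/-!
# Bender-Glauberman sections 14-15: the bundles from `IsMinSimpleOddOrder`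

`upstream hG : Upstream G`, `sec15 hG : OddMax.Sec15Facts G`, `fcore hG : FcoreFact G`,
`abelianFixed hG : AbelianFixedFact G`.
-/

set_option autoImplicit false

universe u

namespace Cfsg.Agent.OddOrder14

variable {G : Type u} [Group G] [Finite G]

theorem upstream (hG : Cfsg.IsMinSimpleOddOrder G) : Upstream G :=
  have O := OddPrime.facts hG
  have I := OddSigma.inputs hG
  { hG := hG
    s1350 := O.s1350
    s1404 := O.s1404
    s1405 := O.s1405
    s1409 := O.s1409
    s1414 := O.s1414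
    s1415 := O.s1415
    s1416 := O.s1416
    s1417 := O.s1417
    s1418 := O.s1418
    s1419 := fun M hM E hE p _ hp hS A hA =>
      OddTau2.s1419 I ⟨hM, hp.2.1, hA.1.trans hE.1, hA.2.1, hA.2.2⟩ hS hE hA.1
    s1420 := O.s1420
    s1424 := Cfsg.Agent.S1424.result hG
    s1425 := Cfsg.Agent.S1425.result hG
    s1426 := Cfsg.Agent.S1426.result hG
    s1427 := Cfsg.Agent.S1427.result hG
    s1428 := Cfsg.Agent.S1428.result hG
    s1429 := Cfsg.Agent.S1429.result hG
    s1446 := Cfsg.Agent.S1446.result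
    bg13_6 := O.bg13_6
    bg13_9 := O.bg13_9
    bg13_11 := O.bg13_11
    bg13_12 := O.bg13_12
    bg13_13 := O.bg13_13 }

theorem sec15 (hG : Cfsg.IsMinSimpleOddOrder G) : OddMax.Sec15Facts G :=
  (upstream hG).sec15Facts
    (fun X _ _ _ hodd K R _ hKR hcop hpr hF =>
      Cfsg.Agent.S1445.result hodd K R hKR hcop hpr hF)
    (fun X _ _ K R M => Cfsg.Agent.S1446.result K R M)
    (upstream hG).tau2_abelian

theorem fcore (hG : Cfsg.IsMinSimpleOddOrder G) : FcoreFact G :=
  (upstream hG).fcoreFact (sec15 hG)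

theorem abelianFixed (hG : Cfsg.IsMinSimpleOddOrder G) : AbelianFixedFact G :=
  fun M hM E hE h => Cfsg.Agent.S1421.result hG M hM E hE h

end Cfsg.Agent.OddOrder14
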