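import Cfsg.Agent.Lib.OddOrder14.Support
import Cfsg.Agent.Lib.OddOrder14.Sec15Bundle
import Cfsg.Agent.Lib.OddOrder.Fcore

/-!
# Bender-Glauberman 14.11-14.13: the statements, modulo `Upstream` and 15.2

* `Upstream.fcoreFact`: `FcoreFact G` from `OddMax.Sec15Facts G`
* `Upstream.s1363`, `Upstream.s1364`, `Upstream.s1435`, `Upstream.s1436`
-/

set_option autoImplicit false
set_option linter.unusedSectionVars false

open scoped Pointwise

universe u

namespace Cfsg.Agent.OddOrder14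

open Cfsg.Agent.Solvable

variable {G : Type u} [Group G] [Finite G]

/-- In a group normalising a cyclic subgroup, commutators centralise it. -/
theorem commutator_le_centralizer_of_cyclic {A B H : Subgroup G} (hH : IsCyclic H)
    (hA : A ≤ Subgroup.normalizer (H : Set G)) (hB : B ≤ Subgroup.normalizer (H : Set G)) :
    ⁅A, B⁆ ≤ Subgroup.centralizer (H : Set G) := by
  obtain ⟨g, hg⟩ := hH.exists_generator
  refine Subgroup.commutator_le.2 fun a ha b hb => ?_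
  obtain ⟨i, hi⟩ := Subgroup.mem_zpowers_iff.1 (hg ⟨a * g * a⁻¹,
    (Subgroup.mem_normalizer_iff.1 (hA ha) _).1 g.2⟩)
  obtain ⟨j, hj⟩ := Subgroup.mem_zpowers_iff.1 (hg ⟨b * g * b⁻¹,
    (Subgroup.mem_normalizer_iff.1 (hB hb) _).1 g.2⟩)
  have hi' : (g : G) ^ i = a * g * a⁻¹ := by simpa using congrArg Subtype.val hi
  have hj' : (g : G) ^ j = b * g * b⁻¹ := by simpa using congrArg Subtype.val hj
  have e1 : a * b * g * (a * b)⁻¹ = ((g : G) ^ i) ^ j := by
    rw [hi', conj_zpow, hj']; group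
  have e2 : b * a * g * (b * a)⁻¹ = ((g : G) ^ j) ^ i := by
    rw [hj', conj_zpow, hi']; group
  have e : a * b * g * (a * b)⁻¹ = b * a * g * (b * a)⁻¹ := by
    rw [e1, e2, ← zpow_mul, ← zpow_mul, mul_comm i j]
  intro h hh
  obtain ⟨l, hl⟩ := Subgroup.mem_zpowers_iff.1 (hg ⟨h, hh⟩)
  have hl' : (g : G) ^ l = h := by simpa using congrArg Subtype.val hl
  rw [← hl']
  refine (Commute.zpow_left ?_ l).eq
  have hc : a * b * a⁻¹ * b⁻¹ * g = g * (a * b * a⁻¹ * b⁻¹) :=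
    calc a * b * a⁻¹ * b⁻¹ * g
        = a * b * a⁻¹ * b⁻¹ * (b * a * (a⁻¹ * b⁻¹ * g * b * a) * (b * a)⁻¹) := by group
      _ = a * b * (a⁻¹ * b⁻¹ * g * b * a) * (a * b)⁻¹ * (a * b * a⁻¹ * b⁻¹) := by group
      _ = g * (a * b * a⁻¹ * b⁻¹) := by
        have h3 : a * b * (a⁻¹ * b⁻¹ * g * b * a) * (a * b)⁻¹ = g := by
          have h1 : b * a * (a⁻¹ * b⁻¹ * g * b * a) * (b * a)⁻¹ = g := by group
          have hz : a⁻¹ * b⁻¹ * g * b * a ∈ H := by
            have hn : b * a ∈ Subgroup.normalizer (H : Set G) := mul_mem (hB hb) (hA ha)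
            have := (Subgroup.mem_normalizer_iff''.1 hn (g : G)).1 g.2
            simpa [mul_assoc] using this
          obtain ⟨n, hn⟩ := Subgroup.mem_zpowers_iff.1 (hg ⟨_, hz⟩)
          have hn' : (g : G) ^ n = a⁻¹ * b⁻¹ * g * b * a := by simpa using congrArg Subtype.val hn
          rw [← hn', ← conj_zpow, e, conj_zpow, hn']
          exact h1
        rw [h3]
  rw [commutatorElement_def]
  exact hc.symm

namespace Upstream

variable (hU : Upstream G)
include hU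

/-- The consequence of 15.2 used in 14.11 and 14.12. -/
theorem fcoreFact (F : OddMax.Sec15Facts G) : FcoreFact G := by
  intro M hM K V hKV hK1 hne
  obtain ⟨Q, -, hq, hβ, hle, hQp, hQF, hQH, hMQ, hidx, -⟩ :=
    OddMax.fcore_ne_structure hU.hG F hM hKV hne
  refine ⟨hle.trans hQF, fun hc => ?_⟩
  set q := Nat.card ↥(Cfsg.sigmaCore M ⊓ Subgroup.centralizer (K : Set G))
  have := Fact.mk hq
  have hQM : Q ≤ M := hQH.trans (sigmaCore_le M)
  have hidx' : ¬ q ∣ Q.relIndex M := by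
    rw [← Subgroup.relIndex_mul_relIndex Q _ M hQH (sigmaCore_le M)]
    exact hq.not_dvd_mul hidx
      ((hU.hall_sigmaCore hM).2.2 q hq (hU.alpha_subset_sigma hM hβ.1))
  obtain ⟨P, hP⟩ := OddMax.exists_sylow_eq hQp hQM hidx'
  have hn : (P : Subgroup M).Normal := by
    have h : (P : Subgroup M) = Q.subgroupOf M := by
      rw [← hP, Subgroup.subgroupOf, Subgroup.comap_map_eq_self_of_injective M.subtype_injective]
    rw [h]
    exact Subgroup.normal_subgroupOf_of_le_normalizer hMQ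
  obtain ⟨A, hAM, hA, hAc⟩ := OddSigma.exists_elementary (k := 2) hβ.1.2
  obtain ⟨T, hT⟩ := ((Signalizer.isPGroup_of_elemAb hA).comap_of_injective M.subtype
    M.subtype_injective).exists_le_sylow
  have := Sylow.unique_of_normal P hn
  rw [Subsingleton.elim T P] at hT
  have hAF : A ≤ Cfsg.fittingHallOf M :=
    le_trans (fun a ha => hP ▸ ⟨⟨a, hAM ha⟩, hT ha, rfl⟩) hQF
  refine OddMax.not_isCyclic_of_elementary hA
    ((Nat.pow_le_pow_right hq.pos (by omega)).trans hAc) ?_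
  exact Subgroup.isCyclic_of_le hAF

theorem s1363 (M : Subgroup G) (hM : IsCoatom M) (K U : Subgroup G)
    (hKU : Cfsg.IsSigmaDecomposition M K U) (hK1 : K ≠ ⊥) :
    IsMulCommutative U ∧ ¬ Subgroup.normalizer (U : Set G) ≤ M := by
  have D := kData_of_decomp hU hM hKU hK1
  refine ⟨D.u_comm, fun hle => ?_⟩
  by_cases hU1 : U = ⊥
  · refine hM.1 (top_le_iff.1 ?_)
    rw [hU1, Subgroup.normalizer_eq_top_iff.2 (inferInstance : (⊥ : Subgroup G).Normal)] at hle
    exact hle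
  · obtain ⟨r, hr, hrU⟩ := Nat.exists_prime_and_dvd (mt Subgroup.card_eq_one.1 hU1)
    have := Fact.mk hr
    obtain ⟨R, hRU, hRp, hRi⟩ := exists_sylow_sub U r
    obtain ⟨H, hH, hNH⟩ := OddSigma.exists_coatom
      (OddSigma.normalizer_ne_top hU.hG (sylow_ne_bot hRU hrU hRi)
        fun h => hM.1 (top_le_iff.1 (h ▸ hRU.trans D.u_hall.1)))
    obtain ⟨L, P⟩ := D.exists_pair hU
    have T : NData M K (U ⊔ K) U L r R H := ⟨D, P, hU1, hH, hr, hrU, hRU, hRp, hRi, hNH⟩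
    exact T.not_normalizer_le hU (inf_le_right.trans hle)

theorem s1364 (F : FcoreFact G) (M : Subgroup G) (hM : IsCoatom M) (K U : Subgroup G)
    (hKU : Cfsg.IsSigmaDecomposition M K U) (hK1 : K ≠ ⊥) :
    IsCyclic ↥(Cfsg.sigmaCore M ⊓ Subgroup.centralizer (K : Set G)) ∧
      (Cfsg.sigmaCore M ⊓ Subgroup.centralizer (K : Set G)) ≠ ⊥ ∧
      (Cfsg.sigmaCore M ⊓ Subgroup.centralizer (K : Set G)) ≤ Cfsg.fittingHallOf M ∧
      ¬ IsCyclic (Cfsg.fittingHallOf M) := by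
  have D := kData_of_decomp hU hM hKU hK1
  obtain ⟨L, P⟩ := D.exists_pair hU
  refine ⟨P.symm.isCyclic_k hU, D.kstar_ne_bot hU, D.kstar_le_fcore hU F, fun hc => ?_⟩
  by_cases h : Cfsg.fittingHallOf M = Cfsg.sigmaCore M
  swap
  · exact (F M hM K U hKU hK1 h).2 hc
  rw [h] at hc
  have := hU.solvable hM
  by_cases hU1 : U = ⊥
  · refine D.kstar_ne_bot hU (le_bot_iff.1 ?_)
    have h26 := (hU.s1426 M hM (U ⊔ K) D.compl).1
    have hd : ⁅Cfsg.sigmaCore M, Cfsg.sigmaCore M⁆ = ⊥ := by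
      have := hc.isMulCommutative
      exact Subgroup.commutator_eq_bot_iff_le_centralizer.2
        fun a ha b hb => setLike_mul_comm hb ha
    rw [hd, hU1, bot_sup_eq] at h26
    exact h26
  · have hcm := Coprime.commutator_sup_centralizer (K := U) (A := K) D.k_normalizes_u
      D.coprime_k_u (Or.inr (isSolvable_of_le D.u_hall.1))
    obtain ⟨k, hk, hk1⟩ := K.bot_or_exists_ne_one.resolve_left hK1
    have hfix : U ⊓ Subgroup.centralizer (K : Set G) = ⊥ := le_bot_iff.1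
      ((inf_le_inf_left _ (Subgroup.centralizer_le (Set.singleton_subset_iff.2 hk))).trans
        (D.u_free k hk hk1).le)
    rw [hfix, sup_bot_eq] at hcm
    have hle : U ≤ Subgroup.centralizer (Cfsg.sigmaCore M : Set G) :=
      hcm.symm.le.trans (commutator_le_centralizer_of_cyclic hc D.u_normalizes_sigmaCore
        D.k_normalizes_sigmaCore)
    exact hU.sigmaCore_ne_bot hM (le_bot_iff.1 ((le_inf le_rfl
      (Subgroup.le_centralizer_iff.1 hle)).trans (D.u_ne_bot_facts hU hU1).2.1.le))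

theorem s1435 (F : FcoreFact G) (M : Subgroup G) (hM : IsCoatom M) (K U : Subgroup G)
    (hKU : Cfsg.IsSigmaDecomposition M K U) (hK1 : K ≠ ⊥) (hU1 : U ≠ ⊥) (Mstar : Subgroup G)
    (hMstar : IsCoatom Mstar)
    (hKst : K = Cfsg.sigmaCore Mstar ⊓
      Subgroup.centralizer ((Cfsg.sigmaCore M ⊓ Subgroup.centralizer (K : Set G)) : Set G))
    (hKstH : Cfsg.IsPiHallOf (Cfsg.kappa Mstar)
      (Cfsg.sigmaCore M ⊓ Subgroup.centralizer (K : Set G)) Mstar)
    (r : ℕ) [Fact r.Prime] (hr : r ∣ Nat.card U) (R : Sylow r U) (H : Subgroup G) (hH : IsCoatom H)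
    (hNR : Subgroup.normalizer (((R : Subgroup U).map U.subtype : Subgroup G) : Set G) ≤ H) :
    Cfsg.kappa H = ∅ ∧ U ≤ Cfsg.sigmaCore H ∧ M ⊓ H = U ⊔ K ∧
      ¬ H ⊓ Subgroup.normalizer (U : Set G) ≤ M ∧
      K ≤ Cfsg.fittingOf (H ⊓ Mstar) ∧ Cfsg.IsComplIn (H ⊓ Mstar) (Cfsg.sigmaCore H) H := by
  have D := kData_of_decomp hU hM hKU hK1
  have P := D.pair_of_hyps hU hMstar hKst hKstH
  have T : NData M K (U ⊔ K) U Mstar r ((R : Subgroup U).map U.subtype) H :=
    ⟨D, P, hU1, hH, Fact.out, hr, Subgroup.map_subtype_le _, R.2.map _, OddMax.sylow_relIndex R, hNR⟩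
  obtain ⟨h1, h2⟩ := T.inf_partner hU F
  exact ⟨T.kappa_empty hU, T.u_le_sigmaCore hU, T.inf_eq hU, T.not_normalizer_le hU, h1, h2⟩

theorem s1436 (M : Subgroup G) (hM : IsCoatom M) (x : G) (hx : x ∈ Cfsg.sigmaCore M) (hx1 : x ≠ 1)
    (hxM : ¬ Subgroup.centralizer ({x} : Set G) ≤ M)
    (N : Subgroup G) (hN : IsCoatom N) (hxN : Subgroup.centralizer ({x} : Set G) ≤ N) :
    ((∃ p ∈ Cfsg.sigma N, p ∣ Nat.card M) → Cfsg.kappa M = ∅ ∧ Cfsg.tau2 M = ∅) ∧
      ∀ (y : G) (N' : Subgroup G) (g : G), y ∈ Cfsg.sigmaCore M → y ≠ 1 →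
        ¬ Subgroup.centralizer ({y} : Set G) ≤ M → IsCoatom N' →
        Subgroup.centralizer ({y} : Set G) ≤ N' → N'.map (MulAut.conj g).toMonoidHom = N →
        ∃ m ∈ M, N'.map (MulAut.conj m).toMonoidHom = N := by
  have hS := hU.signalizer_of_le hM hx hx1 hxM hN hxN
  refine ⟨fun ⟨p, hp, hpM⟩ => ⟨hU.kappa_empty_of_sigma hM hx hx1 hS hp hpM,
    hU.tau2_empty_of_sigma hM hx hx1 hS hp hpM⟩, fun y N' g hy hy1 hyM hN' hyN' hg => ?_⟩
  exact hU.exists_conj_signalizer hM hx hx1 hS (hU.signalizer_of_le hM hy hy1 hyM hN' hyN') hg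

end Upstream

end Cfsg.Agent.OddOrder14
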