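import Cfsg.Agent.Lib.OddOrder14.Sec15Bundle
import Cfsg.Agent.Lib.OddOrder14.Later
import Cfsg.Agent.Lib.OddOrder14.UFacts
import Cfsg.Agent.Lib.OddOrder14.TauTwoAbelian
import Cfsg.Agent.Lib.OddOrder.Covering
import Cfsg.Agent.Lib.OddOrder.Sec16Facts

/-!
# The facts behind Bender-Glauberman section 16, from the bundle of section 14

`Upstream.coverFacts` gives `OddMax.CoverFacts G` from `Upstream G`; `Upstream.sec16Facts` gives
`OddMax.Sec16Facts G` from `Upstream G`, statements 1445 and 1446 (for all groups in the universe),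
statement 1421 and the local form of BG 15.7 (see the field `s1440`).
-/

set_option autoImplicit false

universe u

namespace Cfsg.Agent.OddOrder14

open Cfsg

variable {G : Type u} [Group G] [Finite G]

theorem Upstream.coverFacts (hU : Upstream G) : OddMax.CoverFacts G where
  toCountFacts := hU.countFacts
  s1425 := hU.s1425
  s1366 M hM K U hKU hK := (hU.s1366 M hM K U hKU hK).exists
  s1367 M hM K U hKU hK L hL h1 h2 :=
    ⟨fun X hX hXp => ((hU.s1367 M hM K U hKU hK L hL h1 h2).1 X hX hXp).1,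
      fun Y hY hYp => ((hU.s1367 M hM K U hKU hK L hL h1 h2).2 Y hY hYp).1⟩
  s1369 M hM K U hKU hK L hL h1 h2 := (hU.s1369 M hM K U hKU hK L hL h1 h2).2
  s1430 M hM K hK hK1 := (hU.s1430 M hM K hK hK1).1

theorem Upstream.sec16Facts (hU : Upstream G)
    (h45 : ∀ (X : Type u) [Group X] [Finite X] [Group.IsSolvable X], Odd (Nat.card X) →
      ∀ (K R : Subgroup X) [K.Normal], K ⊔ R = ⊤ → (Nat.card K).Coprime (Nat.card R) →
      (∀ x ∈ R, x ≠ 1 → K ⊓ Subgroup.centralizer ({x} : Set X) =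
        K ⊓ Subgroup.centralizer (R : Set X)) →
      Cfsg.fittingOf K ⊓ Subgroup.centralizer (R : Set X) = ⊥ → ⁅K, R⁆ ≤ Cfsg.fittingOf K)
    (h46 : ∀ (X : Type u) [Group X] [Finite X], OddMax.PrimeActionHyp X)
    (h21 : AbelianFixedFact G)
    (h40 : ∀ M : Subgroup G, IsCoatom M → ∀ K U : Subgroup G, IsSigmaDecomposition M K U →
      ∀ g : G, g ∉ M → fittingOf M ⊓ (fittingOf M).map (MulAut.conj g).toMonoidHom ≠ ⊥ →
      (fittingOf M ⊓ (fittingOf M).map (MulAut.conj g).toMonoidHom ≤ fittingHallOf M ∧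
          IsCyclic ↥(fittingOf M ⊓ (fittingOf M).map (MulAut.conj g).toMonoidHom)) ∧
        ((⁅M, M⁆ ≤ fittingOf M ∧ (K ≠ ⊥ → ⁅M, M⁆ = fittingOf M)) ∧ fittingOf M = sigmaCore M ⊔
          piCoreOf {q | q.Prime ∧ q ∉ sigma M} (fittingOf M)) ∧
        ((K = ⊥ ∧ IsMulCommutative (fittingHallOf M) ∧ RankLE 2 (fittingHallOf M) ∧
            ¬ RankLE 1 (fittingHallOf M)) ∨
         (∃ p : ℕ, p.Prime ∧
            Nat.card ↥(fittingOf M ⊓ (fittingOf M).map (MulAut.conj g).toMonoidHom) = p ∧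
            p ∈ sigma M ∧ p ∉ beta M ∧
            ¬ IsMulCommutative (pCore p ↥(fittingHallOf M)) ∧
            IsCyclic (pPrimeCore p ↥(fittingHallOf M)) ∧
            ∀ q : ℕ, q.Prime → q ∣ Nat.card (fittingHallOf M) →
              Monoid.exponent (↥M ⧸ fittingHall ↥M) ∣ q - 1) ∨
         (∃ p : ℕ, p.Prime ∧
            Nat.card ↥(fittingOf M ⊓ (fittingOf M).map (MulAut.conj g).toMonoidHom) = p ∧
            p ∈ sigma M ∧ p ∉ beta M ∧
            IsCyclic (pPrimeCore p ↥(fittingHallOf M)) ∧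
            Nat.card (pCore p ↥(fittingHallOf M)) = p ^ 3 ∧
            ¬ IsMulCommutative (pCore p ↥(fittingHallOf M)) ∧ K ≠ ⊥ ∧ U = ⊥ ∧
            (fittingHallOf M).relIndex M ∣ p + 1))) :
    OddMax.Sec16Facts G where
  toSec15Facts := hU.sec15Facts h45 h46 hU.tau2_abelian
  s1354_second M hM K hKc hK hK1 := (hU.s1354 M hM K hKc hK).2 hK1
  s1358 := hU.s1358
  s1359 := hU.s1359 h21
  s1360 := hU.s1360 h21
  s1361 := hU.s1361
  s1362 := hU.s1362
  s1363 := hU.s1363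
  s1364 M hM K U hKU hK :=
    have h := hU.s1364 (hU.fcoreFact (hU.sec15Facts h45 h46 hU.tau2_abelian)) M hM K U hKU hK
    ⟨h.1, h.2.2⟩
  s1367 := hU.s1367
  s1368 := hU.s1368
  s1369_classes M hM K U hKU hK L hL h1 h2 := (hU.s1369 M hM K U hKU hK L hL h1 h2).2
  s1370 := hU.s1370
  s1419 := hU.s1419
  s1426_conj M hM g hg := by
    obtain ⟨E, hE, -⟩ := hU.exists_compl_ge hM (U := ⊥) bot_le
      (by rw [Subgroup.card_bot]; exact Solvable.isPiNum_one)
    obtain ⟨h1, h2, -⟩ := (hU.s1426 M hM E hE).2.2 g hg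
    exact ⟨h1, h2⟩
  s1435 := hU.s1435 (hU.fcoreFact (hU.sec15Facts h45 h46 hU.tau2_abelian))
  s1436 M hM x hx hx1 hxM N hN hxN := (hU.s1436 M hM x hx hx1 hxM N hN hxN).1
  s1440 := h40

end Cfsg.Agent.OddOrder14
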