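import Cfsg.Agent.Lib.OddOrder14.FittingTI
import Cfsg.Agent.Lib.OddOrder14.Sec16Bundle

/-!
# Bender-Glauberman section 16: the bundle from `IsMinSimpleOddOrder`

`sec16 hG : OddMax.Sec16Facts G`, `cover hG : OddMax.CoverFacts G`.
-/

set_option autoImplicit false

universe u

namespace Cfsg.Agent.OddOrder14

variable {G : Type u} [Group G] [Finite G]

theorem sec16 (hG : Cfsg.IsMinSimpleOddOrder G) : OddMax.Sec16Facts G :=
  (upstream hG).sec16Facts
    (fun X _ _ _ hodd K R _ hKR hcop hpr hF =>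
      Cfsg.Agent.S1445.result hodd K R hKR hcop hpr hF)
    (fun X _ _ K R M => Cfsg.Agent.S1446.result K R M)
    (abelianFixed hG)
    (fun M hM K U hKU g hg hX =>
      have h := fitting_not_ti hG (abelianFixed hG) M hM K U hKU g hg hX
      ⟨h.1, ⟨⟨h.2.1.1, h.2.1.2.1⟩, h.2.1.2.2⟩, h.2.2⟩)

theorem cover (hG : Cfsg.IsMinSimpleOddOrder G) : OddMax.CoverFacts G :=
  (upstream hG).coverFacts

end Cfsg.Agent.OddOrder14
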