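import Cfsg.Agent.Lib.OddOrder14.Base
import Cfsg.Agent.Lib.Coprime.Invariant

/-!
# Bender-Glauberman 14.1-14.2: the Hall `κ(M)`-subgroup

For a Hall `κ(M)`-subgroup `K ≠ 1` of the maximal subgroup `M` and a complement `E ≥ K` of `M_σ`:
* `exists_kData`: `E = UK` with `U` an abelian normal Hall subgroup on which `K` acts freely, `K` has
  prime action on `M_σ`; either `K` is cyclic and `κ(M) ∩ τ₃(M) = ∅`, or `U = 1`.
* `KData.normalizer_inf`: `N_M(X) = K K*` for `1 ≠ X ≤ K` normalised by `K`.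
* `KData.kstar_ne_bot`, `KData.inf_centralizer_le`, `KData.le_partner_sigmaCore`.
-/

set_option autoImplicit false
set_option linter.unusedSectionVars false

open scoped Pointwise

universe u

namespace Cfsg.Agent.OddOrder14

open Cfsg.Agent.Solvable

variable {G : Type u} [Group G] [Finite G]

/-- `K* = C_{M_σ}(K)`. -/
abbrev kStar (M K : Subgroup G) : Subgroup G :=
  Cfsg.sigmaCore M ⊓ Subgroup.centralizer (K : Set G)

section General

theorem zpowers_eq_of_cyclic {P : Subgroup G} (hP : IsCyclic P) {x y : G} (hx : x ∈ P) (hy : y ∈ P)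
    (h : orderOf x = orderOf y) : Subgroup.zpowers x = Subgroup.zpowers y := by
  classical
  have : Fintype P := Fintype.ofFinite P
  have hc : ∀ a : P, orderOf a = orderOf x →
      ((Subgroup.zpowers a : Subgroup P) : Set P) = {z | z ^ orderOf x = 1} := by
    intro a ha
    refine Set.eq_of_subset_of_ncard_le ?_ ?_ (Set.toFinite _)
    · rintro _ ⟨i, rfl⟩
      show (a ^ i) ^ orderOf x = 1
      rw [← ha, ← zpow_natCast, ← zpow_mul, mul_comm, zpow_mul, zpow_natCast, pow_orderOf_eq_one,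
        one_zpow]
    · rw [← Nat.card_coe_set_eq, ← Nat.card_coe_set_eq]
      refine le_trans ?_ (le_of_eq (Nat.card_zpowers a).symm)
      rw [ha, Nat.card_eq_fintype_card, Fintype.card_subtype]
      exact IsCyclic.card_pow_eq_one_le (orderOf_pos x)
  have h1 := hc ⟨x, hx⟩ (Subgroup.orderOf_mk x hx)
  have h2 := hc ⟨y, hy⟩ ((Subgroup.orderOf_mk y hy).trans h.symm)
  have h3 : Subgroup.zpowers (⟨x, hx⟩ : P) = Subgroup.zpowers ⟨y, hy⟩ :=
    SetLike.coe_injective (h1.trans h2.symm)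
  have h4 := congrArg (Subgroup.map P.subtype) h3
  rwa [MonoidHom.map_zpowers, MonoidHom.map_zpowers] at h4

theorem card_mul_of_hall_compl {π : Set ℕ} {A B E : Subgroup G} (hA : Cfsg.IsPiHallOf π A E)
    (hB : Cfsg.IsPiHallOf πᶜ B E) : Nat.card A * Nat.card B = Nat.card E := by
  refine Nat.dvd_antisymm ?_ ?_
  · exact (IsPiNum.coprime hA.2.1 hB.2.1).mul_dvd_of_dvd_of_dvd (Subgroup.card_dvd_of_le hA.1)
      (Subgroup.card_dvd_of_le hB.1)
  · have h1 := card_mul_relIndex hA.1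
    have h2 := card_mul_relIndex hB.1
    have h3 : IsPiNum π (B.relIndex E) := by simpa using hallOf_relIndex_pi hB
    rw [← h1]
    refine mul_dvd_mul_left _ ((h3.coprime (hallOf_relIndex_pi hA)).symm.dvd_of_dvd_mul_right ?_)
    exact h2 ▸ Dvd.intro_left _ h1

theorem mul_mem_normalizer_of_commutator {U E : Subgroup G} (hU : U ≤ E) (h : ⁅E, E⁆ ≤ U) :
    E ≤ Subgroup.normalizer (U : Set G) := by
  intro e he
  refine Coprime.mem_normalizer_of_forall fun x hx => ?_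
  have hc := h (Subgroup.commutator_mem_commutator he (hU hx))
  rw [commutatorElement_def] at hc
  simpa [mul_assoc] using mul_mem hc hx

end General

namespace Upstream

variable (hU : Upstream G)
include hU

/-- Every element of `κ(M)`-prime order centralises part of `M_σ`. -/
theorem centralizes_of_kappa {M : Subgroup G} {p : ℕ} (hp : p ∈ Cfsg.kappa M) {x : G} (hx : x ∈ M)
    (hxp : orderOf x = p) : Cfsg.sigmaCore M ⊓ Subgroup.centralizer ({x} : Set G) ≠ ⊥ := by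
  have := Fact.mk hp.1
  obtain ⟨P, hP⟩ := (IsPGroup.of_card (n := 1) (G := Subgroup.zpowers (⟨x, hx⟩ : M))
    (by rw [Nat.card_zpowers, Subgroup.orderOf_mk, hxp, pow_one])).exists_le_sylow
  obtain ⟨hcyc, x₀, hx₀, hx₀1, y, hy, hy1, hxy⟩ := hp.2.2.2 P
  have hpd : p ∣ orderOf (x₀ : G) := by
    obtain ⟨j, hj⟩ := (IsPGroup.iff_orderOf.1 P.isPGroup') ⟨x₀, hx₀⟩
    rw [Subgroup.orderOf_coe]
    rw [Subgroup.orderOf_mk] at hj
    rw [hj]
    refine dvd_pow_self p fun h0 => hx₀1 (orderOf_eq_one_iff.1 ?_)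
    rw [hj, h0, pow_zero]
  obtain ⟨z, hz, hzp⟩ := exists_orderOf_eq hpd
  have hc : IsCyclic ↥((P : Subgroup M).map M.subtype) :=
    isCyclic_of_surjective _ ((P : Subgroup M).equivMapOfInjective M.subtype M.subtype_injective).surjective
  have hxP : x ∈ (P : Subgroup M).map M.subtype := ⟨⟨x, hx⟩, hP (Subgroup.mem_zpowers _), rfl⟩
  have hx₀P : (x₀ : G) ∈ (P : Subgroup M).map M.subtype := ⟨x₀, hx₀, rfl⟩
  have heq := zpowers_eq_of_cyclic hc (Subgroup.zpowers_le.2 hx₀P hz) hxP (hzp.trans hxp.symm)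
  have hxz : x ∈ Subgroup.zpowers (x₀ : G) := by
    have h : x ∈ Subgroup.zpowers z := heq ▸ Subgroup.mem_zpowers x
    exact Subgroup.zpowers_le.2 hz h
  intro hbot
  have : y ∈ Cfsg.sigmaCore M ⊓ Subgroup.centralizer ({x} : Set G) :=
    ⟨hy, centralizer_le_of_mem_zpowers hxz (Subgroup.mem_centralizer_singleton_iff.2 hxy.symm)⟩
  rw [hbot, Subgroup.mem_bot] at this
  exact hy1 this

theorem not_tau2_of_tau13 {M : Subgroup G} {p : ℕ} (hp : p ∈ Cfsg.tau1 M ∪ Cfsg.tau3 M) :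
    p ∉ Cfsg.tau2 M := by
  rintro ⟨-, -, -, h⟩
  rcases hp with h' | h'
  · exact h h'.2.2.2.2
  · exact h h'.2.2.2

theorem not_tau2_of_kappa {M : Subgroup G} {p : ℕ} (hp : p ∈ Cfsg.kappa M) : p ∉ Cfsg.tau2 M :=
  hU.not_tau2_of_tau13 (hU.kappa_subset_tau hp)

end Upstream

/-- The structure of `M` over `K`, relative to a complement `E ≥ K` of `M_σ`. -/
structure KData (M K E U : Subgroup G) : Prop where
  isCoatom : IsCoatom M
  hall : Cfsg.IsPiHallOf (Cfsg.kappa M) K M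
  ne_bot : K ≠ ⊥
  le_compl : K ≤ E
  compl : Cfsg.IsComplIn E (Cfsg.sigmaCore M) M
  u_le : U ≤ E
  u_hall : Cfsg.IsPiHallOf (Cfsg.kappa M ∪ Cfsg.sigma M)ᶜ U M
  u_normal : E ≤ Subgroup.normalizer (U : Set G)
  sup_eq : U ⊔ K = E
  u_comm : IsMulCommutative U
  u_free : ∀ k ∈ K, k ≠ 1 → U ⊓ Subgroup.centralizer ({k} : Set G) = ⊥
  prime_action : ∀ k ∈ K, k ≠ 1 →
    Cfsg.sigmaCore M ⊓ Subgroup.centralizer ({k} : Set G) = kStar M K
  normal_of_prime : ∀ X : Subgroup G, X ≤ K → (Nat.card X).Prime →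
    K ≤ Subgroup.normalizer (X : Set G)
  cases : (IsCyclic K ∧ (∀ p ∈ Cfsg.kappa M, p ∈ Cfsg.tau1 M) ∧
      ∀ p ∈ Cfsg.tau1 M, p ∈ Cfsg.kappa M) ∨
    (U = ⊥ ∧ ∃ p ∈ Cfsg.kappa M, p ∈ Cfsg.tau3 M)

section Exists

variable (hU : Upstream G) {M K E : Subgroup G} (hM : IsCoatom M)
  (hK : Cfsg.IsPiHallOf (Cfsg.kappa M) K M) (hK1 : K ≠ ⊥)
  (hE : Cfsg.IsComplIn E (Cfsg.sigmaCore M) M) (hKE : K ≤ E)
include hU hM hK hK1 hE hKE

theorem exists_kData_tau3 {p : ℕ} (hp : p ∈ Cfsg.kappa M) (hp3 : p ∈ Cfsg.tau3 M) :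
    ∃ U, KData M K E U := by
  have := Fact.mk hp.1
  obtain ⟨x, hx⟩ := exists_prime_orderOf_dvd_card' (G := M) p hp.2.1
  have hxG : orderOf (x : G) = p := by rw [Subgroup.orderOf_coe, hx]
  obtain ⟨m, hm, hxE⟩ := exists_conj_le_compl hU hM hE (U := Subgroup.zpowers (x : G))
    (Subgroup.zpowers_le.2 x.2) (zpowers_sigma_pi (hxG ▸ isPiNum_of_pow hp.1 hp.2.2.1))
  set x' := m⁻¹ * (x : G) * m with hx'
  have hx'E : x' ∈ E := (mem_conj_iff m (x : G) E).1 (hxE (Subgroup.mem_zpowers _))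
  have hx'p : orderOf x' = p := by
    rw [← hxG, hx', show m⁻¹ * (x : G) * m = MulAut.conj m⁻¹ (x : G) by simp]
    exact MulEquiv.orderOf_eq _ _
  have hc := hU.centralizes_of_kappa hp (hE.1 hx'E) hx'p
  obtain ⟨hprimes, hact, hnorm⟩ := hU.bg13_11 M hM E hE p hp3 x' hx'E hx'p hc
  have hCE : Cfsg.sigmaCore M ⊓ Subgroup.centralizer (E : Set G) ≠ ⊥ := by
    rwa [← hact x' hx'E (ne_one_of_orderOf hp.1 hx'p)]
  have hEk : IsPiNum (Cfsg.kappa M) (Nat.card E) := by
    intro q hq hd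
    have := Fact.mk hq
    obtain ⟨y, hy⟩ := exists_prime_orderOf_dvd_card' (G := E) q hd
    have hyG : orderOf (y : G) = q := by rw [Subgroup.orderOf_coe, hy]
    refine hU.mem_kappa_of_centralizes hM (hprimes q hq hd) (hE.1 y.2) hyG ?_
    rwa [hact (y : G) y.2 (ne_one_of_orderOf hq hyG)]
  have hKeq : K = E := hallOf_eq_of_le hK hKE hE.1 hEk
  refine ⟨⊥, ⟨hM, hK, hK1, hKE, hE, bot_le, ⟨bot_le, ?_, ?_⟩, ?_, ?_, ?_, ?_, ?_, ?_,
    Or.inr ⟨rfl, p, hp, hp3⟩⟩⟩
  · intro q hq hd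
    rw [Subgroup.card_bot] at hd
    exact absurd (Nat.dvd_one.1 hd) hq.ne_one
  · intro q hq hq' hd
    rw [Subgroup.relIndex_bot_left, ← compl_card hE] at hd
    rcases hq.dvd_mul.1 hd with h | h
    · exact hq' (Or.inl (hEk q hq h))
    · exact hq' (Or.inr (mem_sigma_of_dvd_sigmaCore hq h))
  · intro e _
    rw [Subgroup.mem_normalizer_iff]
    simp
  · rw [bot_sup_eq, hKeq]
  · exact ⟨⟨fun a b => Subsingleton.elim _ _⟩⟩
  · intro k _ _
    rw [bot_inf_eq]
  · intro k hk hk1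
    rw [hact k (hKE hk) hk1, kStar, hKeq]
  · intro X hX hXp
    exact hKE.trans (hnorm X (hX.trans hKE) hXp)
where
  isPiNum_of_pow {p : ℕ} (hp : p.Prime) {π : Set ℕ} (h : p ∉ π) : IsPiNum πᶜ p := by
    simpa using isPiNum_pow (π := πᶜ) hp h 1

theorem exists_kData_tau1 (h3 : ∀ p ∈ Cfsg.kappa M, p ∉ Cfsg.tau3 M) :
    ∃ U, KData M K E U := by
  have hH := hU.hall_sigmaCore hM
  have hEσ := compl_hall hU hM hE
  have hk1 : ∀ p ∈ Cfsg.kappa M, p ∈ Cfsg.tau1 M := fun p hp =>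
    (hU.kappa_subset_tau hp).resolve_right (h3 p hp)
  have hKEh : Cfsg.IsPiHallOf (Cfsg.kappa M) K E := hallOf_sub hK hKE hE.1
  -- a prime of `κ` and an element of that order in `K`
  obtain ⟨z, hz, hz1⟩ := K.bot_or_exists_ne_one.resolve_left hK1
  obtain ⟨p, hp, hpd, x, hxz, hxp⟩ := exists_prime_orderOf hz1
  have hxK : x ∈ K := Subgroup.zpowers_le.2 hz hxz
  have hpk : p ∈ Cfsg.kappa M := hK.2.1 p hp (dvd_card_of_mem hz hpd)
  have := Fact.mk hp
  obtain ⟨E₁, hE₁, hxE₁⟩ := exists_hallOf_ge (π := Cfsg.tau1 M)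
    (haveI := hU.solvable hM; isSolvable_of_le hE.1)
    (U := Subgroup.zpowers x) (Subgroup.zpowers_le.2 (hKE hxK))
    (isPiNum_of_card_prime hp (card_zpowers' hxp) (hk1 p hpk))
  have hcyc₁ := (hU.s1415 M hM E hE).2.1 E₁ hE₁
  -- `τ₁ = κ`
  have h1k : ∀ q ∈ Cfsg.tau1 M, q ∈ Cfsg.kappa M := by
    intro q hq
    have := Fact.mk hq.1
    have hqE : q ∣ Nat.card E := by
      have h := hq.2.2.1
      rw [← compl_card hE] at h
      exact (hq.1.dvd_mul.1 h).resolve_right fun h' => hq.2.1 (mem_sigma_of_dvd_sigmaCore hq.1 h')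
    rw [← card_mul_relIndex hE₁.1] at hqE
    obtain ⟨y, hy⟩ := exists_prime_orderOf_dvd_card' (G := E₁) q
      ((hq.1.dvd_mul.1 hqE).resolve_right (hE₁.2.2 q hq.1 hq))
    have hyG : orderOf (y : G) = q := by rw [Subgroup.orderOf_coe, hy]
    have hR : Subgroup.zpowers (y : G) ≤ E ⊓ Subgroup.centralizer (Subgroup.zpowers x : Set G) := by
      rw [Subgroup.zpowers_le, centralizer_zpowers_eq]
      refine ⟨hE₁.1 y.2, Subgroup.mem_centralizer_singleton_iff.2 ?_⟩
      have := hcyc₁.isMulCommutative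
      exact setLike_mul_comm y.2 (hxE₁ (Subgroup.mem_zpowers x))
    have h := hU.s1428 M hM E hE p (hk1 p hpk) (Subgroup.zpowers x)
      (Subgroup.zpowers_le.2 (hKE hxK)) (card_zpowers' hxp) (Subgroup.zpowers (y : G)) hR
      (by rw [card_zpowers' hyG]; exact hq.1)
    rw [centralizer_zpowers_eq, centralizer_zpowers_eq] at h
    refine hU.mem_kappa_of_centralizes hM (Or.inl hq) (hE.1 (hE₁.1 y.2)) hyG fun hb => ?_
    exact hU.centralizes_of_kappa hpk (hK.1 hxK) hxp (le_bot_iff.1 (hb ▸ h))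
  have hKcyc : IsCyclic K := (hU.s1415 M hM E hE).2.1 K
    ⟨hKE, fun q hq hd => hk1 q (hKEh.2.1 q hq hd), fun q hq hq1 => hKEh.2.2 q hq (h1k q hq1)⟩
  have hKc := hKcyc.isMulCommutative
  -- all elements of prime order of `K` have the same centraliser in `M_σ`
  have hsame : ∀ a ∈ K, ∀ b ∈ K, (orderOf a).Prime → (orderOf b).Prime →
      Cfsg.sigmaCore M ⊓ Subgroup.centralizer ({a} : Set G) ≤
        Cfsg.sigmaCore M ⊓ Subgroup.centralizer ({b} : Set G) := by
    intro a ha b hb hap hbp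
    have h := hU.s1428 M hM E hE (orderOf a) (hk1 _ (hK.2.1 _ hap (dvd_card_of_mem ha dvd_rfl)))
      (Subgroup.zpowers a) (Subgroup.zpowers_le.2 (hKE ha)) (Nat.card_zpowers a)
      (Subgroup.zpowers b)
      (by
        rw [Subgroup.zpowers_le, centralizer_zpowers_eq]
        exact ⟨hKE hb, Subgroup.mem_centralizer_singleton_iff.2 (setLike_mul_comm hb ha)⟩)
      (by rw [Nat.card_zpowers]; exact hbp)
    rwa [centralizer_zpowers_eq, centralizer_zpowers_eq] at h
  have hDK : Cfsg.sigmaCore M ⊓ Subgroup.centralizer ({x} : Set G) ≤ kStar M K := by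
    set D := Cfsg.sigmaCore M ⊓ Subgroup.centralizer ({x} : Set G) with hD
    refine le_inf inf_le_left (Subgroup.le_centralizer_iff.1 ?_)
    refine inf_eq_left.1 (Subgroup.eq_of_le_of_card_ge inf_le_left ?_)
    refine le_of_eq ?_
    have h1 := card_mul_relIndex
      (inf_le_left : K ⊓ Subgroup.centralizer (D : Set G) ≤ K)
    suffices (K ⊓ Subgroup.centralizer (D : Set G)).relIndex K = 1 by rw [← h1, this, mul_one]
    by_contra hne
    obtain ⟨q, hq, hqd⟩ := Nat.exists_prime_and_dvd hne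
    have := Fact.mk hq
    have hqK : q ∣ Nat.card K := hqd.trans (h1 ▸ dvd_mul_left _ _)
    have hqk := hK.2.1 q hq hqK
    obtain ⟨S, -⟩ := (IsPGroup.of_bot (p := q) (G := K)).exists_le_sylow
    set T := (S : Subgroup K).map K.subtype with hT
    have hTK : T ≤ K := Subgroup.map_subtype_le _
    -- `T` is a Sylow subgroup of `E`
    have hTE : ¬ q ∣ (T.subgroupOf E).index := by
      show ¬ q ∣ T.relIndex E
      rw [← Subgroup.relIndex_mul_relIndex T K E hTK hKE]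
      refine hq.not_dvd_mul ?_ (hKEh.2.2 q hq hqk)
      rw [hT, Subgroup.relIndex, Subgroup.subgroupOf,
        Subgroup.comap_map_eq_self_of_injective K.subtype_injective]
      exact S.not_dvd_index
    let S' : Sylow q E := (IsPGroup.comap_of_injective (S.isPGroup'.map K.subtype) E.subtype
      E.subtype_injective).toSylow hTE
    have hS' : (S' : Subgroup E).map E.subtype = T :=
      Subgroup.map_subgroupOf_eq_of_le (hTK.trans hKE)
    have hTcyc : IsCyclic T := Subgroup.isCyclic_of_le hTK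
    have hS'c : IsCyclic (S' : Subgroup E) := by
      have : IsCyclic ↥((S' : Subgroup E).map E.subtype) := hS' ▸ hTcyc
      exact isCyclic_of_surjective _
        ((S' : Subgroup E).equivMapOfInjective E.subtype E.subtype_injective).symm.surjective
    obtain ⟨y, hy⟩ := exists_prime_orderOf_dvd_card' (G := T) q
      (by
        rw [← card_mul_relIndex hTK] at hqK
        refine (hq.dvd_mul.1 hqK).resolve_right ?_
        rw [hT, Subgroup.relIndex, Subgroup.subgroupOf,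
          Subgroup.comap_map_eq_self_of_injective K.subtype_injective]
        exact S.not_dvd_index)
    have hyG : orderOf (y : G) = q := by rw [Subgroup.orderOf_coe, hy]
    have hS'1 : (S' : Subgroup E) ≠ ⊥ := fun hb => by
      have h : T = ⊥ := by rw [← hS', hb, Subgroup.map_bot]
      exact ne_one_of_orderOf hq hyG (Subgroup.mem_bot.1 ((le_of_eq h) y.2))
    have h27 := hU.s1427 M hM E hE q S' hS'1 hS'c (y : G) ((le_of_eq hS'.symm) y.2)
      (ne_one_of_orderOf hq hyG)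
    rw [hS'] at h27
    have hTC : T ≤ K ⊓ Subgroup.centralizer (D : Set G) := by
      refine le_inf hTK (Subgroup.le_centralizer_iff.1 ?_)
      have h := hsame x hxK (y : G) (hTK y.2) (hxp ▸ hp) (hyG.symm ▸ hq)
      rw [h27] at h
      exact h.trans inf_le_right
    have := hqd.trans ⟨_, (Subgroup.relIndex_mul_relIndex T _ K hTC inf_le_left).symm.trans
      (mul_comm _ _)⟩
    rw [hT, Subgroup.relIndex, Subgroup.subgroupOf,
      Subgroup.comap_map_eq_self_of_injective K.subtype_injective] at this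
    exact S.not_dvd_index this
  have hact : ∀ k ∈ K, k ≠ 1 →
      Cfsg.sigmaCore M ⊓ Subgroup.centralizer ({k} : Set G) = kStar M K := by
    intro k hk hk1'
    refine le_antisymm ?_ (inf_le_inf_left _ (Subgroup.centralizer_le (Set.singleton_subset_iff.2 hk)))
    obtain ⟨q, hq, -, y, hy, hyq⟩ := exists_prime_orderOf hk1'
    refine le_trans ?_ ((hsame y (Subgroup.zpowers_le.2 hk hy) x hxK (hyq ▸ hq) (hxp ▸ hp)).trans hDK)
    exact inf_le_inf_left _ (centralizer_le_of_mem_zpowers hy)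
  -- the normal complement `U` of `K` in `E`
  have := hU.solvable hM
  have hEsolv : Group.IsSolvable E := isSolvable_of_le hE.1
  obtain ⟨U, hUE⟩ := exists_hallOf hEsolv (Cfsg.kappa M)ᶜ
  have hUd : ⁅E, E⁆ ≤ U := by
    refine le_hallOf_normal hUE (Subgroup.commutator_le_self E) ?_ fun q hq hd hqk => ?_
    · exact Subgroup.normalizer_commutator_ge_left E E
    · exact (hk1 q hqk).2.2.2.1 (hd.trans (Subgroup.card_dvd_of_le (Subgroup.commutator_mono hE.1 hE.1)))
  have hUn : E ≤ Subgroup.normalizer (U : Set G) := mul_mem_normalizer_of_commutator hUE.1 hUd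
  have hUK : U ⊔ K = E := by
    refine Subgroup.eq_of_le_of_card_ge (sup_le hUE.1 hKE) ?_
    rw [Coprime.card_sup_of_coprime (hKE.trans hUn) (IsPiNum.coprime hKEh.2.1 hUE.2.1).symm,
      mul_comm, card_mul_of_hall_compl hKEh hUE]
  have hUhall : Cfsg.IsPiHallOf (Cfsg.kappa M ∪ Cfsg.sigma M)ᶜ U M := by
    refine hallOf_trans (L := E) (ρ := (Cfsg.sigma M)ᶜ) ⟨hUE.1, ?_, ?_⟩ hEσ ?_
    · intro q hq hd
      rintro (h | h)
      · exact hUE.2.1 q hq hd h
      · exact hEσ.2.1 q hq (hd.trans (Subgroup.card_dvd_of_le hUE.1)) h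
    · exact fun q hq hq' => hUE.2.2 q hq fun h => hq' (Or.inl h)
    · exact fun q _ hq _ h => hq (Or.inr h)
  have hfree : ∀ k ∈ K, k ≠ 1 → U ⊓ Subgroup.centralizer ({k} : Set G) = ⊥ := by
    intro k hk hk1'
    refine (Subgroup.eq_bot_iff_forall _).2 fun w hw => by_contra fun hw1 => ?_
    obtain ⟨q, hq, hqd, v, hv, hvq⟩ := exists_prime_orderOf hw1
    obtain ⟨s, hs, hsd, y, hy, hys⟩ := exists_prime_orderOf hk1'
    have := Fact.mk hq
    have hyK : y ∈ K := Subgroup.zpowers_le.2 hk hy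
    have hvU : v ∈ U := Subgroup.zpowers_le.2 hw.1 hv
    have hsk : s ∈ Cfsg.kappa M := hK.2.1 s hs (dvd_card_of_mem hk hsd)
    have hvy : v ∈ Subgroup.centralizer ({y} : Set G) :=
      centralizer_le_of_mem_zpowers hy (Subgroup.zpowers_le.2 hw.2 hv)
    have hR : Subgroup.zpowers v ≤ E ⊓ Subgroup.centralizer (Subgroup.zpowers y : Set G) := by
      rw [Subgroup.zpowers_le, centralizer_zpowers_eq]
      exact ⟨hUE.1 hvU, hvy⟩
    have hCy : Cfsg.sigmaCore M ⊓ Subgroup.centralizer ({y} : Set G) ≠ ⊥ :=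
      hU.centralizes_of_kappa hsk (hK.1 hyK) hys
    have hq' := hUhall.2.1 q hq (dvd_card_of_mem hw.1 hqd)
    have hqk : q ∉ Cfsg.kappa M := fun h => hq' (Or.inl h)
    have hCv : Cfsg.sigmaCore M ⊓ Subgroup.centralizer ({v} : Set G) ≠ ⊥ := by
      have h := hU.s1428 M hM E hE s (hk1 s hsk) (Subgroup.zpowers y)
        (Subgroup.zpowers_le.2 (hKE hyK)) (card_zpowers' hys) (Subgroup.zpowers v) hR
        (by rw [card_zpowers' hvq]; exact hq)
      rw [centralizer_zpowers_eq, centralizer_zpowers_eq] at h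
      exact fun hb => hCy (le_bot_iff.1 (hb ▸ h))
    rcases hU.tau_cases hM hq (dvd_card_of_mem (hUhall.1 hw.1) hqd) (fun h => hq' (Or.inr h))
      with h | h | h
    · exact hqk (h1k q h)
    · refine hCy ?_
      rw [← centralizer_zpowers_eq]
      exact hU.bg13_12 M hM E hE s (hk1 s hsk) _ (Subgroup.zpowers_le.2 (hKE hyK))
        (card_zpowers' hys) q h (Subgroup.zpowers v) hR (card_zpowers' hvq)
    · exact hqk (hU.mem_kappa_of_centralizes hM (Or.inr h) (hUhall.1 hvU) hvq hCv)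
  refine ⟨U, ⟨hM, hK, hK1, hKE, hE, hUE.1, hUhall, hUn, hUK, ?_, hfree, hact, ?_,
    Or.inl ⟨hKcyc, hk1, h1k⟩⟩⟩
  · -- `U = [U, K] ≤ E'` is abelian
    have hcm := Coprime.commutator_sup_centralizer (K := U) (A := K) (hKE.trans hUn)
      (IsPiNum.coprime hKEh.2.1 hUE.2.1) (Or.inr (isSolvable_of_le hUE.1))
    have hfix : U ⊓ Subgroup.centralizer (K : Set G) = ⊥ := le_bot_iff.1
      ((inf_le_inf_left _ (Subgroup.centralizer_le (Set.singleton_subset_iff.2 hxK))).trans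
        (hfree x hxK (ne_one_of_orderOf hp hxp)).le)
    rw [hfix, sup_bot_eq] at hcm
    have hle : U ≤ ⁅E, E⁆ := hcm.symm.le.trans (Subgroup.commutator_mono hUE.1 hKE)
    have hab := (hU.s1420 M hM E hE).2.1
    exact ⟨⟨fun a b => Subtype.ext (setLike_mul_comm (hle a.2) (hle b.2))⟩⟩
  · intro X hX _ k hk
    refine Coprime.mem_normalizer_of_forall fun y hy => ?_
    rwa [setLike_mul_comm hk (hX hy), mul_inv_cancel_right]

/-- **BG 14.1, 14.2 (a)**. -/
theorem exists_kData : ∃ U, KData M K E U := by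
  by_cases h : ∃ p ∈ Cfsg.kappa M, p ∈ Cfsg.tau3 M
  · obtain ⟨p, hp, hp3⟩ := h
    exact exists_kData_tau3 hU hM hK hK1 hE hKE hp hp3
  · exact exists_kData_tau1 hU hM hK hK1 hE hKE fun p hp hp3 => h ⟨p, hp, hp3⟩

end Exists

theorem Upstream.exists_kData_compl (hU : Upstream G) {M K : Subgroup G} (hM : IsCoatom M)
    (hK : Cfsg.IsPiHallOf (Cfsg.kappa M) K M) (hK1 : K ≠ ⊥) : ∃ E U, KData M K E U := by
  obtain ⟨E, hE, hKE⟩ := hU.exists_compl_ge hM hK.1 fun p hp hd hσ => (hK.2.1 p hp hd).2.2.1 hσ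
  exact ⟨E, exists_kData hU hM hK hK1 hE hKE⟩

namespace KData

variable {M K E U : Subgroup G} (D : KData M K E U)
include D

theorem card_k_pi : IsPiNum (Cfsg.kappa M) (Nat.card K) := D.hall.2.1

theorem coprime_k_sigmaCore : (Nat.card K).Coprime (Nat.card (Cfsg.sigmaCore M)) :=
  IsPiNum.coprime (π := Cfsg.kappa M) D.hall.2.1
    fun p hp hd hk => hk.2.2.1 (mem_sigma_of_dvd_sigmaCore hp hd)

theorem coprime_k_u : (Nat.card K).Coprime (Nat.card U) :=
  IsPiNum.coprime (π := Cfsg.kappa M) D.hall.2.1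
    fun p hp hd hk => D.u_hall.2.1 p hp hd (Or.inl hk)

theorem coprime_u_sigmaCore : (Nat.card U).Coprime (Nat.card (Cfsg.sigmaCore M)) := by
  refine Nat.coprime_of_dvd fun p hp h1 h2 => D.u_hall.2.1 p hp h1 ?_
  exact Or.inr (mem_sigma_of_dvd_sigmaCore hp h2)

theorem k_normalizes_u : K ≤ Subgroup.normalizer (U : Set G) := D.le_compl.trans D.u_normal

theorem k_normalizes_sigmaCore : K ≤ Subgroup.normalizer (Cfsg.sigmaCore M : Set G) :=
  D.hall.1.trans (le_normalizer_sigmaCore M)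

theorem kstar_le : kStar M K ≤ M := inf_le_left.trans (sigmaCore_le M)

theorem k_le_centralizer_kstar : K ≤ Subgroup.centralizer (kStar M K : Set G) :=
  Subgroup.le_centralizer_iff.1 inf_le_right

theorem kstar_ne_bot (hU : Upstream G) : kStar M K ≠ ⊥ := by
  obtain ⟨k, hk, hk1⟩ := K.bot_or_exists_ne_one.resolve_left D.ne_bot
  obtain ⟨p, hp, hpd, x, hx, hxp⟩ := exists_prime_orderOf hk1
  have hxK : x ∈ K := Subgroup.zpowers_le.2 hk hx
  rw [← D.prime_action x hxK (ne_one_of_orderOf hp hxp)]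
  exact hU.centralizes_of_kappa (D.hall.2.1 p hp (dvd_card_of_mem hk hpd)) (D.hall.1 hxK) hxp

theorem mul_of_mem {m : G} (hm : m ∈ M) :
    ∃ k ∈ K, ∃ u ∈ U, ∃ h ∈ Cfsg.sigmaCore M, m = k * (u * h) := by
  obtain ⟨e, he, h, hh, rfl⟩ := D.compl.2.2.2 m hm
  rw [← D.sup_eq] at he
  obtain ⟨u, hu, k, hk, rfl⟩ := (Coprime.mem_sup_iff D.k_normalizes_u).1 he
  exact ⟨k, hk, k⁻¹ * u * k, (Subgroup.mem_normalizer_iff''.1 (D.k_normalizes_u hk) u).1 hu, h, hh,
    by group⟩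

theorem u_normalizes_sigmaCore : U ≤ Subgroup.normalizer (Cfsg.sigmaCore M : Set G) :=
  (D.u_le.trans D.compl.1).trans (le_normalizer_sigmaCore M)

theorem k_inf_uh : K ⊓ (Cfsg.sigmaCore M ⊔ U) = ⊥ := by
  refine Coprime.inf_eq_bot ?_
  rw [Coprime.card_sup_of_coprime D.u_normalizes_sigmaCore D.coprime_u_sigmaCore.symm]
  exact Nat.Coprime.mul_right D.coprime_k_sigmaCore D.coprime_k_u

/-- An element `uh` fixing a non-identity element of `K` modulo commutators is trivial on it. -/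
theorem eq_of_commutator_mem {x u h : G} (hx : x ∈ K) (hx1 : x ≠ 1) (hu : u ∈ U)
    (hh : h ∈ Cfsg.sigmaCore M) (hc : (u * h) * x * (u * h)⁻¹ * x⁻¹ ∈ K) :
    u = 1 ∧ h ∈ kStar M K := by
  have hxu : x * u * x⁻¹ ∈ U := (Subgroup.mem_normalizer_iff.1 (D.k_normalizes_u hx) u).1 hu
  have hxh : x * h * x⁻¹ ∈ Cfsg.sigmaCore M :=
    (Subgroup.mem_normalizer_iff.1 (D.k_normalizes_sigmaCore hx) h).1 hh
  have hmem : ∀ {a b : G}, a ∈ U → b ∈ Cfsg.sigmaCore M → a * b ∈ Cfsg.sigmaCore M ⊔ U :=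
    fun ha hb => mul_mem (Subgroup.mem_sup_right ha) (Subgroup.mem_sup_left hb)
  have h1 : (u * h) * x * (u * h)⁻¹ * x⁻¹ ∈ K ⊓ (Cfsg.sigmaCore M ⊔ U) := by
    refine Subgroup.mem_inf.2 ⟨hc, ?_⟩
    rw [show (u * h) * x * (u * h)⁻¹ * x⁻¹ = (u * h) * ((x * u * x⁻¹) * (x * h * x⁻¹))⁻¹ by group]
    exact mul_mem (hmem hu hh) (inv_mem (hmem hxu hxh))
  rw [D.k_inf_uh, Subgroup.mem_bot, mul_inv_eq_one, mul_inv_eq_iff_eq_mul] at h1
  -- `h1 : (u * h) * x = x * (u * h)`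
  have h2 : (x * u * x⁻¹)⁻¹ * u = (x * h * x⁻¹) * h⁻¹ := by
    rw [inv_mul_eq_iff_eq_mul, ← mul_assoc, eq_mul_inv_iff_mul_eq]
    calc u * h = (u * h) * x * x⁻¹ := by group
      _ = x * (u * h) * x⁻¹ := by rw [h1]
      _ = _ := by group
  have h3 : (x * u * x⁻¹)⁻¹ * u ∈ U ⊓ Cfsg.sigmaCore M :=
    Subgroup.mem_inf.2 ⟨mul_mem (inv_mem hxu) hu, h2 ▸ mul_mem hxh (inv_mem hh)⟩
  rw [Coprime.inf_eq_bot D.coprime_u_sigmaCore, Subgroup.mem_bot] at h3
  have hu1 : u ∈ U ⊓ Subgroup.centralizer ({x} : Set G) := by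
    refine ⟨hu, Subgroup.mem_centralizer_singleton_iff.2 ?_⟩
    rw [inv_mul_eq_one, mul_inv_eq_iff_eq_mul] at h3
    exact h3.symm
  rw [D.u_free x hx hx1, Subgroup.mem_bot] at hu1
  refine ⟨hu1, ?_⟩
  rw [← D.prime_action x hx hx1]
  refine ⟨hh, Subgroup.mem_centralizer_singleton_iff.2 ?_⟩
  rwa [hu1, one_mul] at h1

/-- **BG 14.2 (b)**: `N_M(X) = K K*`. -/
theorem normalizer_inf {X : Subgroup G} (hX : X ≤ K) (hX1 : X ≠ ⊥)
    (hn : K ≤ Subgroup.normalizer (X : Set G)) :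
    M ⊓ Subgroup.normalizer (X : Set G) = K ⊔ kStar M K := by
  refine le_antisymm (fun m hm => ?_) (sup_le (le_inf D.hall.1 hn) (le_inf D.kstar_le ?_))
  · obtain ⟨k, hk, u, hu, h, hh, rfl⟩ := D.mul_of_mem hm.1
    obtain ⟨x, hx, hx1⟩ := X.bot_or_exists_ne_one.resolve_left hX1
    have hn' : u * h ∈ Subgroup.normalizer (X : Set G) := by
      simpa using mul_mem (inv_mem (hn hk)) hm.2
    have hc : (u * h) * x * (u * h)⁻¹ * x⁻¹ ∈ K :=
      hX (mul_mem ((Subgroup.mem_normalizer_iff.1 hn' x).1 hx) (inv_mem hx))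
    obtain ⟨rfl, hh'⟩ := D.eq_of_commutator_mem (hX hx) hx1 hu hh hc
    exact mul_mem (Subgroup.mem_sup_left hk) (mul_mem (one_mem _) (Subgroup.mem_sup_right hh'))
  · exact (inf_le_right.trans (Subgroup.centralizer_le hX)).trans
      (Subgroup.centralizer_le_normalizer _)

theorem normalizer_inf_k : M ⊓ Subgroup.normalizer (K : Set G) = K ⊔ kStar M K :=
  D.normalizer_inf le_rfl D.ne_bot Subgroup.le_normalizer

theorem normalizer_inf_prime {X : Subgroup G} (hX : X ≤ K) (hXp : (Nat.card X).Prime) :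
    M ⊓ Subgroup.normalizer (X : Set G) = K ⊔ kStar M K :=
  D.normalizer_inf hX (fun h => hXp.ne_one (by rw [h, Subgroup.card_bot]))
    (D.normal_of_prime X hX hXp)

theorem inf_centralizer_le {k : G} (hk : k ∈ K) (hk1 : k ≠ 1) :
    M ⊓ Subgroup.centralizer ({k} : Set G) ≤ K ⊔ kStar M K := by
  obtain ⟨p, hp, -, x, hx, hxp⟩ := exists_prime_orderOf hk1
  have hle : Subgroup.centralizer ({k} : Set G) ≤
      Subgroup.normalizer (Subgroup.zpowers x : Set G) := by
    refine (centralizer_le_of_mem_zpowers hx).trans ?_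
    rw [← centralizer_zpowers_eq]
    exact Subgroup.centralizer_le_normalizer _
  rw [← D.normalizer_inf_prime (X := Subgroup.zpowers x)
    (Subgroup.zpowers_le.2 (Subgroup.zpowers_le.2 hk hx)) (by rw [card_zpowers' hxp]; exact hp)]
  exact inf_le_inf_left _ hle

/-- **BG 14.2 (b)**, second part. -/
theorem le_partner_sigmaCore (hU : Upstream G) {X : Subgroup G} (hX : X ≤ K)
    (hXp : (Nat.card X).Prime) {L : Subgroup G} (hL : IsCoatom L)
    (hNX : Subgroup.normalizer (X : Set G) ≤ L) :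
    Nat.card X ∈ Cfsg.sigma L ∧ X ≤ Cfsg.sigmaCore L := by
  have h := hU.bg13_13 M D.isCoatom _ (D.hall.2.1 _ hXp (Subgroup.card_dvd_of_le hX)) X
    (hX.trans D.hall.1) rfl L hL hNX
  exact ⟨h, hU.mem_sigmaCore_of_pi hL (Subgroup.le_normalizer.trans hNX)
    (isPiNum_of_card_prime hXp rfl h)⟩

end KData

end Cfsg.Agent.OddOrder14
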