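import Cfsg.Agent.Lib.OddOrder14.Kappa

/-!
# Bender-Glauberman 14.2 (c)-(f), 14.3, and the standard factorisations `M = K U M_σ`

* `KData.kstar_inf_conj`, `KData.k_inf_conj`, `KData.sylow_sigmaCore`, `KData.le_sigmaCore_of_meet`
* `Upstream.exists_common_sigma`, `Upstream.dichotomy` (14.3)
* `decomp_card`, `decomp_hall`, `decomp_normal`, `KData.hall_u_comm`, `Upstream.decomp_free`
-/

set_option autoImplicit false
set_option linter.unusedSectionVars false

open scoped Pointwise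

universe u

namespace Cfsg.Agent.OddOrder14

open Cfsg.Agent.Solvable

variable {G : Type u} [Group G] [Finite G]

theorem isMulCommutative_conj (m : G) (U : Subgroup G) [IsMulCommutative U] :
    IsMulCommutative ↥(MulAut.conj m • U) := by
  refine ⟨⟨fun a b => Subtype.ext ?_⟩⟩
  have ha := (mem_conj_iff m _ U).1 a.2
  have hb := (mem_conj_iff m _ U).1 b.2
  have h := setLike_mul_comm ha hb
  push_cast
  calc (a : G) * b = m * ((m⁻¹ * a * m) * (m⁻¹ * b * m)) * m⁻¹ := by group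
    _ = m * ((m⁻¹ * b * m) * (m⁻¹ * a * m)) * m⁻¹ := by rw [h]
    _ = _ := by group

namespace KData

variable {M K E U : Subgroup G} (D : KData M K E U)
include D

theorem exists_prime_subgroup :
    ∃ p ∈ Cfsg.kappa M, ∃ X : Subgroup G, X ≤ K ∧ Nat.card X = p := by
  obtain ⟨k, hk, hk1⟩ := K.bot_or_exists_ne_one.resolve_left D.ne_bot
  obtain ⟨p, hp, hpd, x, hx, hxp⟩ := exists_prime_orderOf hk1
  exact ⟨p, D.hall.2.1 p hp (dvd_card_of_mem hk hpd), Subgroup.zpowers x,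
    Subgroup.zpowers_le.2 (Subgroup.zpowers_le.2 hk hx), card_zpowers' hxp⟩

/-- BG 13.6 for a subgroup of prime order of `K*`. -/
theorem unique_of_le_kstar (hU : Upstream G) {X : Subgroup G} (hX : X ≤ kStar M K)
    (hXp : (Nat.card X).Prime) :
    (Subgroup.centralizer (X : Set G) ≤ M ∧
      ∀ L : Subgroup G, IsCoatom L → Subgroup.centralizer (X : Set G) ≤ L → L = M) ∧
    ∀ S : Sylow (Nat.card X) ↥(Cfsg.sigmaCore M),
      Cfsg.InUniqueMaximal ((S : Subgroup ↥(Cfsg.sigmaCore M)).map (Cfsg.sigmaCore M).subtype) := by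
  obtain ⟨p, hp, P, hP, hPc⟩ := D.exists_prime_subgroup
  exact hU.bg13_6 M D.isCoatom p hp P (hP.trans D.hall.1) hPc _ hXp X
    (hX.trans (inf_le_inf_left _ (Subgroup.centralizer_le hP))) rfl

theorem centralizer_kstar_le (hU : Upstream G) {y : G} (hy : y ∈ kStar M K) (hy1 : y ≠ 1) :
    Subgroup.centralizer ({y} : Set G) ≤ M := by
  obtain ⟨q, hq, -, z, hz, hzq⟩ := exists_prime_orderOf hy1
  refine (centralizer_le_of_mem_zpowers hz).trans ?_
  rw [← centralizer_zpowers_eq]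
  exact (D.unique_of_le_kstar hU (Subgroup.zpowers_le.2 (Subgroup.zpowers_le.2 hy hz))
    (by rw [card_zpowers' hzq]; exact hq)).1.1

/-- **BG 14.2 (d)**, first part. -/
theorem kstar_inf_conj (hU : Upstream G) {g : G} (hg : g ∉ M) :
    kStar M K ⊓ MulAut.conj g • M = ⊥ := by
  refine (Subgroup.eq_bot_iff_forall _).2 fun w hw => by_contra fun hw1 => hg ?_
  obtain ⟨q, hq, hqd, y, hy, hyq⟩ := exists_prime_orderOf hw1
  have hle := Subgroup.zpowers_le.2 (Subgroup.zpowers_le.2 hw.1 hy)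
  have := Fact.mk hq
  have hqσ : q ∈ Cfsg.sigma M :=
    mem_sigma_of_dvd_sigmaCore hq (dvd_card_of_mem hw.1.1 hqd)
  have hconj : MulAut.conj g⁻¹ • Subgroup.zpowers y ≤ M := by
    have h := conj_mono g⁻¹ (Subgroup.zpowers_le.2 (Subgroup.zpowers_le.2 hw.2 hy))
    rwa [conj_inv_smul] at h
  obtain ⟨m, hm, c, hc, hgc⟩ := (hU.s1404 M D.isCoatom q hqσ (Subgroup.zpowers y)
    (isPGroup_of_card_prime (card_zpowers' hyq)) (zpowers_ne_bot hq hyq)
    (hle.trans D.kstar_le)).1 g⁻¹ hconj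
  have hcM := (D.unique_of_le_kstar hU hle (by rw [card_zpowers' hyq]; exact hq)).1.1 hc
  simpa [← inv_mem_iff (x := g), hgc] using mul_mem hm hcM

theorem eq_of_prime_card (hU : Upstream G) {X Y : Subgroup G} (hX : X ≤ K) (hY : Y ≤ K)
    {p : ℕ} (hp : p.Prime) (hXc : Nat.card X = p) (hYc : Nat.card Y = p) : X = Y := by
  have := Fact.mk hp
  have hpk : p ∈ Cfsg.kappa M := D.hall.2.1 p hp (hXc ▸ Subgroup.card_dvd_of_le hX)
  have hle : Y ⊔ X ≤ M := sup_le (hY.trans D.hall.1) (hX.trans D.hall.1)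
  have hpg : IsPGroup p ↥(Y ⊔ X) :=
    (isPGroup_of_card_prime hYc).to_sup_of_normal_right' (isPGroup_of_card_prime hXc)
      (hY.trans (D.normal_of_prime X hX (hXc ▸ hp)))
  obtain ⟨S, hS⟩ := (hpg.comap_of_injective M.subtype M.subtype_injective).exists_le_sylow
  have hc : IsCyclic ↥((S : Subgroup M).map M.subtype) := by
    have := (hpk.2.2.2 S).1
    exact isCyclic_of_surjective _
      ((S : Subgroup M).equivMapOfInjective M.subtype M.subtype_injective).surjective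
  have hin : ∀ z ∈ Y ⊔ X, z ∈ (S : Subgroup M).map M.subtype := fun z hz =>
    ⟨⟨z, hle hz⟩, hS hz, rfl⟩
  obtain ⟨x, hx, hx1⟩ := exists_ne_one_of_card_prime (X := X) (hXc ▸ hp)
  obtain ⟨y, hy, hy1⟩ := exists_ne_one_of_card_prime (X := Y) (hYc ▸ hp)
  rw [← zpowers_eq_of_prime_card (hXc ▸ hp) hx hx1, ← zpowers_eq_of_prime_card (hYc ▸ hp) hy hy1]
  refine zpowers_eq_of_cyclic hc (hin x (Subgroup.mem_sup_right hx))
    (hin y (Subgroup.mem_sup_left hy)) ?_
  rw [orderOf_of_prime_card (hXc ▸ hp) hx hx1, orderOf_of_prime_card (hYc ▸ hp) hy hy1, hXc, hYc]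

/-- **BG 14.2 (d)**, second part. -/
theorem k_inf_conj (hU : Upstream G) {g : G} (hg : g ∈ M) (hgZ : g ∉ K ⊔ kStar M K) :
    K ⊓ MulAut.conj g • K = ⊥ := by
  refine (Subgroup.eq_bot_iff_forall _).2 fun w hw => by_contra fun hw1 => hgZ ?_
  obtain ⟨q, hq, hqd, y, hy, hyq⟩ := exists_prime_orderOf hw1
  have hle1 := Subgroup.zpowers_le.2 (Subgroup.zpowers_le.2 hw.1 hy)
  have hle2 : MulAut.conj g⁻¹ • Subgroup.zpowers y ≤ K := by
    have h := conj_mono g⁻¹ (Subgroup.zpowers_le.2 (Subgroup.zpowers_le.2 hw.2 hy))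
    rwa [conj_inv_smul] at h
  have heq := D.eq_of_prime_card hU hle2 hle1 hq (by rw [card_conj, card_zpowers' hyq])
    (card_zpowers' hyq)
  rw [← D.normalizer_inf_prime hle1 (by rw [card_zpowers' hyq]; exact hq)]
  exact Subgroup.mem_inf.2 ⟨hg, inv_mem_iff.1 (mem_normalizer_iff_conj.2 heq)⟩

/-- **BG 14.2 (e)**. -/
theorem sylow_sigmaCore (hU : Upstream G) {q : ℕ} (hq : q.Prime) (hd : q ∣ Nat.card (kStar M K))
    (S : Sylow q ↥(Cfsg.sigmaCore M)) :
    Cfsg.InUniqueMaximal ((S : Subgroup ↥(Cfsg.sigmaCore M)).map (Cfsg.sigmaCore M).subtype) ∧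
      (S : Subgroup ↥(Cfsg.sigmaCore M)).map (Cfsg.sigmaCore M).subtype ≤ M ∧
      ¬ (S : Subgroup ↥(Cfsg.sigmaCore M)).map (Cfsg.sigmaCore M).subtype ≤ kStar M K := by
  have := Fact.mk hq
  obtain ⟨x, hx⟩ := exists_prime_orderOf_dvd_card' (G := ↥(kStar M K)) q hd
  have hxc : Nat.card (Subgroup.zpowers (x : G)) = q := card_zpowers' (by rw [Subgroup.orderOf_coe, hx])
  have huniq := (D.unique_of_le_kstar hU (Subgroup.zpowers_le.2 x.2) (hxc ▸ hq)).2
  rw [hxc] at huniq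
  have hSM := (Subgroup.map_subtype_le (S : Subgroup ↥(Cfsg.sigmaCore M))).trans (sigmaCore_le M)
  refine ⟨huniq S, hSM, fun hle => ?_⟩
  obtain ⟨p, hp, P, hP, hPc⟩ := D.exists_prime_subgroup
  obtain ⟨L, hL, hNL⟩ := OddSigma.exists_coatom (OddSigma.normalizer_ne_top hU.hG (H := P)
    (fun h => hp.1.ne_one (by rw [← hPc, h, Subgroup.card_bot]))
    fun h => D.isCoatom.1 (top_le_iff.1 (h ▸ hP.trans D.hall.1)))
  obtain ⟨hσ, -⟩ := D.le_partner_sigmaCore hU hP (hPc ▸ hp.1) hL hNL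
  have hLM : L = M := (huniq S).unique
    ⟨hL, hle.trans (inf_le_right.trans ((Subgroup.centralizer_le hP).trans
      ((Subgroup.centralizer_le_normalizer _).trans hNL)))⟩ ⟨D.isCoatom, hSM⟩
  rw [hLM, hPc] at hσ
  exact hp.2.2.1 hσ

/-- **BG 14.2 (f)**. -/
theorem le_sigmaCore_of_meet (hU : Upstream G) {Y : Subgroup G}
    (hY : IsPiNum (Cfsg.sigma M) (Nat.card Y)) (hne : Y ⊓ kStar M K ≠ ⊥) :
    Y ≤ Cfsg.sigmaCore M := by
  obtain ⟨g, hg⟩ := hU.s1425 M D.isCoatom Y (fun h => hne (by rw [h, bot_inf_eq])) hY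
  obtain ⟨y, hy, hy1⟩ := (Y ⊓ kStar M K).bot_or_exists_ne_one.resolve_left hne
  rw [map_conj_eq] at hg
  have hgM : g⁻¹ ∈ M := by
    by_contra hgM
    refine hy1 (Subgroup.mem_bot.1 (D.kstar_inf_conj hU hgM ▸ Subgroup.mem_inf.2 ⟨hy.2, ?_⟩))
    rw [mem_conj_iff, inv_inv]
    refine sigmaCore_le M (hg ?_)
    rw [mem_conj_iff]
    simpa [mul_assoc] using hy.1
  have h := conj_mono g⁻¹ hg
  rwa [conj_inv_smul, conj_sigmaCore_eq hgM] at h

theorem hall_u_comm (hU : Upstream G) {V : Subgroup G}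
    (hV : Cfsg.IsPiHallOf (Cfsg.kappa M ∪ Cfsg.sigma M)ᶜ V M) : IsMulCommutative V := by
  obtain ⟨m, -, rfl⟩ := hallOf_conj (hU.solvable D.isCoatom) D.u_hall hV
  have := D.u_comm
  exact isMulCommutative_conj m U

end KData

theorem isElementaryAbelian_conj {p : ℕ} {A : Subgroup G} (hA : Cfsg.IsElementaryAbelian p A)
    (g : G) : Cfsg.IsElementaryAbelian p (MulAut.conj g • A) := by
  have := hA.1
  refine ⟨isMulCommutative_conj g A, fun a ha => ?_⟩
  have h := hA.2 _ ((mem_conj_iff g a A).1 ha)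
  rw [show a = g * (g⁻¹ * a * g) * g⁻¹ by group, conj_pow, h, mul_one, mul_inv_cancel]

/-- `p ∈ σ(L)` if `L` contains the normaliser of a Sylow `p`-subgroup of `G`. -/
theorem mem_sigma_of_normalizer_le {p : ℕ} [hp : Fact p.Prime] (hd : p ∣ Nat.card G) (S : Sylow p G)
    {L : Subgroup G} (hN : Subgroup.normalizer ((S : Subgroup G) : Set G) ≤ L) :
    p ∈ Cfsg.sigma L := by
  have hS : (S : Subgroup G) ≤ L := Subgroup.le_normalizer.trans hN
  have hpS : p ∣ Nat.card (S : Subgroup G) := by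
    have h := S.card_mul_index ▸ hd
    exact (hp.out.dvd_mul.1 h).resolve_right S.not_dvd_index
  refine ⟨hp.out, hpS.trans (Subgroup.card_dvd_of_le hS), S.subtype hS, ?_⟩
  show Subgroup.normalizer ((((S : Subgroup G).subgroupOf L).map L.subtype : Subgroup G) : Set G) ≤ L
  rwa [Subgroup.map_subgroupOf_eq_of_le hS]

namespace Upstream

variable (hU : Upstream G)
include hU

theorem exists_elementary_compl {M E : Subgroup G} (hM : IsCoatom M)
    (hE : Cfsg.IsComplIn E (Cfsg.sigmaCore M) M) {p : ℕ} (hp : p ∈ Cfsg.tau2 M) :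
    ∃ A : Subgroup G, A ≤ E ∧ Cfsg.IsElementaryAbelian p A ∧ Nat.card A = p ^ 2 := by
  have := Fact.mk hp.1
  obtain ⟨A₀, hA₀M, hA₀, hc⟩ := OddSigma.exists_elementary hp.2.2.2
  obtain ⟨j, hj⟩ := (Signalizer.isPGroup_of_elemAb hA₀).exists_card_eq
  rw [hj] at hc
  obtain ⟨B, hB⟩ := Sylow.exists_subgroup_card_pow_prime (G := A₀) p (n := 2)
    (hj ▸ pow_dvd_pow p ((Nat.pow_le_pow_iff_right hp.1.one_lt).1 hc))
  have hBc : Nat.card (B.map A₀.subtype) = p ^ 2 := by
    rw [Subgroup.card_map_of_injective A₀.subtype_injective, hB]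
  obtain ⟨m, hm, hle⟩ := exists_conj_le_compl hU hM hE
    ((Subgroup.map_subtype_le B).trans hA₀M)
    (hBc ▸ isPiNum_pow (π := (Cfsg.sigma M)ᶜ) hp.1 hp.2.1 2)
  refine ⟨MulAut.conj m⁻¹ • B.map A₀.subtype, ?_,
    isElementaryAbelian_conj (OddSigma.isElementary_mono hA₀ (Subgroup.map_subtype_le B)) _,
    by rw [card_conj, hBc]⟩
  have h := conj_mono m⁻¹ hle
  rwa [conj_inv_smul] at h

/-- Some maximal subgroup has a given set of `τ₂(M)`-primes among its `σ`-primes. -/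
theorem exists_common_sigma {M : Subgroup G} (hM : IsCoatom M) {p₀ : ℕ} (hp₀ : p₀ ∈ Cfsg.tau2 M) :
    ∃ L : Subgroup G, IsCoatom L ∧ ∀ p ∈ Cfsg.tau2 M, p ∈ Cfsg.sigma L := by
  obtain ⟨E, hE, -⟩ := hU.exists_compl_ge hM (U := ⊥) bot_le
    (by rw [Subgroup.card_bot]; exact isPiNum_one)
  have hdvd : ∀ p ∈ Cfsg.tau2 M, p ∣ Nat.card G := by
    intro p hp
    obtain ⟨A, -, -, hA⟩ := hU.exists_elementary_compl hM hE hp
    exact (dvd_pow_self p two_ne_zero).trans (hA ▸ Subgroup.card_subgroup_dvd_card A)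
  by_cases hna : ∃ p ∈ Cfsg.tau2 M, ∃ S : Sylow p G, ¬ IsMulCommutative (S : Subgroup G)
  · obtain ⟨p, hp, S, hS⟩ := hna
    have := Fact.mk hp.1
    have hS' : ∀ T : Sylow p G, ¬ IsMulCommutative (T : Subgroup G) := fun T hT => hS (by
      obtain ⟨g, hg⟩ := MulAction.exists_smul_eq G T S
      rw [← hg, Sylow.coe_subgroup_smul]
      exact isMulCommutative_conj g T)
    obtain ⟨A, hA⟩ := hU.exists_elementary_compl hM hE hp
    have hone := (hU.s1419 M hM E hE p hp hS' A hA).1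
    have hS1 : (S : Subgroup G) ≠ ⊥ := Sylow.ne_bot_of_dvd_card S (hdvd p hp)
    obtain ⟨L, hL, hNL⟩ := OddSigma.exists_coatom
      (OddSigma.normalizer_ne_top hU.hG hS1 (OddSigma.top_not_pGroup hU.hG S.isPGroup'))
    refine ⟨L, hL, fun q hq => ?_⟩
    rw [hone] at hq
    obtain rfl : q = p := hq
    exact mem_sigma_of_normalizer_le (hdvd q hp) S hNL
  · simp only [not_exists, not_and, not_not] at hna
    have := Fact.mk hp₀.1
    obtain ⟨A, hA⟩ := hU.exists_elementary_compl hM hE hp₀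
    have hAM := hA.1.trans hE.1
    have hA1 : A ≠ ⊥ := fun h => by
      have := hA.2.2
      rw [h, Subgroup.card_bot] at this
      exact (Nat.one_lt_pow two_ne_zero hp₀.1.one_lt).ne this
    obtain ⟨L, hL, hNL⟩ := OddSigma.exists_coatom
      (OddSigma.normalizer_ne_top hU.hG hA1 fun h => hM.1 (top_le_iff.1 (h ▸ hAM)))
    -- an abelian Sylow subgroup of `G` containing `A` lies in `M`
    have hp₀L : p₀ ∈ Cfsg.sigma L := by
      obtain ⟨S, hAS⟩ := (Signalizer.isPGroup_of_elemAb hA.2.1).exists_le_sylow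
      have := hna p₀ hp₀ S
      have hSC : (S : Subgroup G) ≤ Subgroup.centralizer (A : Set G) :=
        fun s hs a ha => setLike_mul_comm (hAS ha) hs
      have hSM := hSC.trans (hU.s1416 M hM p₀ A ⟨hAM, hA.2⟩).1
      have h := ((hU.s1417 M hM p₀ hp₀ A ⟨hAM, hA.2⟩).2.1 (S.subtype hSM)).2
      rw [show ((S.subtype hSM : Sylow p₀ M) : Subgroup M).map M.subtype = (S : Subgroup G) from
        Subgroup.map_subgroupOf_eq_of_le hSM] at h
      refine mem_sigma_of_normalizer_le (hdvd p₀ hp₀) S (le_trans (fun g hg => ?_) hNL)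
      refine Coprime.mem_normalizer_of_forall fun a ha => ?_
      refine ((h hAS).1 _ ((Subgroup.mem_normalizer_iff.1 hg a).1 (hAS ha))).1 ?_
      rw [conj_pow, hA.2.1.2 a ha, mul_one, mul_inv_cancel]
    refine ⟨L, hL, fun q hq => by_contra fun hqL => ?_⟩
    have hqp : q ≠ p₀ := fun h => hqL (h ▸ hp₀L)
    have := Fact.mk hq.1
    obtain ⟨B, hB⟩ := hU.exists_elementary_compl hM hE hq
    have hEA := (hU.s1418 M hM E hE p₀ hp₀ A hA).1.1
    have hEB := (hU.s1418 M hM E hE q hq B hB).1.1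
    have hBL : B ≤ L := (hB.1.trans hEA).trans hNL
    have hτ : q ∈ Cfsg.tau2 L := by
      refine ⟨hq.1, hqL, hU.prankLE_two hL hq.1 hqL, ?_⟩
      refine OddSigma.not_prankLE_of_le hBL hB.2.1 ?_
      rw [hB.2.2]
      exact Nat.pow_lt_pow_right hq.1.one_lt one_lt_two
    have hcop : (Nat.card B).Coprime (Nat.card A) := by
      rw [hA.2.2, hB.2.2]
      exact Nat.Coprime.pow _ _ ((Nat.coprime_primes hq.1 hp₀.1).2 hqp)
    have hAC : A ≤ Subgroup.centralizer (B : Set G) := fun a ha =>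
      Coprime.mem_centralizer_of_normalizer (hB.1.trans hEA) hcop ha (hEB (hA.1 ha))
    have hALσ : A ≤ Cfsg.sigmaCore L := hU.mem_sigmaCore_of_pi hL
      (Subgroup.le_normalizer.trans hNL) (hA.2.2 ▸ isPiNum_pow hp₀.1 hp₀L 2)
    have hbot := (hU.s1417 L hL q hτ B ⟨hBL, hB.2⟩).2.2.2.1
    exact hA1 (le_bot_iff.1 ((le_inf hALσ hAC).trans hbot.le))

/-- **BG 14.3**. -/
theorem dichotomy {M : Subgroup G} (hM : IsCoatom M) {x : G} (hx : x ∈ Cfsg.sigmaCore M)
    (hx1 : x ≠ 1) {x' : G} (hx' : x' ∈ M ⊓ Subgroup.centralizer ({x} : Set G)) (hx'1 : x' ≠ 1)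
    (hσ : ∀ p : ℕ, p.Prime → p ∣ orderOf x' → p ∉ Cfsg.sigma M) :
    ((∀ p : ℕ, p.Prime → p ∣ orderOf x' → p ∈ Cfsg.kappa M) ∧
        Subgroup.centralizer ({x} : Set G) ≤ M) ∨
      ((∀ p : ℕ, p.Prime → p ∣ orderOf x' → p ∈ Cfsg.tau2 M) ∧
        (∃ L : Subgroup G, IsCoatom L ∧ ∀ p : ℕ, p.Prime → p ∣ orderOf x' → p ∈ Cfsg.sigma L) ∧
        (Subgroup.centralizer ({x'} : Set G) ≤ M ∧
          ∀ L : Subgroup G, IsCoatom L → Subgroup.centralizer ({x'} : Set G) ≤ L → L = M)) := by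
  have hxc : x' * x = x * x' := Subgroup.mem_centralizer_singleton_iff.1 hx'.2
  -- a power of prime order centralises `x`
  have hpow : ∀ y ∈ Subgroup.zpowers x', Cfsg.sigmaCore M ⊓ Subgroup.centralizer ({y} : Set G) ≠ ⊥ := by
    intro y hy hbot
    have h : x ∈ Cfsg.sigmaCore M ⊓ Subgroup.centralizer ({y} : Set G) :=
      ⟨hx, centralizer_le_of_mem_zpowers hy (Subgroup.mem_centralizer_singleton_iff.2 hxc.symm)⟩
    rw [hbot, Subgroup.mem_bot] at h
    exact hx1 h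
  have hor : ∀ p : ℕ, p.Prime → p ∣ orderOf x' → p ∈ Cfsg.kappa M ∨ p ∈ Cfsg.tau2 M := by
    intro p hp hd
    obtain ⟨y, hy, hyp⟩ := exists_orderOf_eq hd
    have hyM : y ∈ M := Subgroup.zpowers_le.2 hx'.1 hy
    rcases hU.tau_cases hM hp (dvd_card_of_mem hx'.1 hd) (hσ p hp hd) with h | h | h
    · exact Or.inl (hU.mem_kappa_of_centralizes hM (Or.inl h) hyM hyp (hpow y hy))
    · exact Or.inr h
    · exact Or.inl (hU.mem_kappa_of_centralizes hM (Or.inr h) hyM hyp (hpow y hy))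
  by_cases hk : ∃ p, p.Prime ∧ p ∣ orderOf x' ∧ p ∈ Cfsg.kappa M
  · obtain ⟨p, hp, hpd, hpk⟩ := hk
    obtain ⟨y, hy, hyp⟩ := exists_orderOf_eq hpd
    have hyM : y ∈ M := Subgroup.zpowers_le.2 hx'.1 hy
    have hyx : x ∈ Subgroup.centralizer ({y} : Set G) :=
      centralizer_le_of_mem_zpowers hy (Subgroup.mem_centralizer_singleton_iff.2 hxc.symm)
    refine Or.inl ⟨fun q hq hqd => (hor q hq hqd).resolve_right fun hq2 => ?_, ?_⟩
    · -- no mixed elements
      have hπ : IsPiNum (Cfsg.sigma M)ᶜ (Nat.card (Subgroup.zpowers x')) :=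
        zpowers_sigma_pi hσ
      obtain ⟨E, hE, hle⟩ := hU.exists_compl_ge hM (Subgroup.zpowers_le.2 hx'.1) hπ
      have hyE : y ∈ E := hle hy
      obtain ⟨K, hKE, hyK⟩ := exists_hallOf_ge (π := Cfsg.kappa M)
        (haveI := hU.solvable hM; isSolvable_of_le hE.1) (Subgroup.zpowers_le.2 hyE)
        (isPiNum_of_card_prime hp (card_zpowers' hyp) hpk)
      have hKM : Cfsg.IsPiHallOf (Cfsg.kappa M) K M :=
        hallOf_trans hKE (compl_hall hU hM hE) fun r _ hr _ => hr.2.2.1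
      have hyK' : y ∈ K := hyK (Subgroup.mem_zpowers y)
      obtain ⟨V, D⟩ := exists_kData hU hM hKM
        (fun h => ne_one_of_orderOf hp hyp (Subgroup.mem_bot.1 (h ▸ hyK'))) hE hKE.1
      obtain ⟨z, hz, hzq⟩ := exists_orderOf_eq hqd
      have hq' : q ∈ (Cfsg.kappa M ∪ Cfsg.sigma M)ᶜ := by
        rintro (h | h)
        · exact hU.not_tau2_of_kappa h hq2
        · exact hq2.2.1 h
      have hzV : z ∈ V := by
        obtain ⟨m, hm, hle'⟩ := hallOf_conj_ge (haveI := hU.solvable hM; isSolvable_of_le hE.1)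
          (hallOf_sub D.u_hall D.u_le hE.1) (Subgroup.zpowers_le.2 (hle hz))
          (isPiNum_of_card_prime hq (card_zpowers' hzq) hq')
        rw [mem_normalizer_iff_conj.1 (D.u_normal hm)] at hle'
        exact hle' (Subgroup.mem_zpowers z)
      have : z ∈ V ⊓ Subgroup.centralizer ({y} : Set G) :=
        ⟨hzV, Subgroup.mem_centralizer_singleton_iff.2 (commute_of_mem_zpowers hz hy)⟩
      rw [D.u_free y hyK' (ne_one_of_orderOf hp hyp), Subgroup.mem_bot] at this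
      exact ne_one_of_orderOf hq hzq this
    · obtain ⟨q, hq, -, w, hw, hwq⟩ := exists_prime_orderOf hx1
      refine (centralizer_le_of_mem_zpowers hw).trans ?_
      rw [← centralizer_zpowers_eq]
      refine (hU.bg13_6 M hM p hpk (Subgroup.zpowers y) (Subgroup.zpowers_le.2 hyM)
        (card_zpowers' hyp) q hq (Subgroup.zpowers w) ?_ (card_zpowers' hwq)).1.1
      rw [Subgroup.zpowers_le, centralizer_zpowers_eq]
      exact ⟨Subgroup.zpowers_le.2 hx hw, Subgroup.zpowers_le.2 hyx hw⟩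
  · simp only [not_exists, not_and] at hk
    have hall : ∀ p : ℕ, p.Prime → p ∣ orderOf x' → p ∈ Cfsg.tau2 M :=
      fun p hp hd => (hor p hp hd).resolve_left (hk p hp hd)
    obtain ⟨p, hp, hpd, -⟩ := exists_prime_orderOf hx'1
    obtain ⟨L, hL, hLσ⟩ := hU.exists_common_sigma hM (hall p hp hpd)
    obtain ⟨E, hE, -⟩ := hU.exists_compl_ge hM (U := ⊥) bot_le
      (by rw [Subgroup.card_bot]; exact isPiNum_one)
    exact Or.inr ⟨hall, ⟨L, hL, fun q hq hd => hLσ q (hall q hq hd)⟩,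
      (hU.s1420 M hM E hE).2.2.2 x' hx'.1 hx'1 hall ⟨hx'.1, x, hx, hx1, hxc⟩⟩

end Upstream

section Decomposition

variable {M K U : Subgroup G}

theorem complIn_card {A B : Subgroup G} (h : Cfsg.IsComplIn A B M) :
    Nat.card A * Nat.card B = Nat.card M := by
  rw [← Nat.card_prod]
  refine Nat.card_congr (Equiv.ofBijective
    (fun p : A × B => (⟨(p.1 : G) * p.2, mul_mem (h.1 p.1.2) (h.2.1 p.2.2)⟩ : M)) ⟨?_, ?_⟩)
  · intro p q hpq
    exact Subgroup.mul_injective_of_disjoint (disjoint_iff.2 h.2.2.1) (congrArg Subtype.val hpq)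
  · rintro ⟨x, hx⟩
    obtain ⟨a, ha, b, hb, rfl⟩ := h.2.2.2 x hx
    exact ⟨(⟨a, ha⟩, ⟨b, hb⟩), rfl⟩

theorem decomp_card (h : Cfsg.IsSigmaDecomposition M K U) :
    Nat.card U * (Nat.card K * Nat.card (Cfsg.sigmaCore M)) = Nat.card M := by
  rw [← complIn_card h.compl, sup_comm, Coprime.card_sup_of_coprime
    (h.hall.1.trans (le_normalizer_sigmaCore M)), mul_comm (Nat.card K)]
  exact IsPiNum.coprime (π := Cfsg.sigma M) (isPiNum_sigmaCore M)
    fun p hp hd hσ => (h.hall.2.1 p hp hd).2.2.1 hσ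

theorem decomp_hall (hU : Upstream G) (hM : IsCoatom M) (h : Cfsg.IsSigmaDecomposition M K U) :
    Cfsg.IsPiHallOf (Cfsg.kappa M ∪ Cfsg.sigma M)ᶜ U M := by
  have hc := decomp_card h
  have hK := card_mul_relIndex h.hall.1
  have hH := card_mul_relIndex (sigmaCore_le M)
  have hU1 := card_mul_relIndex h.compl.1
  refine ⟨h.compl.1, fun p hp hd => ?_, fun p hp hp' hd => ?_⟩
  · rintro (hk | hσ)
    · refine h.hall.2.2 p hp hk (hd.trans ⟨Nat.card (Cfsg.sigmaCore M), ?_⟩)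
      exact Nat.eq_of_mul_eq_mul_left Nat.card_pos (hK.trans (by rw [← hc]; ring))
    · refine (hU.hall_sigmaCore hM).2.2 p hp hσ (hd.trans ⟨Nat.card K, ?_⟩)
      exact Nat.eq_of_mul_eq_mul_left Nat.card_pos (hH.trans (by rw [← hc]; ring))
  · rw [← hc] at hU1
    rw [Nat.eq_of_mul_eq_mul_left Nat.card_pos hU1] at hd
    rcases hp.dvd_mul.1 hd with hd' | hd'
    · exact hp' (Or.inl (h.hall.2.1 p hp hd'))
    · exact hp' (Or.inr (mem_sigma_of_dvd_sigmaCore hp hd'))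

theorem decomp_normal (h : Cfsg.IsSigmaDecomposition M K U) :
    M ≤ Subgroup.normalizer ((U ⊔ Cfsg.sigmaCore M : Subgroup G) : Set G) := by
  intro m hm
  obtain ⟨u, hu, v, hv, rfl⟩ := h.compl.2.2.2 m hm
  refine mul_mem (Subgroup.le_normalizer (Subgroup.mem_sup_left hu)) ?_
  have hK : K ≤ Subgroup.normalizer ((U ⊔ Cfsg.sigmaCore M : Subgroup G) : Set G) := by
    intro k hk
    rw [mem_normalizer_iff_conj, Subgroup.smul_sup,
      mem_normalizer_iff_conj.1 (h.normal hk), conj_sigmaCore_eq (h.hall.1 hk)]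
  exact sup_le hK (le_sup_right.trans Subgroup.le_normalizer) hv

theorem decomp_u_comm (hU : Upstream G) (hM : IsCoatom M) (h : Cfsg.IsSigmaDecomposition M K U)
    (hK1 : K ≠ ⊥) : IsMulCommutative U := by
  obtain ⟨E, V, D⟩ := hU.exists_kData_compl hM h.hall hK1
  exact D.hall_u_comm hU (decomp_hall hU hM h)

theorem decomp_free (hU : Upstream G) (hM : IsCoatom M) (h : Cfsg.IsSigmaDecomposition M K U) :
    ∀ k ∈ K, k ≠ 1 → U ⊓ Subgroup.centralizer ({k} : Set G) = ⊥ := by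
  intro k hk hk1
  obtain ⟨E, V, D⟩ := hU.exists_kData_compl hM h.hall
    (fun hb => hk1 (Subgroup.mem_bot.1 (hb ▸ hk)))
  have hUh := decomp_hall hU hM h
  refine le_bot_iff.1 ((le_inf inf_le_left
    ((inf_le_inf_right _ h.compl.1).trans (D.inf_centralizer_le hk hk1))).trans (le_of_eq ?_))
  refine inf_eq_bot_of_pi (π := (Cfsg.kappa M ∪ Cfsg.sigma M)ᶜ) hUh.2.1 ?_
  rw [compl_compl]
  refine fun p hp hd => ?_
  have hn : kStar M K ≤ Subgroup.normalizer (K : Set G) :=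
    inf_le_right.trans (Subgroup.centralizer_le_normalizer _)
  have hcop : (Nat.card K).Coprime (Nat.card (kStar M K)) :=
    D.coprime_k_sigmaCore.coprime_dvd_right (Subgroup.card_dvd_of_le inf_le_left)
  rw [Coprime.card_sup_of_coprime hn hcop] at hd
  rcases hp.dvd_mul.1 hd with h' | h'
  · exact Or.inl (h.hall.2.1 p hp h')
  · exact Or.inr (mem_sigma_of_dvd_sigmaCore hp (h'.trans (Subgroup.card_dvd_of_le inf_le_left)))

end Decomposition

end Cfsg.Agent.OddOrder14
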