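import Cfsg.Agent.Lib.OddOrder14.TwoClasses

/-!
# Bender-Glauberman 14.7: the main consequences

* `KData.exists_pair`, `KData.pair_of_hyps`, `KData.pair_unique`
* `KData.isCyclic_k`, `KData.kappa_eq_tau1`, `KData.commutator_le_uh`
* `Pair.*`: facts about the pair `(M, K)`, `(L, K*)`: intersection, cyclicity, Hall property,
  the count of `Z^`, and the two classes
-/

set_option autoImplicit false
set_option linter.unusedSectionVars false

open scoped Pointwise commutatorElement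

universe u

namespace Cfsg.Agent.OddOrder14

open Cfsg.Agent.Solvable

variable {G : Type u} [Group G] [Finite G]

theorem isCyclic_sup_of_coprime {A B : Subgroup G} (hA : IsCyclic A) (hB : IsCyclic B)
    (hc : ∀ a ∈ A, ∀ b ∈ B, Commute a b) (hcop : (Nat.card A).Coprime (Nat.card B)) :
    IsCyclic ↥(A ⊔ B) := by
  obtain ⟨a, ha⟩ := hA.exists_generator
  obtain ⟨b, hb⟩ := hB.exists_generator
  have h1 : orderOf (a : G) = Nat.card A := by
    rw [Subgroup.orderOf_coe]; exact orderOf_eq_card_of_forall_mem_zpowers ha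
  have h2 : orderOf (b : G) = Nat.card B := by
    rw [Subgroup.orderOf_coe]; exact orderOf_eq_card_of_forall_mem_zpowers hb
  have hco : (orderOf (a : G)).Coprime (orderOf (b : G)) := by rwa [h1, h2]
  have hab := hc a a.2 b b.2
  have hA' : A ≤ Subgroup.zpowers ((a : G) * b) := fun x hx => by
    obtain ⟨i, hi⟩ := Subgroup.mem_zpowers_iff.1 (ha ⟨x, hx⟩)
    have hi' : (a : G) ^ i = x := by simpa using congrArg Subtype.val hi
    exact hi' ▸ Subgroup.zpow_mem _ (mem_zpowers_mul_of_coprime hab hco) i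
  have hB' : B ≤ Subgroup.zpowers ((a : G) * b) := fun x hx => by
    obtain ⟨i, hi⟩ := Subgroup.mem_zpowers_iff.1 (hb ⟨x, hx⟩)
    have hi' : (b : G) ^ i = x := by simpa using congrArg Subtype.val hi
    rw [hab.eq]
    exact hi' ▸ Subgroup.zpow_mem _ (mem_zpowers_mul_of_coprime hab.symm hco.symm) i
  have heq : A ⊔ B = Subgroup.zpowers ((a : G) * b) :=
    le_antisymm (sup_le hA' hB') (Subgroup.zpowers_le.2 (Subgroup.mul_mem_sup a.2 b.2))
  rw [heq]
  infer_instance

/-- The partner data: `L` has Hall `κ`-subgroup `K*` and `K = C_{L_σ}(K*)`. -/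
structure Pair (M K L : Subgroup G) : Prop where
  left : ∃ E U, KData M K E U
  right : ∃ E₂ U₂, KData L (kStar M K) E₂ U₂
  star_star : kStar L (kStar M K) = K

namespace KData

variable {M K E U : Subgroup G} (D : KData M K E U)
include D

theorem exists_prime_partner (hU : Upstream G) :
    ∃ (p : ℕ) (X L : Subgroup G), X ≤ K ∧ Nat.card X = p ∧ p.Prime ∧ IsCoatom L ∧
      Subgroup.normalizer (X : Set G) ≤ L := by
  obtain ⟨p, hp, X, hX, hXc⟩ := D.exists_prime_subgroup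
  obtain ⟨L, hL, hNX⟩ := OddSigma.exists_coatom (OddSigma.normalizer_ne_top hU.hG (H := X)
    (fun h => hp.1.ne_one (by rw [← hXc, h, Subgroup.card_bot]))
    fun h => D.isCoatom.1 (top_le_iff.1 (h ▸ hX.trans D.hall.1)))
  exact ⟨p, X, L, hX, hXc, hp.1, hL, hNX⟩

theorem exists_pair (hU : Upstream G) : ∃ L, Pair M K L := by
  obtain ⟨p, X, L, hX, hXc, hp, hL, hNX⟩ := D.exists_prime_partner hU
  obtain ⟨E₂, U₂, D₂, h, -⟩ := D.partner_eq hU hX (hXc ▸ hp) hL hNX
  exact ⟨L, ⟨E, U, D⟩, ⟨E₂, U₂, D₂⟩, h⟩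

theorem pair_of_hyps (hU : Upstream G) {L : Subgroup G} (hL : IsCoatom L)
    (hKst : K = Cfsg.sigmaCore L ⊓ Subgroup.centralizer (kStar M K : Set G))
    (hKstH : Cfsg.IsPiHallOf (Cfsg.kappa L) (kStar M K) L) : Pair M K L := by
  obtain ⟨E₂, U₂, D₂⟩ := hU.exists_kData_compl hL hKstH (D.kstar_ne_bot hU)
  exact ⟨⟨E, U, D⟩, ⟨E₂, U₂, D₂⟩, hKst.symm⟩

end KData

namespace Pair

variable {M K L : Subgroup G} (P : Pair M K L)
include P

theorem inFam_right : InFam (K ⊔ kStar M K) L := by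
  obtain ⟨E₂, U₂, D₂⟩ := P.right
  exact ⟨_, E₂, U₂, D₂, by rw [P.star_star, sup_comm]⟩

theorem k_le_sigmaCore : K ≤ Cfsg.sigmaCore L := fun _ hx => (P.star_star.ge hx).1

theorem symm : Pair L (kStar M K) M := by
  obtain ⟨E, U, D⟩ := P.left
  refine ⟨P.right, ?_, ?_⟩
  · rw [P.star_star]; exact ⟨E, U, D⟩
  · rw [P.star_star]

theorem isCoatom_right : IsCoatom L := by
  obtain ⟨E₂, U₂, D₂⟩ := P.right
  exact D₂.isCoatom

theorem unique (hU : Upstream G) {L' : Subgroup G} (P' : Pair M K L') : L' = L := by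
  obtain ⟨E, U, D⟩ := P.left
  obtain ⟨k, hk, hk1⟩ := K.bot_or_exists_ne_one.resolve_left D.ne_bot
  obtain ⟨q, hq, hqd, -⟩ := exists_prime_orderOf hk1
  exact P.inFam_right.eq_of_sigma hU P'.inFam_right
    (orderOf_mem_sigmaCore (P.k_le_sigmaCore hk) q hq hqd)
    (orderOf_mem_sigmaCore (P'.k_le_sigmaCore hk) q hq hqd)

theorem sigma_disjoint (hU : Upstream G) {q : ℕ} (hq : q ∈ Cfsg.sigma M) : q ∉ Cfsg.sigma L := by
  obtain ⟨E, U, D⟩ := P.left
  intro hqL
  obtain ⟨k, hk, hk1⟩ := K.bot_or_exists_ne_one.resolve_left D.ne_bot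
  obtain ⟨p, hp, hpd, -⟩ := exists_prime_orderOf hk1
  have h := orderOf_mem_sigmaCore (P.k_le_sigmaCore hk) p hp hpd
  rw [hU.sigma_eq_of_inter D.isCoatom P.isCoatom_right hq hqL] at h
  exact (D.hall.2.1 p hp (dvd_card_of_mem hk hpd)).2.2.1 h

/-- One of the two has `U ≠ 1`, hence prime `|K|`. -/
theorem u_ne_bot (hU : Upstream G) {E U E₂ U₂ : Subgroup G} (D : KData M K E U)
    (D₂ : KData L (kStar M K) E₂ U₂) :
    (U ≠ ⊥ ∧ (Nat.card K).Prime) ∨ (U₂ ≠ ⊥ ∧ (Nat.card (kStar M K)).Prime) := by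
  obtain ⟨p, X, L', hX, hXc, hp, hL', hNX⟩ := D.exists_prime_partner hU
  obtain ⟨E₃, U₃, D₃, h, hcase⟩ := D.partner_eq hU hX (hXc ▸ hp) hL' hNX
  obtain rfl := P.unique hU ⟨⟨E, U, D⟩, ⟨E₃, U₃, D₃⟩, h⟩
  refine hcase.imp id fun ⟨h1, h2⟩ => ⟨fun hb => h1 (Subgroup.eq_bot_of_card_eq _ ?_), h2⟩
  rw [hallOf_card_eq (hU.solvable D₂.isCoatom) D₃.u_hall D₂.u_hall, hb, Subgroup.card_bot]

theorem isCyclic_k (hU : Upstream G) : IsCyclic K := by
  obtain ⟨E, U, D⟩ := P.left
  obtain ⟨E₂, U₂, D₂⟩ := P.right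
  rcases P.u_ne_bot hU D D₂ with ⟨-, hp⟩ | ⟨h, -⟩
  · have := Fact.mk hp
    exact isCyclic_of_prime_card (p := Nat.card K) rfl
  · have := (D₂.u_ne_bot_facts hU h).1
    have : Group.IsNilpotent K :=
      Group.nilpotent_of_mulEquiv (Subgroup.subgroupOfEquivOfLe P.k_le_sigmaCore)
    have : IsZGroup K := by
      rw [isZGroup_iff]
      intro p hp S
      have := Fact.mk hp
      by_cases hpd : p ∣ Nat.card K
      · have hle : (S : Subgroup K).map K.subtype ≤ M :=
          (Subgroup.map_subtype_le _).trans D.hall.1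
        obtain ⟨T, hT⟩ := ((S.isPGroup'.map K.subtype).comap_of_injective M.subtype
          M.subtype_injective).exists_le_sylow
        have := ((D.hall.2.1 p hp hpd).2.2.2 T).1
        have hc : IsCyclic ↥(((S : Subgroup K).map K.subtype).subgroupOf M) :=
          Subgroup.isCyclic_of_le hT
        have hc2 : IsCyclic ↥((S : Subgroup K).map K.subtype) :=
          isCyclic_of_surjective _ (Subgroup.subgroupOfEquivOfLe hle).surjective
        exact isCyclic_of_surjective _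
          ((S : Subgroup K).equivMapOfInjective K.subtype K.subtype_injective).symm.surjective
      · have h1 : Nat.card S = 1 := by
          rw [S.card_eq_multiplicity, Nat.factorization_eq_zero_of_not_dvd hpd, pow_zero]
        rw [Subgroup.card_eq_one.1 h1]
        infer_instance
    infer_instance

end Pair

namespace KData

variable {M K E U : Subgroup G} (D : KData M K E U)
include D

theorem isCyclic_k (hU : Upstream G) : IsCyclic K := by
  obtain ⟨L, P⟩ := D.exists_pair hU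
  exact P.isCyclic_k hU

theorem inf_centralizer_eq (hU : Upstream G) {k : G} (hk : k ∈ K) (hk1 : k ≠ 1) :
    M ⊓ Subgroup.centralizer ({k} : Set G) = K ⊔ kStar M K := by
  refine le_antisymm (D.inf_centralizer_le hk hk1) (le_inf D.z_le (sup_le ?_ ?_))
  · intro x hx
    have := (D.isCyclic_k hU).isMulCommutative
    exact Subgroup.mem_centralizer_singleton_iff.2 (setLike_mul_comm hx hk)
  · intro x hx
    exact Subgroup.mem_centralizer_singleton_iff.2 (D.commute_k_kstar hk hx).eq.symm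

theorem commutator_le_uh (hU : Upstream G) : ⁅M, M⁆ ≤ U ⊔ Cfsg.sigmaCore M := by
  set N := U ⊔ Cfsg.sigmaCore M with hNdef
  have hn : M ≤ Subgroup.normalizer (N : Set G) := by
    intro m hm
    obtain ⟨k, hk, u, hu, h, hh, rfl⟩ := D.mul_of_mem hm
    refine mul_mem ?_ (Subgroup.le_normalizer (Subgroup.mul_mem_sup hu hh))
    rw [mem_normalizer_iff_conj, hNdef, Subgroup.smul_sup,
      mem_normalizer_iff_conj.1 (D.k_normalizes_u hk), conj_sigmaCore_eq (D.hall.1 hk)]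
  have : (N.subgroupOf M).Normal := Subgroup.normal_subgroupOf_of_le_normalizer hn
  let f := QuotientGroup.mk' (N.subgroupOf M)
  refine Subgroup.commutator_le.2 fun a ha b hb => ?_
  have hker : ∀ {m : G} (hm : m ∈ M), ∃ k : G, ∃ hk : k ∈ K,
      f ⟨m, hm⟩ = f ⟨k, D.hall.1 hk⟩ := by
    intro m hm
    obtain ⟨k, hk, u, hu, h, hh, he⟩ := D.mul_of_mem hm
    refine ⟨k, hk, ((QuotientGroup.eq (s := N.subgroupOf M)).2 ?_).symm⟩
    show k⁻¹ * m ∈ N
    rw [he, inv_mul_cancel_left]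
    exact Subgroup.mul_mem_sup hu hh
  obtain ⟨k₁, hk₁, e₁⟩ := hker ha
  obtain ⟨k₂, hk₂, e₂⟩ := hker hb
  have := (D.isCyclic_k hU).isMulCommutative
  have h1 : f ⁅(⟨a, ha⟩ : M), (⟨b, hb⟩ : M)⁆ = 1 := by
    rw [map_commutatorElement, e₁, e₂, ← map_commutatorElement]
    have : ⁅(⟨k₁, D.hall.1 hk₁⟩ : M), (⟨k₂, D.hall.1 hk₂⟩ : M)⁆ = (1 : M) :=
      commutatorElement_eq_one_iff_mul_comm.2 (Subtype.ext (setLike_mul_comm hk₁ hk₂))
    rw [this, map_one]
  exact Subgroup.mem_subgroupOf.1 ((QuotientGroup.eq_one_iff (N := N.subgroupOf M) _).1 h1)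

/-- `κ(M) = τ₁(M)`. -/
theorem kappa_eq_tau1 (hU : Upstream G) : Cfsg.kappa M = Cfsg.tau1 M := by
  rcases D.cases with ⟨-, h1, h2⟩ | ⟨hbot, p, hp, hp3⟩
  · exact Set.Subset.antisymm h1 h2
  · exfalso
    have h := D.commutator_le_uh hU
    rw [hbot, bot_sup_eq] at h
    exact hp3.2.1 (mem_sigma_of_dvd_sigmaCore hp3.1 (hp3.2.2.1.trans (Subgroup.card_dvd_of_le h)))

end KData

namespace Pair

variable {M K L : Subgroup G} (P : Pair M K L)
include P

/-- A member of `M_σ ∩ L` lies in `K*`. -/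
theorem sigmaCore_inf_le (hU : Upstream G) : Cfsg.sigmaCore M ⊓ L ≤ kStar M K := by
  obtain ⟨E, U, D⟩ := P.left
  refine le_inf inf_le_left fun y hy k hk => ?_
  have h1 : k * y * k⁻¹ * y⁻¹ ∈ Cfsg.sigmaCore M ⊓ Cfsg.sigmaCore L := by
    refine Subgroup.mem_inf.2 ⟨mul_mem (conj_mem_sigmaCore (D.hall.1 hk) hy.1) (inv_mem hy.1), ?_⟩
    rw [show k * y * k⁻¹ * y⁻¹ = k * (y * k⁻¹ * y⁻¹) by group]
    exact mul_mem (P.k_le_sigmaCore hk) (conj_mem_sigmaCore hy.2 (inv_mem (P.k_le_sigmaCore hk)))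
  rw [inf_eq_bot_of_pi (π := Cfsg.sigma M) (isPiNum_sigmaCore M)
    (fun p hp hd hσ => P.sigma_disjoint hU hσ (mem_sigma_of_dvd_sigmaCore hp hd)),
    Subgroup.mem_bot, mul_inv_eq_one, mul_inv_eq_iff_eq_mul] at h1
  exact h1

theorem inf_eq (hU : Upstream G) : M ⊓ L = K ⊔ kStar M K := by
  obtain ⟨E, U, D⟩ := P.left
  obtain ⟨E₂, U₂, D₂⟩ := P.right
  refine le_antisymm (fun m hm => ?_) (le_inf D.z_le ?_)
  · have hK : M ⊓ Subgroup.normalizer (K : Set G) = K ⊔ kStar M K := D.normalizer_inf_k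
    rw [← hK]
    refine Subgroup.mem_inf.2 ⟨hm.1, Coprime.mem_normalizer_of_forall fun k hk => ?_⟩
    have h : m * k * m⁻¹ ∈ Cfsg.sigmaCore L ⊓ M :=
      Subgroup.mem_inf.2 ⟨conj_mem_sigmaCore hm.2 (P.k_le_sigmaCore hk),
        mul_mem (mul_mem hm.1 (D.hall.1 hk)) (inv_mem hm.1)⟩
    have := P.symm.sigmaCore_inf_le hU h
    rwa [P.star_star] at this
  · have h := D₂.z_le
    rwa [P.star_star, sup_comm] at h

theorem isCyclic_z (hU : Upstream G) : IsCyclic ↥(K ⊔ kStar M K) := by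
  obtain ⟨E, U, D⟩ := P.left
  exact isCyclic_sup_of_coprime (P.isCyclic_k hU) (P.symm.isCyclic_k hU)
    (fun a ha b hb => D.commute_k_kstar ha hb) D.coprime_k_kstar

/-- `K*` is a Hall `σ(M)`-subgroup of `L`. -/
theorem hall_kstar (hU : Upstream G) : Cfsg.IsPiHallOf (Cfsg.sigma M) (kStar M K) L := by
  obtain ⟨E, U, D⟩ := P.left
  obtain ⟨E₂, U₂, D₂⟩ := P.right
  refine ⟨D₂.hall.1, (isPiNum_sigmaCore M).of_dvd (Subgroup.card_dvd_of_le inf_le_left),
    fun r hr hrM hd => ?_⟩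
  have hrU : r ∣ Nat.card U₂ := by
    have h1 := card_mul_relIndex D₂.hall.1
    rw [← OddOrder14.compl_card D₂.compl, D₂.card_compl] at h1
    have h2 : (kStar M K).relIndex L = Nat.card U₂ * Nat.card (Cfsg.sigmaCore L) :=
      Nat.eq_of_mul_eq_mul_left Nat.card_pos (h1.trans (by ring))
    rw [h2] at hd
    exact (hr.dvd_mul.1 hd).resolve_right
      fun h => P.sigma_disjoint hU hrM (mem_sigma_of_dvd_sigmaCore hr h)
  have := hU.solvable D₂.isCoatom
  obtain ⟨R, hR⟩ := exists_hallOf (π := {r}) (isSolvable_of_le (D₂.u_hall.1))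
  have hRr : R ≠ ⊥ := by
    intro h
    refine hR.2.2 r hr rfl ?_
    rw [h, Subgroup.relIndex_bot_left]
    exact hrU
  have hRn : kStar M K ≤ Subgroup.normalizer (R : Set G) := by
    intro k hk
    rw [mem_normalizer_iff_conj]
    have hkU := mem_normalizer_iff_conj.1 (D₂.k_normalizes_u hk)
    have hle : MulAut.conj k • R ≤ U₂ := by
      have := conj_mono k hR.1
      rwa [hkU] at this
    obtain ⟨u, hu, he⟩ := hallOf_conj (isSolvable_of_le (D₂.u_hall.1)) hR
      (hallOf_of_card hR hle (card_conj k R))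
    rw [← he, ← mem_normalizer_iff_conj]
    have := D₂.u_comm
    refine Coprime.mem_normalizer_of_forall fun x hx => ?_
    rwa [setLike_mul_comm hu (hR.1 hx), mul_inv_cancel_right]
  have hcop : (Nat.card (kStar M K)).Coprime (Nat.card R) :=
    D₂.coprime_k_u.coprime_dvd_right (Subgroup.card_dvd_of_le hR.1)
  have hY : IsPiNum (Cfsg.sigma M) (Nat.card ↥(R ⊔ kStar M K)) := by
    rw [Coprime.card_sup_of_coprime hRn hcop.symm]
    refine IsPiNum.mul (fun p hp hd => ?_)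
      ((isPiNum_sigmaCore M).of_dvd (Subgroup.card_dvd_of_le inf_le_left))
    have : p = r := hR.2.1 p hp hd
    exact this ▸ hrM
  have hle := D.le_sigmaCore_of_meet hU hY (by
    rw [inf_of_le_right le_sup_right]; exact D.kstar_ne_bot hU)
  refine hRr (le_bot_iff.1 ?_)
  rw [← Coprime.inf_eq_bot hcop]
  exact le_inf ((le_inf (le_sup_left.trans hle) (hR.1.trans D₂.u_hall.1)).trans
    (P.sigmaCore_inf_le hU)) le_rfl

theorem lt_two_mul_conjugates (hU : Upstream G) :
    Nat.card G < 2 * Set.ncard (conjugatesOfSet (hat M K)) := by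
  obtain ⟨E, U, D⟩ := P.left
  have h1 := D.ncard_hat
  have h2 := D.ncard_hat_conjugates hU
  have hkodd := hU.odd_card K
  have hcodd := hU.odd_card (kStar M K)
  have hk1 : Nat.card K ≠ 1 := mt Subgroup.card_eq_one.1 D.ne_bot
  have hc1 : Nat.card (kStar M K) ≠ 1 := mt Subgroup.card_eq_one.1 (D.kstar_ne_bot hU)
  have hne : Nat.card K ≠ Nat.card (kStar M K) := fun h => hk1 (by
    have := D.coprime_k_kstar
    rw [← h] at this
    exact (Nat.coprime_self _).1 this)
  set k := Nat.card K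
  set c := Nat.card (kStar M K)
  set t := Set.ncard (hat M K)
  have hk3 : 3 ≤ k := by obtain ⟨j, hj⟩ := hkodd; omega
  have hc3 : 3 ≤ c := by obtain ⟨j, hj⟩ := hcodd; omega
  have hbig : k * c < 2 * t := by
    have : 5 ≤ k ∨ 5 ≤ c := by
      obtain ⟨i, hi⟩ := hkodd
      obtain ⟨j, hj⟩ := hcodd
      omega
    rcases this with h | h <;> nlinarith
  have hG : 0 < Nat.card G := Nat.card_pos
  refine Nat.lt_of_mul_lt_mul_left (a := k * c) ?_
  calc k * c * Nat.card G < 2 * t * Nat.card G := Nat.mul_lt_mul_of_pos_right hbig hG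
    _ = 2 * (k * c * Set.ncard (conjugatesOfSet (hat M K))) := by rw [h2]; ring
    _ = _ := by ring

/-- **BG 14.7**: two classes. -/
theorem two_classes (hU : Upstream G) {H : Subgroup G} (hH : IsCoatom H)
    (hκ : (Cfsg.kappa H).Nonempty) :
    ∃ g : G, H = MulAut.conj g • M ∨ H = MulAut.conj g • L := by
  obtain ⟨E, U, D⟩ := P.left
  obtain ⟨K', hK'⟩ := exists_hallOf (hU.solvable hH) (Cfsg.kappa H)
  have hK'1 : K' ≠ ⊥ := by
    obtain ⟨p, hp⟩ := hκ
    intro h
    refine hK'.2.2 p hp.1 hp ?_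
    rw [h, Subgroup.relIndex_bot_left]
    exact hp.2.1
  obtain ⟨E', U', D'⟩ := hU.exists_kData_compl hH hK' hK'1
  obtain ⟨L', P'⟩ := D'.exists_pair hU
  have h1 := P.lt_two_mul_conjugates hU
  have h2 := P'.lt_two_mul_conjugates hU
  obtain ⟨w, hw, hw'⟩ : (conjugatesOfSet (hat M K) ∩ conjugatesOfSet (hat H K')).Nonempty := by
    rw [Set.nonempty_iff_ne_empty]
    intro he
    have h3 := Set.ncard_union_add_ncard_inter (conjugatesOfSet (hat M K))
      (conjugatesOfSet (hat H K'))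
    rw [he, Set.ncard_empty] at h3
    have h4 := Set.ncard_le_card (conjugatesOfSet (hat M K) ∪ conjugatesOfSet (hat H K'))
    omega
  obtain ⟨a, z, hz, rfl⟩ := hw
  obtain ⟨b, z', hz', he⟩ := hw'
  obtain ⟨k, hk, h, hh, -, -, rfl⟩ := D.mem_hat_iff.1 hz
  obtain ⟨k', hk', h', hh', -, hh'1, rfl⟩ := D'.mem_hat_iff.1 hz'
  have hord : orderOf (k * h) = orderOf (k' * h') := by
    have := congrArg orderOf he
    rwa [orderOf_conj_eq, orderOf_conj_eq] at this
  obtain ⟨p, hp, hpd, -⟩ := exists_prime_orderOf hh'1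
  have hpH := orderOf_mem_sigmaCore hh'.1 p hp hpd
  have hpz : p ∣ orderOf (k * h) :=
    hord ▸ hpd.trans (orderOf_dvd_of_mem_zpowers (D'.h_mem_zpowers hk' hh'))
  rcases hp.dvd_mul.1 (hpz.trans (D.commute_k_kstar hk hh).orderOf_mul_dvd_mul_orderOf) with h'' | h''
  · obtain ⟨g, hg⟩ := hU.conj_of_sigma P.isCoatom_right hH
      (orderOf_mem_sigmaCore (P.k_le_sigmaCore hk) p hp h'') hpH
    exact ⟨g, Or.inr hg⟩
  · obtain ⟨g, hg⟩ := hU.conj_of_sigma D.isCoatom hH (orderOf_mem_sigmaCore hh.1 p hp h'') hpH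
    exact ⟨g, Or.inl hg⟩

end Pair

end Cfsg.Agent.OddOrder14
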