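import Cfsg.Agent.Lib.OddOrder14.Kappa2

/-!
# Bender-Glauberman 14.7, first part: partners and the set `Z^ = Z ∖ (K ∪ K*)`

* `conjugatesOf`, `ncard_conjugatesOf`: counting the conjugates of a TI-subset
* `KData.card_z`, `KData.mem_kstar_of_sigma`, `KData.mem_k_of_kappa`
* `KData.hat_conj`, `KData.hat_normalizer`
* `KData.partner`, `InFam`, `KData.exists_fam_of_prime`, `InFam.eq_of_sigma`
-/

set_option autoImplicit false
set_option linter.unusedSectionVars false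

open scoped Pointwise

universe u

namespace Cfsg.Agent.OddOrder14

open Cfsg.Agent.Solvable

variable {G : Type u} [Group G] [Finite G]

section General

theorem smul_centralizer (g : G) (H : Subgroup G) :
    MulAut.conj g • Subgroup.centralizer (H : Set G) =
      Subgroup.centralizer ((MulAut.conj g • H : Subgroup G) : Set G) := by
  ext x
  rw [mem_conj_iff, Subgroup.mem_centralizer_iff, Subgroup.mem_centralizer_iff]
  constructor
  · intro h y hy
    have := h _ ((mem_conj_iff g y H).1 hy)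
    calc y * x = g * ((g⁻¹ * y * g) * (g⁻¹ * x * g)) * g⁻¹ := by group
      _ = g * ((g⁻¹ * x * g) * (g⁻¹ * y * g)) * g⁻¹ := by rw [this]
      _ = x * y := by group
  · intro h y hy
    have := h (g * y * g⁻¹) (Coprime.conj_mem_conj.2 hy)
    calc y * (g⁻¹ * x * g) = g⁻¹ * ((g * y * g⁻¹) * x) * g := by group
      _ = g⁻¹ * (x * (g * y * g⁻¹)) * g := by rw [this]
      _ = _ := by group

theorem mem_zpowers_mul_of_coprime {a b : G} (h : Commute a b)
    (hc : (orderOf a).Coprime (orderOf b)) : a ∈ Subgroup.zpowers (a * b) := by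
  obtain ⟨k, hk⟩ := exists_pow_eq_self_of_coprime hc.symm
  have h' : (a ^ orderOf b) ^ k ∈ Subgroup.zpowers (a * b) := by
    rw [show a ^ orderOf b = (a * b) ^ orderOf b by
      rw [h.mul_pow, pow_orderOf_eq_one, mul_one]]
    exact Subgroup.pow_mem _ (Subgroup.pow_mem _ (Subgroup.mem_zpowers _) _) _
  rwa [hk] at h'

theorem orderOf_conj_eq (g x : G) : orderOf (g * x * g⁻¹) = orderOf x := by
  simpa using orderOf_injective (MulAut.conj g).toMonoidHom (MulAut.conj g).injective x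

theorem conj_zpow_mem {g x y : G} (hy : y ∈ Subgroup.zpowers x) {H : Subgroup G}
    (h : g * x * g⁻¹ ∈ H) : g * y * g⁻¹ ∈ H := by
  obtain ⟨i, rfl⟩ := Subgroup.mem_zpowers_iff.1 hy
  rw [← conj_zpow]
  exact H.zpow_mem h i

/-- All conjugates of the elements of `S`. -/
def conjugatesOfSet (S : Set G) : Set G := {a | ∃ g : G, ∃ z ∈ S, a = g * z * g⁻¹}

/-- The number of conjugates of a TI-subset `S ⊆ Z` with normaliser `Z`. -/
theorem ncard_conjugatesOf {S : Set G} {Z : Subgroup G}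
    (hnorm : ∀ g ∈ Z, ∀ z ∈ S, g * z * g⁻¹ ∈ S)
    (hTI : ∀ z ∈ S, ∀ g : G, g * z * g⁻¹ ∈ S → g ∈ Z) :
    Nat.card Z * Set.ncard (conjugatesOfSet S) = Set.ncard S * Nat.card G := by
  classical
  let f : (G ⧸ Z) × S → conjugatesOfSet S := fun p =>
    ⟨p.1.out * p.2 * p.1.out⁻¹, p.1.out, p.2, p.2.2, rfl⟩
  have hbij : Function.Bijective f := by
    constructor
    · intro p p' e
      have e' : p.1.out * (p.2 : G) * p.1.out⁻¹ = p'.1.out * p'.2 * p'.1.out⁻¹ :=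
        congrArg Subtype.val e
      have h : (p'.1.out⁻¹ * p.1.out) * (p.2 : G) * (p'.1.out⁻¹ * p.1.out)⁻¹ = p'.2 := by
        calc _ = p'.1.out⁻¹ * (p.1.out * p.2 * p.1.out⁻¹) * p'.1.out := by group
          _ = _ := by rw [e']; group
      have hq : p.1 = p'.1 := by
        rw [← p.1.out_eq', ← p'.1.out_eq']
        refine (QuotientGroup.eq.2 ?_).symm
        exact hTI _ p.2.2 _ (by rw [h]; exact p'.2.2)
      refine Prod.ext hq (Subtype.ext ?_)
      rw [hq] at e'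
      exact mul_left_cancel (mul_right_cancel e')
    · rintro ⟨a, g, z, hz, rfl⟩
      obtain ⟨m, hm⟩ := QuotientGroup.mk_out_eq_mul Z g
      refine ⟨(QuotientGroup.mk g, ⟨(m : G)⁻¹ * z * m, ?_⟩), Subtype.ext ?_⟩
      · simpa using hnorm _ (inv_mem m.2) z hz
      · show (QuotientGroup.mk g : G ⧸ Z).out * ((m : G)⁻¹ * z * m) *
          (QuotientGroup.mk g : G ⧸ Z).out⁻¹ = g * z * g⁻¹
        rw [hm]; group
  rw [← Nat.card_coe_set_eq, ← Nat.card_congr (Equiv.ofBijective f hbij), Nat.card_prod,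
    ← Nat.card_coe_set_eq, ← Subgroup.index_eq_card, ← mul_assoc, Subgroup.card_mul_index,
    mul_comm]

theorem normalizer_le_of_unique {M : Subgroup G} (hU : Upstream G) (hM : IsCoatom M)
    {X : Subgroup G} (h : Subgroup.centralizer (X : Set G) ≤ M)
    (hu : ∀ L : Subgroup G, IsCoatom L → Subgroup.centralizer (X : Set G) ≤ L → L = M) :
    Subgroup.normalizer (X : Set G) ≤ M := by
  intro g hg
  refine hU.conj_ne hM (hu _ (OddSigma.isCoatom_conj hM g) ?_)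
  have := conj_mono g h
  rwa [smul_centralizer, mem_normalizer_iff_conj.1 hg] at this

end General

/-- `Z^ = K K* ∖ (K ∪ K*)`. -/
abbrev hat (M K : Subgroup G) : Set G :=
  (↑(K ⊔ kStar M K) : Set G) \ ((K : Set G) ∪ ↑(kStar M K))

namespace KData

variable {M K E U : Subgroup G} (D : KData M K E U)
include D

theorem coprime_k_kstar : (Nat.card K).Coprime (Nat.card (kStar M K)) :=
  D.coprime_k_sigmaCore.coprime_dvd_right (Subgroup.card_dvd_of_le inf_le_left)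

theorem kstar_normalizes_k : kStar M K ≤ Subgroup.normalizer (K : Set G) :=
  inf_le_right.trans (Subgroup.centralizer_le_normalizer _)

theorem card_z : Nat.card ↥(K ⊔ kStar M K) = Nat.card K * Nat.card (kStar M K) :=
  Coprime.card_sup_of_coprime D.kstar_normalizes_k D.coprime_k_kstar

theorem commute_k_kstar {k h : G} (hk : k ∈ K) (hh : h ∈ kStar M K) : Commute k h :=
  hh.2 k hk

theorem z_decomp {z : G} (hz : z ∈ K ⊔ kStar M K) :
    ∃ k ∈ K, ∃ h ∈ kStar M K, z = k * h := by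
  obtain ⟨k, hk, h, hh, e⟩ := (Coprime.mem_sup_iff D.kstar_normalizes_k).1 hz
  exact ⟨k, hk, h, hh, e.symm⟩

theorem z_le : K ⊔ kStar M K ≤ M := sup_le D.hall.1 D.kstar_le

theorem coprime_orders {k h : G} (hk : k ∈ K) (hh : h ∈ kStar M K) :
    (orderOf k).Coprime (orderOf h) :=
  Nat.Coprime.coprime_dvd_left (Subgroup.orderOf_dvd_natCard K hk)
    (D.coprime_k_kstar.coprime_dvd_right (Subgroup.orderOf_dvd_natCard _ hh))

theorem k_mem_zpowers {k h : G} (hk : k ∈ K) (hh : h ∈ kStar M K) :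
    k ∈ Subgroup.zpowers (k * h) :=
  mem_zpowers_mul_of_coprime (D.commute_k_kstar hk hh) (D.coprime_orders hk hh)

theorem h_mem_zpowers {k h : G} (hk : k ∈ K) (hh : h ∈ kStar M K) :
    h ∈ Subgroup.zpowers (k * h) := by
  rw [(D.commute_k_kstar hk hh).eq]
  exact mem_zpowers_mul_of_coprime (D.commute_k_kstar hk hh).symm (D.coprime_orders hk hh).symm

theorem mem_kstar_of_sigma {z : G} (hz : z ∈ K ⊔ kStar M K)
    (hπ : IsPiNum (Cfsg.sigma M) (orderOf z)) : z ∈ kStar M K := by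
  obtain ⟨k, hk, h, hh, rfl⟩ := D.z_decomp hz
  have hk1 : k = 1 := eq_one_of_isPiNum (π := Cfsg.sigma M)
    (hπ.of_dvd (orderOf_dvd_of_mem_zpowers (D.k_mem_zpowers hk hh)))
    fun p hp hd hσ => (D.hall.2.1 p hp (dvd_card_of_mem hk hd)).2.2.1 hσ
  rwa [hk1, one_mul]

theorem mem_k_of_kappa {z : G} (hz : z ∈ K ⊔ kStar M K)
    (hπ : IsPiNum (Cfsg.kappa M) (orderOf z)) : z ∈ K := by
  obtain ⟨k, hk, h, hh, rfl⟩ := D.z_decomp hz
  have hh1 : h = 1 := eq_one_of_isPiNum (π := Cfsg.kappa M)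
    (hπ.of_dvd (orderOf_dvd_of_mem_zpowers (D.h_mem_zpowers hk hh)))
    fun p hp hd hk' => hk'.2.2.1 (orderOf_mem_sigmaCore hh.1 p hp hd)
  rwa [hh1, mul_one]

theorem mem_hat_iff {z : G} :
    z ∈ hat M K ↔ ∃ k ∈ K, ∃ h ∈ kStar M K, k ≠ 1 ∧ h ≠ 1 ∧ z = k * h := by
  have hb : K ⊓ kStar M K = ⊥ := Coprime.inf_eq_bot D.coprime_k_kstar
  constructor
  · rintro ⟨hz, hn⟩
    obtain ⟨k, hk, h, hh, rfl⟩ := D.z_decomp hz
    refine ⟨k, hk, h, hh, ?_, ?_, rfl⟩
    · rintro rfl; exact hn (Or.inr (by simpa using hh))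
    · rintro rfl; exact hn (Or.inl (by simpa using hk))
  · rintro ⟨k, hk, h, hh, hk1, hh1, rfl⟩
    refine ⟨Subgroup.mul_mem_sup hk hh, ?_⟩
    rintro (hm | hm)
    · have : h ∈ K ⊓ kStar M K := Subgroup.mem_inf.2 ⟨by simpa using K.mul_mem (K.inv_mem hk) hm, hh⟩
      rw [hb, Subgroup.mem_bot] at this
      exact hh1 this
    · have : k ∈ K ⊓ kStar M K := Subgroup.mem_inf.2
        ⟨hk, by simpa using (kStar M K).mul_mem hm ((kStar M K).inv_mem hh)⟩
      rw [hb, Subgroup.mem_bot] at this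
      exact hk1 this

theorem hat_nonempty (hU : Upstream G) : (hat M K).Nonempty := by
  obtain ⟨k, hk, hk1⟩ := K.bot_or_exists_ne_one.resolve_left D.ne_bot
  obtain ⟨h, hh, hh1⟩ := (kStar M K).bot_or_exists_ne_one.resolve_left (D.kstar_ne_bot hU)
  exact ⟨k * h, D.mem_hat_iff.2 ⟨k, hk, h, hh, hk1, hh1, rfl⟩⟩

/-- An element conjugating an element of `Z^` into `Z` lies in `Z`. -/
theorem hat_conj (hU : Upstream G) {z g : G} (hz : z ∈ hat M K)
    (hg : g * z * g⁻¹ ∈ K ⊔ kStar M K) : g ∈ K ⊔ kStar M K := by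
  obtain ⟨k, hk, h, hh, hk1, hh1, rfl⟩ := D.mem_hat_iff.1 hz
  have hh' : g * h * g⁻¹ ∈ kStar M K :=
    D.mem_kstar_of_sigma (conj_zpow_mem (D.h_mem_zpowers hk hh) hg)
      (by rw [orderOf_conj_eq]; exact orderOf_mem_sigmaCore hh.1)
  have hgM : g ∈ M := by
    by_contra hgM
    refine hh1 (conj_eq_one_iff.1 (Subgroup.mem_bot.1 ((D.kstar_inf_conj hU (g := g) hgM) ▸
      Subgroup.mem_inf.2 ⟨hh', Coprime.conj_mem_conj.2 (D.kstar_le hh)⟩)))
  have hk' : g * k * g⁻¹ ∈ K :=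
    D.mem_k_of_kappa (conj_zpow_mem (D.k_mem_zpowers hk hh) hg)
      (by rw [orderOf_conj_eq]; exact isPiNum_orderOf D.hall.2.1 hk)
  by_contra hgZ
  refine hk1 (conj_eq_one_iff.1 (Subgroup.mem_bot.1 ((D.k_inf_conj hU hgM hgZ) ▸
    Subgroup.mem_inf.2 ⟨hk', Coprime.conj_mem_conj.2 hk⟩)))

theorem hat_invariant {g z : G} (hg : g ∈ K ⊔ kStar M K) (hz : z ∈ hat M K) :
    g * z * g⁻¹ ∈ hat M K := by
  obtain ⟨k, hk, h, hh, hk1, hh1, rfl⟩ := D.mem_hat_iff.1 hz
  have hZ : ∀ w ∈ K ⊔ kStar M K, g * w * g⁻¹ ∈ K ⊔ kStar M K :=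
    fun w hw => mul_mem (mul_mem hg hw) (inv_mem hg)
  refine D.mem_hat_iff.2 ⟨g * k * g⁻¹, D.mem_k_of_kappa (hZ k (Subgroup.mem_sup_left hk)) ?_,
    g * h * g⁻¹, D.mem_kstar_of_sigma (hZ h (Subgroup.mem_sup_right hh)) ?_,
    mt conj_eq_one_iff.1 hk1, mt conj_eq_one_iff.1 hh1, by group⟩
  · rw [orderOf_conj_eq]; exact isPiNum_orderOf D.hall.2.1 hk
  · rw [orderOf_conj_eq]; exact orderOf_mem_sigmaCore hh.1

theorem hat_normalizer (hU : Upstream G) :
    Subgroup.normalizer (hat M K) = K ⊔ kStar M K := by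
  ext g
  constructor
  · intro hg
    obtain ⟨z, hz⟩ := D.hat_nonempty hU
    exact D.hat_conj hU hz ((Subgroup.mem_set_normalizer_iff.1 hg z).1 hz).1
  · intro hg
    refine Subgroup.mem_set_normalizer_iff.2 fun z => ⟨D.hat_invariant hg, fun hz => ?_⟩
    simpa [mul_assoc] using D.hat_invariant (inv_mem hg) hz

theorem hat_isTI (hU : Upstream G) : Cfsg.IsTISubset (hat M K) := by
  intro g hg z hz hgz
  exact absurd (by rw [D.hat_normalizer hU]; exact D.hat_conj hU hz hgz.1) hg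

theorem ncard_hat : Set.ncard (hat M K) + Nat.card K + Nat.card (kStar M K) =
    Nat.card K * Nat.card (kStar M K) + 1 := by
  have hsub : (K : Set G) ∪ ↑(kStar M K) ⊆ (↑(K ⊔ kStar M K) : Set G) :=
    Set.union_subset (fun _ => Subgroup.mem_sup_left) fun _ => Subgroup.mem_sup_right
  have h1 := Set.ncard_sdiff_add_ncard_of_subset hsub
  have h2 := Set.ncard_union_add_ncard_inter (K : Set G) (↑(kStar M K) : Set G)
  rw [← Subgroup.coe_inf, Coprime.inf_eq_bot D.coprime_k_kstar, Subgroup.coe_bot,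
    Set.ncard_singleton] at h2
  have e1 : Set.ncard (K : Set G) = Nat.card K := (Nat.card_coe_set_eq _).symm
  have e2 : Set.ncard (↑(kStar M K) : Set G) = Nat.card (kStar M K) := (Nat.card_coe_set_eq _).symm
  have e3 : Set.ncard (↑(K ⊔ kStar M K) : Set G) = Nat.card ↥(K ⊔ kStar M K) :=
    (Nat.card_coe_set_eq _).symm
  rw [← D.card_z]
  simp only [hat] at *
  omega

theorem ncard_hat_conjugates (hU : Upstream G) :
    Nat.card K * Nat.card (kStar M K) * Set.ncard (conjugatesOfSet (hat M K)) =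
      Set.ncard (hat M K) * Nat.card G := by
  rw [← D.card_z]
  exact ncard_conjugatesOf (fun g hg z hz => D.hat_invariant hg hz)
    fun z hz g hg => D.hat_conj hU hz hg.1

theorem exists_conj_data (hU : Upstream G) {K' : Subgroup G}
    (hK' : Cfsg.IsPiHallOf (Cfsg.kappa M) K' M) :
    ∃ m ∈ M, K' = MulAut.conj m • K ∧ kStar M K' = MulAut.conj m • kStar M K := by
  obtain ⟨m, hm, rfl⟩ := hallOf_conj (hU.solvable D.isCoatom) D.hall hK'
  exact ⟨m, hm, rfl, by rw [kStar, kStar, Subgroup.smul_inf, conj_sigmaCore_eq hm, smul_centralizer]⟩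

theorem normalizer_le_of_le_kstar (hU : Upstream G) {Y : Subgroup G} (hY : Y ≤ kStar M K)
    (hYp : (Nat.card Y).Prime) : Subgroup.normalizer (Y : Set G) ≤ M :=
  have h := (D.unique_of_le_kstar hU hY hYp).1
  normalizer_le_of_unique hU D.isCoatom h.1 h.2

theorem exists_prime_kstar (hU : Upstream G) :
    ∃ Y : Subgroup G, Y ≤ kStar M K ∧ (Nat.card Y).Prime := by
  obtain ⟨h, hh, hh1⟩ := (kStar M K).bot_or_exists_ne_one.resolve_left (D.kstar_ne_bot hU)
  obtain ⟨q, hq, -, y, hy, hyq⟩ := exists_prime_orderOf hh1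
  exact ⟨Subgroup.zpowers y, Subgroup.zpowers_le.2 (Subgroup.zpowers_le.2 hh hy),
    by rw [card_zpowers' hyq]; exact hq⟩

theorem sigma_disjoint_partner (hU : Upstream G) {X : Subgroup G} (hX : X ≤ K)
    (hXp : (Nat.card X).Prime) {L : Subgroup G} (hL : IsCoatom L)
    (hNX : Subgroup.normalizer (X : Set G) ≤ L) {q : ℕ} (hq : q ∈ Cfsg.sigma M) :
    q ∉ Cfsg.sigma L := by
  intro hqL
  have h := (D.le_partner_sigmaCore hU hX hXp hL hNX).1
  rw [hU.sigma_eq_of_inter D.isCoatom hL hq hqL] at h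
  exact (D.hall.2.1 _ hXp (Subgroup.card_dvd_of_le hX)).2.2.1 h

theorem partner_half (hU : Upstream G) {X : Subgroup G} (hX : X ≤ K) (hXp : (Nat.card X).Prime)
    {L : Subgroup G} (hL : IsCoatom L) (hNX : Subgroup.normalizer (X : Set G) ≤ L) :
    ∃ K₂ E₂ U₂, KData L K₂ E₂ U₂ ∧ kStar M K ≤ K₂ ∧ X ≤ kStar L K₂ ∧
      K ⊔ kStar M K ≤ K₂ ⊔ kStar L K₂ := by
  obtain ⟨-, hXL⟩ := D.le_partner_sigmaCore hU hX hXp hL hNX
  obtain ⟨x, hx, hx1⟩ := exists_ne_one_of_card_prime hXp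
  have hKC : kStar M K ≤ Subgroup.centralizer (X : Set G) :=
    inf_le_right.trans (Subgroup.centralizer_le hX)
  have hKL : kStar M K ≤ L := hKC.trans ((Subgroup.centralizer_le_normalizer _).trans hNX)
  have hκ : IsPiNum (Cfsg.kappa L) (Nat.card (kStar M K)) := by
    intro q hq hd
    have := Fact.mk hq
    obtain ⟨y, hy⟩ := exists_prime_orderOf_dvd_card' (G := ↥(kStar M K)) q hd
    have hyo : orderOf (y : G) = q := by rw [Subgroup.orderOf_coe, hy]
    have hqσ : q ∈ Cfsg.sigma M :=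
      mem_sigma_of_dvd_sigmaCore hq (dvd_card_of_mem y.2.1 hyo.symm.dvd)
    have hyx : (y : G) ∈ L ⊓ Subgroup.centralizer ({x} : Set G) :=
      Subgroup.mem_inf.2 ⟨hKL y.2, Subgroup.mem_centralizer_singleton_iff.2 (hKC y.2 x hx).symm⟩
    have hy1 : (y : G) ≠ 1 := ne_one_of_orderOf hq hyo
    rcases hU.dichotomy hL (hXL hx) hx1 hyx hy1 (fun r hr hd' => by
      rw [hyo, Nat.prime_dvd_prime_iff_eq hr hq] at hd'
      exact hd' ▸ D.sigma_disjoint_partner hU hX hXp hL hNX hqσ) with ⟨h, -⟩ | ⟨-, -, hyL, huniq⟩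
    · exact h q hq hyo.symm.dvd
    · exfalso
      have hML : M = L := huniq M D.isCoatom (D.centralizer_kstar_le hU y.2 hy1)
      exact D.sigma_disjoint_partner hU hX hXp hL hNX hqσ (hML ▸ hqσ)
  obtain ⟨K₂, hK₂, hle⟩ := exists_hallOf_ge (hU.solvable hL) hKL hκ
  obtain ⟨Y, hY, hYp⟩ := D.exists_prime_kstar hU
  have hK₂1 : K₂ ≠ ⊥ := fun h => D.kstar_ne_bot hU (le_bot_iff.1 (h ▸ hle))
  obtain ⟨E₂, U₂, D₂⟩ := hU.exists_kData_compl hL hK₂ hK₂1
  refine ⟨K₂, E₂, U₂, D₂, hle, ?_, ?_⟩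
  · obtain ⟨y, hy, hy1⟩ := exists_ne_one_of_card_prime hYp
    have hact := D₂.prime_action y (hle (hY hy)) hy1
    intro w hw
    rw [← hact]
    exact Subgroup.mem_inf.2 ⟨hXL hw,
      Subgroup.mem_centralizer_singleton_iff.2 (hKC (hY hy) w hw)⟩
  · rw [← D₂.normalizer_inf_prime (hY.trans hle) hYp]
    refine sup_le (le_inf ((D.normal_of_prime X hX hXp).trans hNX) ?_) (le_inf hKL ?_)
    · exact (D.k_le_centralizer_kstar.trans (Subgroup.centralizer_le hY)).trans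
        (Subgroup.centralizer_le_normalizer _)
    · exact hle.trans (D₂.normal_of_prime Y (hY.trans hle) hYp)

/-- **BG 14.7**: the maximal subgroup over `N(X)`, `X ≤ K` of prime order. -/
theorem partner (hU : Upstream G) {X : Subgroup G} (hX : X ≤ K) (hXp : (Nat.card X).Prime)
    {L : Subgroup G} (hL : IsCoatom L) (hNX : Subgroup.normalizer (X : Set G) ≤ L) :
    ∃ K₂ E₂ U₂, KData L K₂ E₂ U₂ ∧ kStar M K ≤ K₂ ∧ kStar L K₂ ≤ K ∧ X ≤ kStar L K₂ ∧
      K₂ ⊔ kStar L K₂ = K ⊔ kStar M K := by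
  obtain ⟨K₂, E₂, U₂, D₂, hle, hX₂, hZ⟩ := D.partner_half hU hX hXp hL hNX
  obtain ⟨Y, hY, hYp⟩ := D.exists_prime_kstar hU
  obtain ⟨K₃, E₃, U₃, D₃, hle₃, -, hZ₃⟩ := D₂.partner_half hU (hY.trans hle) hYp D.isCoatom
    (D.normalizer_le_of_le_kstar hU hY hYp)
  have heq : K₂ ⊔ kStar L K₂ = K ⊔ kStar M K := by
    refine (Subgroup.eq_of_le_of_card_ge hZ ?_).symm
    refine (Subgroup.card_le_of_le hZ₃).trans (le_of_eq ?_)
    obtain ⟨m, -, hK₃, hK₃'⟩ := D.exists_conj_data hU D₃.hall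
    rw [D.card_z, D₃.card_z, hK₃', hK₃, card_conj, card_conj]
  refine ⟨K₂, E₂, U₂, D₂, hle, fun w hw => ?_, hX₂, heq⟩
  refine D.mem_k_of_kappa (heq ▸ Subgroup.mem_sup_right hw) ?_
  exact isPiNum_orderOf D₃.hall.2.1 (hle₃ hw)

end KData

/-- `L` is one of the maximal subgroups attached to `Z`. -/
def InFam (Z L : Subgroup G) : Prop :=
  ∃ K₂ E₂ U₂, KData L K₂ E₂ U₂ ∧ K₂ ⊔ kStar L K₂ = Z

theorem KData.inFam {M K E U : Subgroup G} (D : KData M K E U) : InFam (K ⊔ kStar M K) M :=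
  ⟨K, E, U, D, rfl⟩

theorem InFam.inf_sigmaCore {Z L : Subgroup G} (hZ : InFam Z L) :
    ∀ {K₂ E₂ U₂}, KData L K₂ E₂ U₂ → K₂ ⊔ kStar L K₂ = Z → Z ⊓ Cfsg.sigmaCore L = kStar L K₂ := by
  intro K₂ E₂ U₂ D₂ h
  refine le_antisymm (fun z hz => ?_) (le_inf (h ▸ le_sup_right) inf_le_left)
  exact D₂.mem_kstar_of_sigma (h ▸ hz.1) (orderOf_mem_sigmaCore hz.2)

/-- Two members of the family with meeting `σ`-sets are equal. -/
theorem InFam.eq_of_sigma (hU : Upstream G) {Z L L' : Subgroup G} (h : InFam Z L)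
    (h' : InFam Z L') {q : ℕ} (hq : q ∈ Cfsg.sigma L) (hq' : q ∈ Cfsg.sigma L') : L' = L := by
  obtain ⟨K₂, E₂, U₂, D₂, hZ⟩ := h
  obtain ⟨K₃, E₃, U₃, D₃, hZ'⟩ := h'
  obtain ⟨g, rfl⟩ := hU.conj_of_sigma D₂.isCoatom D₃.isCoatom hq hq'
  obtain ⟨y, hy, hy1⟩ := (kStar (MulAut.conj g • L) K₃).bot_or_exists_ne_one.resolve_left
    (D₃.kstar_ne_bot hU)
  have hy2 : y ∈ kStar L K₂ := D₂.mem_kstar_of_sigma (hZ ▸ hZ' ▸ Subgroup.mem_sup_right hy)
    (sigma_conj g L ▸ orderOf_mem_sigmaCore hy.1)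
  refine conj_eq_self ?_
  by_contra hg
  exact hy1 (Subgroup.mem_bot.1 (D₂.kstar_inf_conj hU hg ▸
    Subgroup.mem_inf.2 ⟨hy2, D₃.kstar_le hy⟩))

theorem KData.exists_fam_of_prime {M K E U : Subgroup G} (D : KData M K E U) (hU : Upstream G)
    {X : Subgroup G} (hX : X ≤ K ⊔ kStar M K) (hXp : (Nat.card X).Prime) :
    ∃ L, InFam (K ⊔ kStar M K) L ∧ X ≤ Cfsg.sigmaCore L := by
  obtain ⟨x, hx, hx1⟩ := exists_ne_one_of_card_prime hXp
  have hox := orderOf_of_prime_card hXp hx hx1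
  by_cases hσ : Nat.card X ∈ Cfsg.sigma M
  · exact ⟨M, D.inFam, hU.mem_sigmaCore_of_pi D.isCoatom (hX.trans D.z_le)
      (isPiNum_of_card_prime hXp rfl hσ)⟩
  · have hXK : X ≤ K := by
      intro w hw
      obtain ⟨k, hk, h, hh, rfl⟩ := D.z_decomp (hX hw)
      have h1 : orderOf h = 1 := by
        have hd : orderOf h ∣ Nat.card X :=
          (orderOf_dvd_of_mem_zpowers (D.h_mem_zpowers hk hh)).trans
            (Subgroup.orderOf_dvd_natCard X hw)
        refine ((Nat.dvd_prime hXp).1 hd).resolve_right fun h' => hσ ?_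
        exact orderOf_mem_sigmaCore hh.1 _ hXp h'.symm.dvd
      rwa [orderOf_eq_one_iff.1 h1, mul_one]
    obtain ⟨L, hL, hNX⟩ := OddSigma.exists_coatom (OddSigma.normalizer_ne_top hU.hG (H := X)
      (fun h => hXp.ne_one (by rw [h, Subgroup.card_bot]))
      fun h => D.isCoatom.1 (top_le_iff.1 (h ▸ hXK.trans D.hall.1)))
    obtain ⟨K₂, E₂, U₂, D₂, -, -, hX₂, hZ⟩ := D.partner hU hXK hXp hL hNX
    exact ⟨L, ⟨K₂, E₂, U₂, D₂, hZ⟩, hX₂.trans inf_le_left⟩

end Cfsg.Agent.OddOrder14
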