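import Cfsg.Agent.Lib.OddOrder14.Partner
import Cfsg.Agent.Lib.OddOrder.Covering

/-!
# Bender-Glauberman 14.5: the bundles for 14.4 and 14.6

* `Upstream.exists_decomposition`, `Upstream.sigFacts`
* `Upstream.cosets_disjoint` (14.5), `Upstream.countFacts`
-/

set_option autoImplicit false
set_option linter.unusedSectionVars false

open scoped Pointwise

universe u

namespace Cfsg.Agent.OddOrder14

open Cfsg.Agent.Solvable

variable {G : Type u} [Group G] [Finite G]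

theorem coprime_k_sigmaCore' {M K : Subgroup G} (hK : Cfsg.IsPiHallOf (Cfsg.kappa M) K M) :
    (Nat.card K).Coprime (Nat.card (Cfsg.sigmaCore M)) :=
  IsPiNum.coprime (π := Cfsg.kappa M) hK.2.1
    fun p hp hd hk => hk.2.2.1 (mem_sigma_of_dvd_sigmaCore hp hd)

theorem isPiNum_pi_mul {π : Set ℕ} {a b : G} (h : Commute a b) (ha : IsPiNum π (orderOf a))
    (hb : IsPiNum π (orderOf b)) : IsPiNum π (orderOf (a * b)) :=
  (ha.mul hb).of_dvd h.orderOf_mul_dvd_mul_orderOf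

namespace Upstream

variable (hU : Upstream G)
include hU

/-- A factorisation `M = K U M_σ` exists. -/
theorem exists_decomposition {M K : Subgroup G} (hM : IsCoatom M) (hKc : IsCyclic K)
    (hK : Cfsg.IsPiHallOf (Cfsg.kappa M) K M) : ∃ U, Cfsg.IsSigmaDecomposition M K U := by
  obtain ⟨E, hE, hKE⟩ := hU.exists_compl_ge hM hK.1 fun p hp hd hσ => (hK.2.1 p hp hd).2.2.1 hσ
  by_cases hK1 : K = ⊥
  · subst hK1
    refine ⟨E, hKc, hK, ?_, bot_le⟩
    rw [bot_sup_eq]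
    exact hE
  · obtain ⟨U, D⟩ := exists_kData hU hM hK hK1 hE hKE
    refine ⟨U, hKc, hK, ⟨D.u_hall.1, sup_le hK.1 (sigmaCore_le M), ?_, fun m hm => ?_⟩,
      D.k_normalizes_u⟩
    · refine Coprime.inf_eq_bot ?_
      rw [sup_comm, Coprime.card_sup_of_coprime D.k_normalizes_sigmaCore D.coprime_k_sigmaCore.symm]
      exact Nat.Coprime.mul_right D.coprime_u_sigmaCore D.coprime_k_u.symm
    · obtain ⟨k, hk, u, hu, h, hh, rfl⟩ := D.mul_of_mem hm
      exact ⟨k * u * k⁻¹, (Subgroup.mem_normalizer_iff.1 (D.k_normalizes_u hk) u).1 hu,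
        k * h, Subgroup.mul_mem_sup hk hh, by group⟩

/-- The bundle of facts behind 14.4. -/
theorem sigFacts : OddMax.SigFacts G where
  s1350 := hU.s1350
  s1352 M hM K hKc hK := ⟨hU.exists_decomposition hM hKc hK, fun _ h => decomp_normal h⟩
  s1404 := hU.s1404
  s1409 := hU.s1409
  s1417 := hU.s1417
  s1418 := hU.s1418
  s1420 := hU.s1420
  s1424 := hU.s1424
  s1432 M hM x hx hx1 x' hx' hx'1 hσ := hU.dichotomy hM hx hx1 hx' hx'1 hσ
  sigma_disj := hU.bg13_9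

theorem supportR_facts {M : Subgroup G} (hM : IsCoatom M) {x r : G} (hx : x ∈ Cfsg.sigmaCore M)
    (hx1 : x ≠ 1) (hr : r ∈ Cfsg.supportR M x) (hr1 : r ≠ 1) :
    ¬ Subgroup.centralizer ({x} : Set G) ≤ M ∧ ∃ N, OddMax.IsSignalizer M x N ∧
      r ∈ Cfsg.sigmaCore N ∧
      (∀ p : ℕ, p ∈ Cfsg.sigma M → p ∉ Cfsg.sigma N) := by
  have hxM : ¬ Subgroup.centralizer ({x} : Set G) ≤ M := fun h => by
    rw [OddMax.supportR_eq_bot h, Subgroup.mem_bot] at hr
    exact hr1 hr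
  obtain ⟨N, hN⟩ := OddMax.exists_signalizer hU.hG hU.sigFacts hM hx hx1 hxM
  rw [OddMax.supportR_eq hU.hG hU.sigFacts hM hx hx1 hN hxM] at hr
  refine ⟨hxM, N, hN, hr.1, fun p hp hpN => ?_⟩
  obtain ⟨q, hq, hd, -⟩ := exists_prime_orderOf hx1
  refine (hN.tau2 q hq hd).2.1 ?_
  rw [hU.sigma_eq_of_inter hM hN.coatom hp hpN]
  exact orderOf_mem_sigmaCore hx q hq hd

/-- **BG 14.5**. -/
theorem cosets_disjoint {M N : Subgroup G} (hM : IsCoatom M) (hN : IsCoatom N) {x y : G}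
    (hx : x ∈ Cfsg.sigmaCore M) (hy : y ∈ Cfsg.sigmaCore N) (hx1 : x ≠ 1) (hy1 : y ≠ 1)
    (hxy : x ≠ y) :
    ∀ r ∈ Cfsg.supportR M x, ∀ s ∈ Cfsg.supportR N y, x * r ≠ y * s := by
  intro r hr s hs he
  have cxr : Commute x r :=
    (Subgroup.mem_centralizer_singleton_iff.1 (OddMax.supportR_le_centralizer M x hr)).symm
  have cys : Commute y s :=
    (Subgroup.mem_centralizer_singleton_iff.1 (OddMax.supportR_le_centralizer N y hs)).symm
  have hxσ := orderOf_mem_sigmaCore hx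
  have hyσ := orderOf_mem_sigmaCore hy
  have hrσ : IsPiNum (Cfsg.sigma M)ᶜ (orderOf r) := by
    by_cases hr1 : r = 1
    · rw [hr1, orderOf_one]; exact isPiNum_one
    · obtain ⟨-, N₁, -, hrN, hd⟩ := hU.supportR_facts hM hx hx1 hr hr1
      exact fun p hp hpd hσ => hd p hσ (orderOf_mem_sigmaCore hrN p hp hpd)
  have hsσ : IsPiNum (Cfsg.sigma N)ᶜ (orderOf s) := by
    by_cases hs1 : s = 1
    · rw [hs1, orderOf_one]; exact isPiNum_one
    · obtain ⟨-, N₂, -, hsN, hd⟩ := hU.supportR_facts hN hy hy1 hs hs1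
      exact fun p hp hpd hσ => hd p hσ (orderOf_mem_sigmaCore hsN p hp hpd)
  have hcxr : (orderOf x).Coprime (orderOf r) := hxσ.coprime hrσ
  have hcys : (orderOf y).Coprime (orderOf s) := hyσ.coprime hsσ
  have hxg : x ∈ Subgroup.zpowers (x * r) := mem_zpowers_mul_of_coprime cxr hcxr
  have hrg : r ∈ Subgroup.zpowers (x * r) := by
    rw [cxr.eq]; exact mem_zpowers_mul_of_coprime cxr.symm hcxr.symm
  have hyg : y ∈ Subgroup.zpowers (x * r) := he ▸ mem_zpowers_mul_of_coprime cys hcys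
  have hsg : s ∈ Subgroup.zpowers (x * r) := by
    rw [he, cys.eq]; exact mem_zpowers_mul_of_coprime cys.symm hcys.symm
  have hcm : ∀ {a b : G}, a ∈ Subgroup.zpowers (x * r) → b ∈ Subgroup.zpowers (x * r) →
      Commute a b := fun ha hb => commute_of_mem_zpowers ha hb
  by_cases heqσ : Cfsg.sigma N = Cfsg.sigma M
  · have h1 : x⁻¹ * y = r * s⁻¹ := by
      rw [inv_mul_eq_iff_eq_mul, ← mul_assoc, he, mul_inv_cancel_right]
    refine hxy (inv_mul_eq_one.1 (eq_one_of_isPiNum (π := Cfsg.sigma M) ?_ ?_))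
    · exact isPiNum_pi_mul (hcm (inv_mem hxg) hyg) (by rwa [orderOf_inv]) (heqσ ▸ hyσ)
    · rw [h1]
      exact isPiNum_pi_mul (hcm hrg (inv_mem hsg)) hrσ (by rw [orderOf_inv, ← heqσ]; exact hsσ)
  have hdis : ∀ p, p ∈ Cfsg.sigma M → p ∉ Cfsg.sigma N := fun p hp hp' =>
    heqσ (hU.sigma_eq_of_inter hM hN hp hp')
  obtain ⟨p, hp, hpx, -⟩ := exists_prime_orderOf hx1
  obtain ⟨q, hq, hqy, -⟩ := exists_prime_orderOf hy1
  have hpσ := hxσ p hp hpx
  have hqσ := hyσ q hq hqy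
  have hs1 : s ≠ 1 := by
    rintro rfl
    rw [mul_one] at he
    exact hdis p hpσ (hyσ p hp (hpx.trans (orderOf_dvd_of_mem_zpowers (he ▸ hxg))))
  have hr1 : r ≠ 1 := by
    rintro rfl
    rw [mul_one] at hyg
    exact hdis q (hxσ q hq (hqy.trans (orderOf_dvd_of_mem_zpowers hyg))) hqσ
  obtain ⟨hxM, N₁, hN₁, hrN, -⟩ := hU.supportR_facts hM hx hx1 hr hr1
  obtain ⟨-, N₂, hN₂, hsN, hd₂⟩ := hU.supportR_facts hN hy hy1 hs hs1
  have hpN₂ : p ∈ Cfsg.sigma N₂ := by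
    have h : p ∣ orderOf (y * s) := hpx.trans (orderOf_dvd_of_mem_zpowers (he ▸ hxg))
    rcases hp.dvd_mul.1 (h.trans cys.orderOf_mul_dvd_mul_orderOf) with h | h
    · exact absurd (hyσ p hp h) (hdis p hpσ)
    · exact orderOf_mem_sigmaCore hsN p hp h
  have hqN₁ : q ∈ Cfsg.sigma N₁ := by
    have h : q ∣ orderOf (x * r) := hqy.trans (orderOf_dvd_of_mem_zpowers hyg)
    rcases hq.dvd_mul.1 (h.trans cxr.orderOf_mul_dvd_mul_orderOf) with h | h
    · exact absurd hqσ (hdis q (hxσ q hq h))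
    · exact orderOf_mem_sigmaCore hrN q hq h
  have heq₂ : Cfsg.sigma N₂ = Cfsg.sigma M := hU.sigma_eq_of_inter hM hN₂.coatom hpσ hpN₂
  have heq₁ : Cfsg.sigma N₁ = Cfsg.sigma N := hU.sigma_eq_of_inter hN hN₁.coatom hqσ hqN₁
  have hxs : x * s⁻¹ = y * r⁻¹ := by
    calc x * s⁻¹ = (x * r) * (r⁻¹ * s⁻¹) := by group
      _ = (y * s) * (r⁻¹ * s⁻¹) := by rw [he]
      _ = y * (s * r⁻¹) * s⁻¹ := by group
      _ = y * (r⁻¹ * s) * s⁻¹ := by rw [(hcm hsg (inv_mem hrg)).eq]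
      _ = y * r⁻¹ := by group
  have hone : x * s⁻¹ = 1 := by
    refine eq_one_of_isPiNum (π := Cfsg.sigma M) ?_ ?_
    · exact isPiNum_pi_mul (hcm hxg (inv_mem hsg)) hxσ
        (by rw [orderOf_inv, ← heq₂]; exact orderOf_mem_sigmaCore hsN)
    · rw [hxs]
      refine (isPiNum_pi_mul (π := Cfsg.sigma N) (hcm hyg (inv_mem hrg)) hyσ
        (by rw [orderOf_inv, ← heq₁]; exact orderOf_mem_sigmaCore hrN)).mono ?_
      exact fun l hl hl' => hdis l hl' hl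
  have hsx : x = s := mul_inv_eq_one.1 hone
  have hry : y = r := mul_inv_eq_one.1 (hxs ▸ hone)
  have hxN₂ : x ∈ Cfsg.sigmaCore N₂ := hsx.symm ▸ hsN
  have hyN₂ : y ∈ N₂ := hN₂.le (Subgroup.mem_centralizer_singleton_iff.2 rfl)
  have hxN₂' : ¬ Subgroup.centralizer ({x} : Set G) ≤ N₂ := by
    intro hle
    obtain ⟨a, ha⟩ := hU.conj_of_sigma hM hN₂.coatom hpσ hpN₂
    have hM' : M = MulAut.conj a⁻¹ • N₂ := by rw [ha, conj_inv_smul]
    have ha' := OddMax.mem_of_centralizer_le hU.hG hU.sigFacts hN₂.coatom hxN₂ hx1 hle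
      (g := a⁻¹) (hM' ▸ sigmaCore_le M hx)
    rw [conj_eq_self ha'] at hM'
    exact hxM (hM' ▸ hle)
  obtain ⟨N₃, hN₃⟩ := OddMax.exists_signalizer hU.hG hU.sigFacts hN₂.coatom hxN₂ hx1 hxN₂'
  have h31 : N₃ = N₁ := hN₁.unique _ hN₃.coatom hN₃.le
  have hmem : y ∈ (N₂ ⊓ N₃) ⊓ Cfsg.sigmaCore N₃ := by
    rw [h31]
    exact Subgroup.mem_inf.2
      ⟨Subgroup.mem_inf.2 ⟨hyN₂, sigmaCore_le N₁ (hry ▸ hrN)⟩, hry ▸ hrN⟩
  rw [hN₃.compl.2.2.1, Subgroup.mem_bot] at hmem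
  exact hy1 hmem

theorem countFacts : OddMax.CountFacts G where
  toSigFacts := hU.sigFacts
  s1433 M N hM hN x y hx hy hx1 hy1 hxy := hU.cosets_disjoint hM hN hx hy hx1 hy1 hxy

end Upstream

end Cfsg.Agent.OddOrder14
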