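import Cfsg.Agent.Lib.OddOrder14.Main

/-!
# Bender-Glauberman section 14: the statements, modulo `Upstream`

`Upstream.sNNNN` has the type of statement `SNNNN` (NNNN = 1351-1354, 1362, 1365-1371, 1430-1434).
-/

set_option autoImplicit false
set_option linter.unusedSectionVars false

open scoped Pointwise commutatorElement

universe u

namespace Cfsg.Agent.OddOrder14

open Cfsg.Agent.Solvable

variable {G : Type u} [Group G] [Finite G]

theorem kData_of_decomp (hU : Upstream G) {M K U : Subgroup G} (hM : IsCoatom M)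
    (h : Cfsg.IsSigmaDecomposition M K U) (hK1 : K ≠ ⊥) : KData M K (U ⊔ K) U := by
  obtain ⟨E₀, U₀, D₀⟩ := hU.exists_kData_compl hM h.hall hK1
  have hUh := decomp_hall hU hM h
  have hcop : (Nat.card K).Coprime (Nat.card U) :=
    IsPiNum.coprime (π := Cfsg.kappa M) h.hall.2.1 fun p hp hd hk => hUh.2.1 p hp hd (Or.inl hk)
  have hcard : Nat.card ↥(U ⊔ K) = Nat.card U * Nat.card K :=
    Coprime.card_sup_of_coprime h.normal hcop.symm
  have hle : U ⊔ K ≤ M := sup_le h.compl.1 h.hall.1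
  have hall : Cfsg.IsPiHallOf (Cfsg.sigma M)ᶜ (U ⊔ K) M := by
    refine ⟨hle, fun p hp hd => ?_, fun p hp hp' hd => ?_⟩
    · rw [hcard] at hd
      rcases hp.dvd_mul.1 hd with h' | h'
      · exact fun hσ => hUh.2.1 p hp h' (Or.inr hσ)
      · exact fun hσ => (h.hall.2.1 p hp h').2.2.1 hσ
    · have h1 := card_mul_relIndex hle
      rw [← decomp_card h, hcard, ← mul_assoc] at h1
      rw [Nat.eq_of_mul_eq_mul_left (Nat.mul_pos Nat.card_pos Nat.card_pos) h1] at hd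
      exact hp' (mem_sigma_of_dvd_sigmaCore hp hd)
  exact ⟨hM, h.hall, hK1, le_sup_right, hU.compl_of_hall hM hall, le_sup_left, hUh,
    sup_le Subgroup.le_normalizer h.normal, rfl, decomp_u_comm hU hM h hK1,
    decomp_free hU hM h, D₀.prime_action, D₀.normal_of_prime,
    Or.inl ⟨D₀.isCyclic_k hU, fun p hp => D₀.kappa_eq_tau1 hU ▸ hp,
      fun p hp => (D₀.kappa_eq_tau1 hU).symm ▸ hp⟩⟩

theorem decomp_relIndex {M K U : Subgroup G} (h : Cfsg.IsSigmaDecomposition M K U)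
    (hUh : Cfsg.IsPiHallOf (Cfsg.kappa M ∪ Cfsg.sigma M)ᶜ U M) :
    (U ⊔ Cfsg.sigmaCore M).relIndex M = Nat.card K ∧
      IsPiNum (Cfsg.kappa M)ᶜ (Nat.card ↥(U ⊔ Cfsg.sigmaCore M)) := by
  have hcop : (Nat.card U).Coprime (Nat.card (Cfsg.sigmaCore M)) :=
    Nat.coprime_of_dvd fun p hp h1 h2 =>
      hUh.2.1 p hp h1 (Or.inr (mem_sigma_of_dvd_sigmaCore hp h2))
  have hcard : Nat.card ↥(U ⊔ Cfsg.sigmaCore M) = Nat.card U * Nat.card (Cfsg.sigmaCore M) := by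
    rw [sup_comm, Coprime.card_sup_of_coprime (h.compl.1.trans (le_normalizer_sigmaCore M)) hcop.symm,
      mul_comm]
  refine ⟨?_, ?_⟩
  · have h1 := card_mul_relIndex (sup_le h.compl.1 (sigmaCore_le M))
    rw [← decomp_card h, hcard] at h1
    exact Nat.eq_of_mul_eq_mul_left (Nat.mul_pos Nat.card_pos Nat.card_pos)
      (h1.trans (by ring))
  · rw [hcard]
    exact IsPiNum.mul (fun p hp hd hk => hUh.2.1 p hp hd (Or.inl hk))
      fun p hp hd hk => hk.2.2.1 (mem_sigma_of_dvd_sigmaCore hp hd)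

theorem mem_uh_of_order {M K U : Subgroup G} (h : Cfsg.IsSigmaDecomposition M K U)
    (hUh : Cfsg.IsPiHallOf (Cfsg.kappa M ∪ Cfsg.sigma M)ᶜ U M) {a : G} (ha : a ∈ M)
    (hπ : IsPiNum (Cfsg.kappa M)ᶜ (orderOf a)) : a ∈ U ⊔ Cfsg.sigmaCore M := by
  refine OddMax.mem_of_coprime_relIndex (decomp_normal h) ha ?_
  rw [(decomp_relIndex h hUh).1]
  exact (IsPiNum.coprime (π := Cfsg.kappa M) h.hall.2.1 hπ).symm

theorem conj_mem_sigmaHat {M : Subgroup G} {m a : G} (hm : m ∈ M) (ha : a ∈ Cfsg.sigmaHat M) :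
    m * a * m⁻¹ ∈ Cfsg.sigmaHat M := by
  obtain ⟨haM, y, hy, hy1, hc⟩ := ha
  refine ⟨mul_mem (mul_mem hm haM) (inv_mem hm), m * y * m⁻¹, conj_mem_sigmaCore hm hy,
    mt conj_eq_one_iff.1 hy1, ?_⟩
  calc m * a * m⁻¹ * (m * y * m⁻¹) = m * (a * y) * m⁻¹ := by group
    _ = m * (y * a) * m⁻¹ := by rw [hc]
    _ = _ := by group

theorem mem_normalizer_of_invariant {M : Subgroup G} {S : Set G}
    (h : ∀ m ∈ M, ∀ a ∈ S, m * a * m⁻¹ ∈ S) : M ≤ Subgroup.normalizer S := by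
  intro m hm
  refine Subgroup.mem_set_normalizer_iff.2 fun a => ⟨h m hm a, fun ha => ?_⟩
  simpa [mul_assoc] using h m⁻¹ (inv_mem hm) _ ha

namespace Upstream

variable (hU : Upstream G)
include hU

theorem s1351 (M : Subgroup G) (hM : IsCoatom M) :
    (∃ K : Subgroup G, Cfsg.IsPiHallOf (Cfsg.kappa M) K M) ∧
      ∀ K : Subgroup G, Cfsg.IsPiHallOf (Cfsg.kappa M) K M → IsCyclic K := by
  refine ⟨exists_hallOf (hU.solvable hM) _, fun K hK => ?_⟩
  by_cases hK1 : K = ⊥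
  · subst hK1; infer_instance
  · obtain ⟨E, U, D⟩ := hU.exists_kData_compl hM hK hK1
    exact D.isCyclic_k hU

theorem s1352 (M : Subgroup G) (hM : IsCoatom M) (K : Subgroup G)
    (hKc : IsCyclic K) (hK : Cfsg.IsPiHallOf (Cfsg.kappa M) K M) :
    (∃ U : Subgroup G, Cfsg.IsSigmaDecomposition M K U) ∧
      ∀ U : Subgroup G, Cfsg.IsSigmaDecomposition M K U →
        M ≤ Subgroup.normalizer ((U ⊔ Cfsg.sigmaCore M : Subgroup G) : Set G) :=
  ⟨hU.exists_decomposition hM hKc hK, fun _ h => decomp_normal h⟩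

theorem s1353 (M : Subgroup G) (hM : IsCoatom M) (K U : Subgroup G)
    (hKU : Cfsg.IsSigmaDecomposition M K U) :
    ∀ k ∈ K, k ≠ 1 → U ⊓ Subgroup.centralizer ({k} : Set G) = ⊥ :=
  decomp_free hU hM hKU

theorem s1354 (M : Subgroup G) (hM : IsCoatom M) (K : Subgroup G)
    (hKc : IsCyclic K) (hK : Cfsg.IsPiHallOf (Cfsg.kappa M) K M) :
    Cfsg.sigmaCore M ⊓ Subgroup.centralizer (K : Set G) ≠ ⊥ ∧
      (K ≠ ⊥ → ∀ k ∈ K, k ≠ 1 →
        M ⊓ Subgroup.centralizer ({k} : Set G) =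
          K ⊔ (Cfsg.sigmaCore M ⊓ Subgroup.centralizer (K : Set G))) := by
  refine ⟨?_, fun hK1 k hk hk1 => ?_⟩
  · by_cases hK1 : K = ⊥
    · intro h
      refine hU.sigmaCore_ne_bot hM (le_bot_iff.1 ((le_inf le_rfl ?_).trans h.le))
      intro x _ k hk
      rw [hK1, SetLike.mem_coe, Subgroup.mem_bot] at hk
      rw [hk, one_mul, mul_one]
    · obtain ⟨E, U, D⟩ := hU.exists_kData_compl hM hK hK1
      exact D.kstar_ne_bot hU
  · obtain ⟨E, U, D⟩ := hU.exists_kData_compl hM hK hK1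
    exact D.inf_centralizer_eq hU hk hk1

theorem s1365 (M : Subgroup G) (hM : IsCoatom M) (K U : Subgroup G)
    (hKU : Cfsg.IsSigmaDecomposition M K U) (hK1 : K ≠ ⊥) :
    ⁅M, M⁆ = U ⊔ Cfsg.sigmaCore M ∧
      (Cfsg.sigmaCore M ⊓ Subgroup.centralizer (K : Set G)) ≤ ⁅⁅M, M⁆, ⁅M, M⁆⁆ := by
  have D := kData_of_decomp hU hM hKU hK1
  have hsM := hU.solvable hM
  have h26 := hU.s1426 M hM (U ⊔ K) D.compl
  have hHd : Cfsg.sigmaCore M ≤ ⁅M, M⁆ :=
    h26.2.1.symm.le.trans (Subgroup.commutator_mono (sigmaCore_le M) D.compl.1)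
  have hUd : U ≤ ⁅M, M⁆ := by
    have hcm := Coprime.commutator_sup_centralizer (K := U) (A := K) D.k_normalizes_u
      D.coprime_k_u (Or.inr (isSolvable_of_le D.u_hall.1))
    obtain ⟨k, hk, hk1⟩ := K.bot_or_exists_ne_one.resolve_left hK1
    have hfix : U ⊓ Subgroup.centralizer (K : Set G) = ⊥ := le_bot_iff.1
      ((inf_le_inf_left _ (Subgroup.centralizer_le (Set.singleton_subset_iff.2 hk))).trans
        (D.u_free k hk hk1).le)
    rw [hfix, sup_bot_eq] at hcm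
    exact hcm.symm.le.trans (Subgroup.commutator_mono D.u_hall.1 D.hall.1)
  refine ⟨le_antisymm (D.commutator_le_uh hU) (sup_le hUd hHd), ?_⟩
  by_cases hU1 : U = ⊥
  · refine le_trans (le_trans ?_ h26.1) (Subgroup.commutator_mono hHd hHd)
    rw [hU1, bot_sup_eq]
  · have hC := (D.u_ne_bot_facts hU hU1).2.1
    have hcm := Coprime.commutator_sup_centralizer (K := Cfsg.sigmaCore M) (A := U)
      D.u_normalizes_sigmaCore D.coprime_u_sigmaCore (Or.inr (isSolvable_of_le (sigmaCore_le M)))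
    rw [hC, sup_bot_eq] at hcm
    exact inf_le_left.trans (hcm.symm.le.trans (Subgroup.commutator_mono hHd hUd))

theorem s1366 (M : Subgroup G) (hM : IsCoatom M) (K U : Subgroup G)
    (hKU : Cfsg.IsSigmaDecomposition M K U) (hK1 : K ≠ ⊥) :
    ∃! Mstar : Subgroup G, IsCoatom Mstar ∧
      K = Cfsg.sigmaCore Mstar ⊓
        Subgroup.centralizer ((Cfsg.sigmaCore M ⊓ Subgroup.centralizer (K : Set G)) : Set G) ∧
      Cfsg.IsPiHallOf (Cfsg.kappa Mstar)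
        (Cfsg.sigmaCore M ⊓ Subgroup.centralizer (K : Set G)) Mstar := by
  have D := kData_of_decomp hU hM hKU hK1
  obtain ⟨L, P⟩ := D.exists_pair hU
  obtain ⟨E₂, U₂, D₂⟩ := P.right
  refine ⟨L, ⟨D₂.isCoatom, P.star_star.symm, D₂.hall⟩, ?_⟩
  rintro L' ⟨hL', h1, h2⟩
  exact P.unique hU (D.pair_of_hyps hU hL' h1 h2)

theorem s1367 (M : Subgroup G) (hM : IsCoatom M) (K U : Subgroup G)
    (hKU : Cfsg.IsSigmaDecomposition M K U) (hK1 : K ≠ ⊥) (Mstar : Subgroup G)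
    (hMstar : IsCoatom Mstar)
    (hKst : K = Cfsg.sigmaCore Mstar ⊓
      Subgroup.centralizer ((Cfsg.sigmaCore M ⊓ Subgroup.centralizer (K : Set G)) : Set G))
    (hKstH : Cfsg.IsPiHallOf (Cfsg.kappa Mstar)
      (Cfsg.sigmaCore M ⊓ Subgroup.centralizer (K : Set G)) Mstar) :
    (∀ X : Subgroup G, X ≤ (Cfsg.sigmaCore M ⊓ Subgroup.centralizer (K : Set G)) →
        (Nat.card X).Prime →
        Subgroup.centralizer (X : Set G) ≤ M ∧
          ∀ L : Subgroup G, IsCoatom L → Subgroup.centralizer (X : Set G) ≤ L → L = M) ∧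
      (∀ Y : Subgroup G, Y ≤ K → (Nat.card Y).Prime →
        Subgroup.centralizer (Y : Set G) ≤ Mstar ∧
          ∀ L : Subgroup G, IsCoatom L → Subgroup.centralizer (Y : Set G) ≤ L → L = Mstar) := by
  have D := kData_of_decomp hU hM hKU hK1
  have P := D.pair_of_hyps hU hMstar hKst hKstH
  obtain ⟨E₂, U₂, D₂⟩ := P.right
  exact ⟨fun X hX hXp => (D.unique_of_le_kstar hU hX hXp).1,
    fun Y hY hYp => (D₂.unique_of_le_kstar hU (hY.trans P.star_star.ge) hYp).1⟩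

theorem s1368 (M : Subgroup G) (hM : IsCoatom M) (K U : Subgroup G)
    (hKU : Cfsg.IsSigmaDecomposition M K U) (hK1 : K ≠ ⊥) (Mstar : Subgroup G)
    (hMstar : IsCoatom Mstar)
    (hKst : K = Cfsg.sigmaCore Mstar ⊓
      Subgroup.centralizer ((Cfsg.sigmaCore M ⊓ Subgroup.centralizer (K : Set G)) : Set G))
    (hKstH : Cfsg.IsPiHallOf (Cfsg.kappa Mstar)
      (Cfsg.sigmaCore M ⊓ Subgroup.centralizer (K : Set G)) Mstar) :
    M ⊓ Mstar = K ⊔ (Cfsg.sigmaCore M ⊓ Subgroup.centralizer (K : Set G)) ∧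
      IsCyclic ↥(K ⊔ (Cfsg.sigmaCore M ⊓ Subgroup.centralizer (K : Set G))) := by
  have P := (kData_of_decomp hU hM hKU hK1).pair_of_hyps hU hMstar hKst hKstH
  exact ⟨P.inf_eq hU, P.isCyclic_z hU⟩

theorem s1369 (M : Subgroup G) (hM : IsCoatom M) (K U : Subgroup G)
    (hKU : Cfsg.IsSigmaDecomposition M K U) (hK1 : K ≠ ⊥) (Mstar : Subgroup G)
    (hMstar : IsCoatom Mstar)
    (hKst : K = Cfsg.sigmaCore Mstar ⊓
      Subgroup.centralizer ((Cfsg.sigmaCore M ⊓ Subgroup.centralizer (K : Set G)) : Set G))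
    (hKstH : Cfsg.IsPiHallOf (Cfsg.kappa Mstar)
      (Cfsg.sigmaCore M ⊓ Subgroup.centralizer (K : Set G)) Mstar) :
    (U ≠ ⊥ ∨ ∀ Ustar : Subgroup G, Cfsg.IsSigmaDecomposition Mstar
        (Cfsg.sigmaCore M ⊓ Subgroup.centralizer (K : Set G)) Ustar → Ustar ≠ ⊥) ∧
      ∀ H : Subgroup G, IsCoatom H → (Cfsg.kappa H).Nonempty →
        ∃ g : G, H = M.map (MulAut.conj g).toMonoidHom ∨ H = Mstar.map (MulAut.conj g).toMonoidHom := by
  have D := kData_of_decomp hU hM hKU hK1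
  have P := D.pair_of_hyps hU hMstar hKst hKstH
  refine ⟨or_iff_not_imp_left.2 fun h Ustar hst => ?_, fun H hH hκ => P.two_classes hU hH hκ⟩
  exact ((P.u_ne_bot hU D (kData_of_decomp hU hMstar hst (D.kstar_ne_bot hU))).resolve_left
    fun h' => h h'.1).1

theorem s1370 (M : Subgroup G) (hM : IsCoatom M) (K U : Subgroup G)
    (hKU : Cfsg.IsSigmaDecomposition M K U) (hK1 : K ≠ ⊥) :
    Cfsg.IsTISubset
      ((↑(K ⊔ (Cfsg.sigmaCore M ⊓ Subgroup.centralizer (K : Set G))) : Set G) \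
        ((K : Set G) ∪ ↑(Cfsg.sigmaCore M ⊓ Subgroup.centralizer (K : Set G)))) ∧
      Subgroup.normalizer
        ((↑(K ⊔ (Cfsg.sigmaCore M ⊓ Subgroup.centralizer (K : Set G))) : Set G) \
          ((K : Set G) ∪ ↑(Cfsg.sigmaCore M ⊓ Subgroup.centralizer (K : Set G)))) =
        K ⊔ (Cfsg.sigmaCore M ⊓ Subgroup.centralizer (K : Set G)) :=
  have D := kData_of_decomp hU hM hKU hK1
  ⟨D.hat_isTI hU, D.hat_normalizer hU⟩

/-- The `σ(M)'`-part of an element of `A(M) ∖ M_σ`. -/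
theorem unique_of_mem_sigmaA {M K U : Subgroup G} (hM : IsCoatom M)
    (hKU : Cfsg.IsSigmaDecomposition M K U) {x b : G} (hx : x ∈ Cfsg.sigmaA M U)
    (hb : b ∈ Subgroup.zpowers x) (hb1 : b ≠ 1)
    (hbσ : IsPiNum (Cfsg.sigma M)ᶜ (orderOf b)) :
    Subgroup.centralizer ({b} : Set G) ≤ M ∧
      ∀ L : Subgroup G, IsCoatom L → Subgroup.centralizer ({b} : Set G) ≤ L → L = M := by
  obtain ⟨⟨hxM, y, hy, hy1, hc⟩, hxN⟩ := hx
  have hby : b ∈ M ⊓ Subgroup.centralizer ({y} : Set G) :=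
    Subgroup.mem_inf.2 ⟨Subgroup.zpowers_le.2 hxM hb,
      Subgroup.zpowers_le.2 (Subgroup.mem_centralizer_singleton_iff.2 hc) hb⟩
  rcases hU.dichotomy hM hy hy1 hby hb1 hbσ with ⟨hk, -⟩ | ⟨-, -, h⟩
  · obtain ⟨p, hp, hd, -⟩ := exists_prime_orderOf hb1
    exact absurd (hk p hp hd) ((decomp_relIndex hKU (decomp_hall hU hM hKU)).2 p hp
      (dvd_card_of_mem (Subgroup.zpowers_le.2 hxN hb) hd))
  · exact h

theorem s1362 (M : Subgroup G) (hM : IsCoatom M) (K U : Subgroup G)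
    (hKU : Cfsg.IsSigmaDecomposition M K U) :
    Cfsg.IsTISubset (Cfsg.sigmaA M U \ (Cfsg.sigmaCore M : Set G)) := by
  intro g hg x hx hgx
  exfalso
  refine hg (mem_normalizer_of_invariant (M := M) ?_ ?_)
  · intro m hm a ha
    refine ⟨⟨conj_mem_sigmaHat hm ha.1.1,
      (Subgroup.mem_normalizer_iff.1 (decomp_normal hKU hm) a).1 ha.1.2⟩, fun h => ha.2 ?_⟩
    exact (Subgroup.mem_normalizer_iff.1 (le_normalizer_sigmaCore M hm) a).2 h
  · obtain ⟨a, ha, b, hb, hab, haσ, hbσ⟩ := exists_pi_decomp (Cfsg.sigma M) x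
    have hxM : x ∈ M := hx.1.1.1
    have hb1 : b ≠ 1 := by
      rintro rfl
      rw [mul_one] at hab
      exact hx.2 (hU.mem_sigmaCore_of_order hM hxM (hab ▸ haσ))
    have hb' : g * b * g⁻¹ ∈ Subgroup.zpowers (g * x * g⁻¹) :=
      conj_zpow_mem hb (Subgroup.mem_zpowers _)
    obtain ⟨h1, -⟩ := hU.unique_of_mem_sigmaA hM hKU hx.1 hb hb1 hbσ
    obtain ⟨-, h2⟩ := hU.unique_of_mem_sigmaA hM hKU hgx.1 hb' (mt conj_eq_one_iff.1 hb1)
      (by rwa [orderOf_conj_eq])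
    refine hU.conj_ne hM (h2 _ (OddSigma.isCoatom_conj hM g) ?_)
    rw [OddMax.centralizer_conj]
    exact conj_mono g h1

theorem s1371 (M : Subgroup G) (hM : IsCoatom M) (K U : Subgroup G)
    (hKU : Cfsg.IsSigmaDecomposition M K U) (hK1 : K ≠ ⊥) :
    {a : G | ∃ m ∈ M, ∃ z ∈ ((↑(K ⊔ (Cfsg.sigmaCore M ⊓ Subgroup.centralizer (K : Set G))) : Set G) \
        ((K : Set G) ∪ ↑(Cfsg.sigmaCore M ⊓ Subgroup.centralizer (K : Set G)))), a = m * z * m⁻¹} =
        Cfsg.sigmaA0 M K \ Cfsg.sigmaA M U ∧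
      Cfsg.IsTISubset (Cfsg.sigmaA0 M K \ Cfsg.sigmaA M U) := by
  have D := kData_of_decomp hU hM hKU hK1
  have hUh := decomp_hall hU hM hKU
  set S := {a : G | ∃ m ∈ M, ∃ z ∈ hat M K, a = m * z * m⁻¹} with hS
  have heq : S = Cfsg.sigmaA0 M K \ Cfsg.sigmaA M U := by
    ext a
    constructor
    · rintro ⟨m, hm, z, hz, rfl⟩
      obtain ⟨k, hk, h, hh, hk1, hh1, rfl⟩ := D.mem_hat_iff.1 hz
      have hmem : k * h ∈ Cfsg.sigmaHat M :=
        ⟨mul_mem (D.hall.1 hk) (D.kstar_le hh), h, hh.1, hh1,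
          ((D.commute_k_kstar hk hh).mul_left (Commute.refl h)).eq⟩
      refine ⟨⟨conj_mem_sigmaHat hm hmem, ?_⟩, fun hA => ?_⟩
      · rintro ⟨k', hk', -, n, hn, he⟩
        refine hh1 (eq_one_of_isPiNum (orderOf_mem_sigmaCore hh.1) fun p hp hd hσ => ?_)
        have hp' : p ∣ orderOf k' := by
          have := hd.trans (orderOf_dvd_of_mem_zpowers (D.h_mem_zpowers hk hh))
          rwa [← orderOf_conj_eq m, he, orderOf_conj_eq] at this
        exact (D.hall.2.1 p hp (dvd_card_of_mem hk' hp')).2.2.1 hσ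
      · refine hk1 (eq_one_of_isPiNum (isPiNum_orderOf D.hall.2.1 hk) ?_)
        rw [← orderOf_conj_eq m]
        exact isPiNum_orderOf (decomp_relIndex hKU hUh).2
          (conj_zpow_mem (D.k_mem_zpowers hk hh) hA.2)
    · rintro ⟨⟨haH, hnc⟩, hnA⟩
      have hnN : a ∉ U ⊔ Cfsg.sigmaCore M := fun h => hnA ⟨haH, h⟩
      obtain ⟨haM, y, hy, hy1, hc⟩ := haH
      obtain ⟨s, hs, b, hb, hsb, hsσ, hbσ⟩ := exists_pi_decomp (Cfsg.sigma M) a
      have hsk : IsPiNum (Cfsg.kappa M)ᶜ (orderOf s) :=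
        fun p hp hd hk => hk.2.2.1 (hsσ p hp hd)
      have hbM : b ∈ M := Subgroup.zpowers_le.2 haM hb
      have hb1 : b ≠ 1 := by
        rintro rfl
        rw [mul_one] at hsb
        exact hnN (mem_uh_of_order hKU hUh haM (hsb ▸ hsk))
      have hby : b ∈ M ⊓ Subgroup.centralizer ({y} : Set G) :=
        Subgroup.mem_inf.2 ⟨hbM,
          Subgroup.zpowers_le.2 (Subgroup.mem_centralizer_singleton_iff.2 hc) hb⟩
      rcases hU.dichotomy hM hy hy1 hby hb1 hbσ with ⟨hk, -⟩ | ⟨ht, -, -⟩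
      · obtain ⟨m, hm, hle⟩ := hallOf_conj_ge (hU.solvable hM) hKU.hall
          (U := Subgroup.zpowers b) (Subgroup.zpowers_le.2 hbM) (zpowers_sigma_pi hk)
        have hkK : m⁻¹ * b * m ∈ K := (mem_conj_iff m b K).1 (hle (Subgroup.mem_zpowers b))
        have hk1 : m⁻¹ * b * m ≠ 1 := fun h => hb1 (by
          have h' := congrArg (fun t => m * t * m⁻¹) h
          simpa [mul_assoc] using h')
        have hhH : m⁻¹ * s * m ∈ Cfsg.sigmaCore M := by
          simpa using conj_mem_sigmaCore (inv_mem hm)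
            (hU.mem_sigmaCore_of_order hM (Subgroup.zpowers_le.2 haM hs) hsσ)
        have hh : m⁻¹ * s * m ∈ kStar M K := by
          rw [← D.prime_action _ hkK hk1]
          refine Subgroup.mem_inf.2 ⟨hhH, Subgroup.mem_centralizer_singleton_iff.2 ?_⟩
          have h := commute_of_mem_zpowers hs hb
          calc m⁻¹ * s * m * (m⁻¹ * b * m) = m⁻¹ * (s * b) * m := by group
            _ = m⁻¹ * (b * s) * m := by rw [h]
            _ = _ := by group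
        have hh1 : m⁻¹ * s * m ≠ 1 := fun h => by
          refine hnc ⟨m⁻¹ * b * m, hkK, hk1, m, hm, ?_⟩
          have hs1 : s = 1 := by
            have h' := congrArg (fun t => m * t * m⁻¹) h
            simpa [mul_assoc] using h'
          rw [← hsb, hs1]; group
        refine ⟨m, hm, m⁻¹ * b * m * (m⁻¹ * s * m),
          D.mem_hat_iff.2 ⟨_, hkK, _, hh, hk1, hh1, rfl⟩, ?_⟩
        rw [← hsb, commute_of_mem_zpowers hs hb]; group
      · refine absurd (mem_uh_of_order hKU hUh haM fun p hp hd hk => ?_) hnN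
        have h := hd.trans (hsb ▸ (show Commute s b from commute_of_mem_zpowers hs hb).orderOf_mul_dvd_mul_orderOf)
        rcases hp.dvd_mul.1 h with h | h
        · exact hsk p hp h hk
        · exact hU.not_tau2_of_kappa hk (ht p hp h)
  refine ⟨heq, ?_⟩
  rw [← heq]
  intro g hg x hx hgx
  exfalso
  obtain ⟨m, hm, z, hz, rfl⟩ := hx
  obtain ⟨m', hm', z', hz', he⟩ := hgx
  have hgM : g ∈ M := by
    have h : (m'⁻¹ * g * m) * z * (m'⁻¹ * g * m)⁻¹ ∈ K ⊔ kStar M K := by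
      have : (m'⁻¹ * g * m) * z * (m'⁻¹ * g * m)⁻¹ = z' := by
        calc _ = m'⁻¹ * (g * (m * z * m⁻¹) * g⁻¹) * m' := by group
          _ = _ := by rw [he]; group
      rw [this]; exact hz'.1
    have := mul_mem (mul_mem hm' (D.z_le (D.hat_conj hU hz h))) (inv_mem hm)
    simpa [mul_assoc] using this
  refine hg (mem_normalizer_of_invariant (M := M) ?_ hgM)
  rintro n hn a ⟨m₁, hm₁, z₁, hz₁, rfl⟩
  exact ⟨n * m₁, mul_mem hn hm₁, z₁, hz₁, by group⟩

theorem s1430 (M : Subgroup G) (hM : IsCoatom M) (K : Subgroup G)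
    (hK : Cfsg.IsPiHallOf (Cfsg.kappa M) K M) (hK1 : K ≠ ⊥) :
    (∀ k ∈ K, k ≠ 1 → Cfsg.sigmaCore M ⊓ Subgroup.centralizer ({k} : Set G) =
        (Cfsg.sigmaCore M ⊓ Subgroup.centralizer (K : Set G))) ∧
      (∃ U : Subgroup G, IsMulCommutative U ∧
        Cfsg.IsPiHallOf {q | q.Prime ∧ q ∉ Cfsg.kappa M ∧ q ∉ Cfsg.sigma M} U M ∧
        K ≤ Subgroup.normalizer (U : Set G) ∧
        ∀ k ∈ K, k ≠ 1 → U ⊓ Subgroup.centralizer ({k} : Set G) = ⊥) ∧
      ∀ X : Subgroup G, X ≤ K → (Nat.card X).Prime →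
        M ⊓ Subgroup.normalizer (X : Set G) =
          K ⊔ (Cfsg.sigmaCore M ⊓ Subgroup.centralizer (K : Set G)) ∧
        M ⊓ Subgroup.normalizer (K : Set G) =
          K ⊔ (Cfsg.sigmaCore M ⊓ Subgroup.centralizer (K : Set G)) ∧
        ∀ Mstar : Subgroup G, IsCoatom Mstar → Subgroup.normalizer (X : Set G) ≤ Mstar →
          X ≤ Cfsg.sigmaCore Mstar := by
  obtain ⟨E, U, D⟩ := hU.exists_kData_compl hM hK hK1
  refine ⟨D.prime_action, ⟨U, D.u_comm, ⟨D.u_hall.1, fun p hp hd => ?_, fun p hp hp' => ?_⟩,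
    D.k_normalizes_u, D.u_free⟩, fun X hX hXp => ⟨D.normalizer_inf_prime hX hXp,
    D.normalizer_inf_k, fun L hL hN => (D.le_partner_sigmaCore hU hX hXp hL hN).2⟩⟩
  · exact ⟨hp, fun h => D.u_hall.2.1 p hp hd (Or.inl h), fun h => D.u_hall.2.1 p hp hd (Or.inr h)⟩
  · exact D.u_hall.2.2 p hp fun h => h.elim hp'.2.1 hp'.2.2

theorem s1431 (M : Subgroup G) (hM : IsCoatom M) (K : Subgroup G)
    (hK : Cfsg.IsPiHallOf (Cfsg.kappa M) K M) (hK1 : K ≠ ⊥) :
    (∀ g : G, g ∉ M → (Cfsg.sigmaCore M ⊓ Subgroup.centralizer (K : Set G)) ⊓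
        M.map (MulAut.conj g).toMonoidHom = ⊥) ∧
      (∀ g ∈ M, g ∉ K ⊔ (Cfsg.sigmaCore M ⊓ Subgroup.centralizer (K : Set G)) →
        K ⊓ K.map (MulAut.conj g).toMonoidHom = ⊥) ∧
      (∀ (p : ℕ), p.Prime →
        p ∣ Nat.card ↥(Cfsg.sigmaCore M ⊓ Subgroup.centralizer (K : Set G)) →
        ∀ S : Sylow p ↥(Cfsg.sigmaCore M),
        Cfsg.InUniqueMaximal ((S : Subgroup ↥(Cfsg.sigmaCore M)).map (Cfsg.sigmaCore M).subtype) ∧
        (S : Subgroup ↥(Cfsg.sigmaCore M)).map (Cfsg.sigmaCore M).subtype ≤ M ∧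
        ¬ (S : Subgroup ↥(Cfsg.sigmaCore M)).map (Cfsg.sigmaCore M).subtype ≤
          (Cfsg.sigmaCore M ⊓ Subgroup.centralizer (K : Set G))) ∧
      ∀ Y : Subgroup G, (∀ p : ℕ, p.Prime → p ∣ Nat.card Y → p ∈ Cfsg.sigma M) →
        Y ⊓ (Cfsg.sigmaCore M ⊓ Subgroup.centralizer (K : Set G)) ≠ ⊥ →
        Y ≤ Cfsg.sigmaCore M := by
  obtain ⟨E, U, D⟩ := hU.exists_kData_compl hM hK hK1
  exact ⟨fun g hg => D.kstar_inf_conj hU hg, fun g hg hgZ => D.k_inf_conj hU hg hgZ,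
    fun p hp hd S => D.sylow_sigmaCore hU hp hd S, fun Y hY hne => D.le_sigmaCore_of_meet hU hY hne⟩

theorem s1432 (M : Subgroup G) (hM : IsCoatom M) (x : G) (hx : x ∈ Cfsg.sigmaCore M) (hx1 : x ≠ 1)
    (x' : G) (hx' : x' ∈ M ⊓ Subgroup.centralizer ({x} : Set G)) (hx'1 : x' ≠ 1)
    (hσ : ∀ p : ℕ, p.Prime → p ∣ orderOf x' → p ∉ Cfsg.sigma M) :
    ((∀ p : ℕ, p.Prime → p ∣ orderOf x' → p ∈ Cfsg.kappa M) ∧
        Subgroup.centralizer ({x} : Set G) ≤ M) ∨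
      ((∀ p : ℕ, p.Prime → p ∣ orderOf x' → p ∈ Cfsg.tau2 M) ∧
        (∃ L : Subgroup G, IsCoatom L ∧ ∀ p : ℕ, p.Prime → p ∣ orderOf x' → p ∈ Cfsg.sigma L) ∧
        (Subgroup.centralizer ({x'} : Set G) ≤ M ∧
          ∀ L : Subgroup G, IsCoatom L → Subgroup.centralizer ({x'} : Set G) ≤ L → L = M)) :=
  hU.dichotomy hM hx hx1 hx' hx'1 hσ

theorem s1433 (M N : Subgroup G) (hM : IsCoatom M) (hN : IsCoatom N) (x y : G)
    (hx : x ∈ Cfsg.sigmaCore M) (hy : y ∈ Cfsg.sigmaCore N)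
    (hx1 : x ≠ 1) (hy1 : y ≠ 1) (hxy : x ≠ y) :
    ∀ r ∈ Cfsg.supportR M x, ∀ s ∈ Cfsg.supportR N y, x * r ≠ y * s :=
  hU.cosets_disjoint hM hN hx hy hx1 hy1 hxy

theorem s1434 (M : Subgroup G) (hM : IsCoatom M) (K U : Subgroup G)
    (hKU : Cfsg.IsSigmaDecomposition M K U) (hK1 : K ≠ ⊥) (Mstar : Subgroup G)
    (hMstar : IsCoatom Mstar)
    (hKst : K = Cfsg.sigmaCore Mstar ⊓
      Subgroup.centralizer ((Cfsg.sigmaCore M ⊓ Subgroup.centralizer (K : Set G)) : Set G))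
    (hKstH : Cfsg.IsPiHallOf (Cfsg.kappa Mstar)
      (Cfsg.sigmaCore M ⊓ Subgroup.centralizer (K : Set G)) Mstar) :
    Cfsg.kappa M = Cfsg.tau1 M ∧
      Cfsg.IsPiHallOf (Cfsg.sigma M) (Cfsg.sigmaCore M ⊓ Subgroup.centralizer (K : Set G)) Mstar ∧
      (∀ x ∈ K, x ≠ 1 → ∀ y ∈ (Cfsg.sigmaCore M ⊓ Subgroup.centralizer (K : Set G)), y ≠ 1 →
        M ⊓ Subgroup.centralizer ({x} : Set G) =
          K ⊔ (Cfsg.sigmaCore M ⊓ Subgroup.centralizer (K : Set G)) ∧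
        Mstar ⊓ Subgroup.centralizer ({y} : Set G) =
          K ⊔ (Cfsg.sigmaCore M ⊓ Subgroup.centralizer (K : Set G)) ∧
        Subgroup.centralizer ({x * y} : Set G) =
          K ⊔ (Cfsg.sigmaCore M ⊓ Subgroup.centralizer (K : Set G))) ∧
      (∀ g : G, g ∉ M → ∀ z ∈ ((↑(K ⊔ (Cfsg.sigmaCore M ⊓ Subgroup.centralizer (K : Set G))) : Set G) \
          ((K : Set G) ∪ ↑(Cfsg.sigmaCore M ⊓ Subgroup.centralizer (K : Set G)))),
        z ∉ M.map (MulAut.conj g).toMonoidHom) ∧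
      Nat.card K * Nat.card ↥(Cfsg.sigmaCore M ⊓ Subgroup.centralizer (K : Set G)) *
          Set.ncard {a : G | ∃ g : G, ∃ z ∈ ((↑(K ⊔ (Cfsg.sigmaCore M ⊓ Subgroup.centralizer (K : Set G))) : Set G) \
            ((K : Set G) ∪ ↑(Cfsg.sigmaCore M ⊓ Subgroup.centralizer (K : Set G)))), a = g * z * g⁻¹} =
        (Nat.card K * Nat.card ↥(Cfsg.sigmaCore M ⊓ Subgroup.centralizer (K : Set G)) - Nat.card K -
          Nat.card ↥(Cfsg.sigmaCore M ⊓ Subgroup.centralizer (K : Set G)) + 1) * Nat.card G ∧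
      Nat.card G < 2 * Set.ncard {a : G | ∃ g : G, ∃ z ∈ ((↑(K ⊔ (Cfsg.sigmaCore M ⊓ Subgroup.centralizer (K : Set G))) : Set G) \
            ((K : Set G) ∪ ↑(Cfsg.sigmaCore M ⊓ Subgroup.centralizer (K : Set G)))), a = g * z * g⁻¹} := by
  have D := kData_of_decomp hU hM hKU hK1
  have P := D.pair_of_hyps hU hMstar hKst hKstH
  obtain ⟨E₂, U₂, D₂⟩ := P.right
  refine ⟨D.kappa_eq_tau1 hU, P.hall_kstar hU, fun x hx hx1 y hy hy1 => ⟨D.inf_centralizer_eq hU hx hx1,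
    ?_, ?_⟩, fun g hg z hz hzg => ?_, ?_, P.lt_two_mul_conjugates hU⟩
  · have h := D₂.inf_centralizer_eq hU hy hy1
    rw [P.star_star] at h
    exact h.trans (sup_comm _ _)
  · refine le_antisymm ?_ ?_
    · refine le_trans (le_inf ?_ (centralizer_le_of_mem_zpowers (D.k_mem_zpowers hx hy)))
        (D.inf_centralizer_eq hU hx hx1).le
      exact (centralizer_le_of_mem_zpowers (D.h_mem_zpowers hx hy)).trans
        (D.centralizer_kstar_le hU hy hy1)
    · intro w hw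
      have := (P.isCyclic_z hU).isMulCommutative
      exact Subgroup.mem_centralizer_singleton_iff.2
        (setLike_mul_comm (S := Subgroup G) (s := K ⊔ kStar M K) hw (Subgroup.mul_mem_sup hx hy))
  · obtain ⟨k, hk, h, hh, -, hh1, rfl⟩ := D.mem_hat_iff.1 hz
    refine hh1 (Subgroup.mem_bot.1 (D.kstar_inf_conj hU hg ▸ Subgroup.mem_inf.2 ⟨hh, ?_⟩))
    exact Subgroup.zpowers_le.2 hzg (D.h_mem_zpowers hk hh)
  · refine (D.ncard_hat_conjugates hU).trans ?_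
    have h := D.ncard_hat
    have hpos : 0 < Set.ncard (hat M K) :=
      (Set.ncard_pos (Set.toFinite _)).2 (D.hat_nonempty hU)
    congr 1
    simp only [kStar, hat] at h hpos ⊢
    omega

end Upstream

end Cfsg.Agent.OddOrder14
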