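import Cfsg.Agent.Lib.OddOrder14.Normalizer

/-!
# Bender-Glauberman 14.13: the maximal subgroups over `C(x)`, `x ∈ M_σ^#`

* `Upstream.exists_conj_signalizer`: conjugate signalizers are conjugate under `M`
* `Upstream.kappa_empty_of_sigma`, `Upstream.tau2_empty_of_sigma`: if some prime of `σ(N)` divides
  `|M|` then `κ(M) = τ₂(M) = ∅`
-/

set_option autoImplicit false
set_option linter.unusedSectionVars false

open scoped Pointwise commutatorElement

universe u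

namespace Cfsg.Agent.OddOrder14

open Cfsg.Agent.Solvable

variable {G : Type u} [Group G] [Finite G]

namespace Upstream

variable (hU : Upstream G) {M N : Subgroup G} {x : G}
include hU

theorem signalizer_of_le (hM : IsCoatom M) (hx : x ∈ Cfsg.sigmaCore M) (hx1 : x ≠ 1)
    (hxM : ¬ Subgroup.centralizer ({x} : Set G) ≤ M) (hN : IsCoatom N)
    (hxN : Subgroup.centralizer ({x} : Set G) ≤ N) : OddMax.IsSignalizer M x N := by
  obtain ⟨N₀, h⟩ := OddMax.exists_signalizer hU.hG hU.sigFacts hM hx hx1 hxM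
  rwa [h.unique N hN hxN]

theorem signalizer_primes (hx : x ∈ Cfsg.sigmaCore M) (hx1 : x ≠ 1)
    (hS : OddMax.IsSignalizer M x N) : ∃ s, s ∈ Cfsg.sigma M ∧ s ∈ Cfsg.tau2 N := by
  obtain ⟨s, hs, hsd, -⟩ := exists_prime_orderOf hx1
  exact ⟨s, orderOf_mem_sigmaCore hx s hs hsd, hS.tau2 s hs hsd⟩

theorem signalizer_disjoint (hM : IsCoatom M) (hS : OddMax.IsSignalizer M x N) {p : ℕ}
    (hp : p ∈ Cfsg.sigma M) : p ∉ Cfsg.sigma N := fun h => by
  obtain ⟨g, hg⟩ := hU.conj_of_sigma hM hS.coatom hp h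
  exact hS.not_conj g hg

/-- **BG 14.13 (b)**. -/
theorem exists_conj_signalizer (hM : IsCoatom M) (hx : x ∈ Cfsg.sigmaCore M) (hx1 : x ≠ 1)
    (hS : OddMax.IsSignalizer M x N) {y : G} {N' : Subgroup G}
    (hS' : OddMax.IsSignalizer M y N') {g : G} (hg : MulAut.conj g • N' = N) :
    ∃ m ∈ M, MulAut.conj m • N' = N := by
  obtain ⟨s, hsσ, hs2⟩ := hU.signalizer_primes hx hx1 hS
  have := Fact.mk hs2.1
  have hE := compl_hall hU hS.coatom hS.compl
  have hle : MulAut.conj g • (M ⊓ N') ≤ N := hg ▸ conj_mono g inf_le_right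
  have hcard : Nat.card ↥(MulAut.conj g • (M ⊓ N')) = Nat.card ↥(M ⊓ N) := by
    rw [card_conj]
    have h1 := compl_card hS.compl
    have h2 := compl_card hS'.compl
    have h3 : Nat.card (Cfsg.sigmaCore N) = Nat.card (Cfsg.sigmaCore N') := by
      rw [← hg, sigmaCore_conj, card_conj]
    have h4 : Nat.card N = Nat.card N' := by rw [← hg, card_conj]
    rw [h3, h4] at h1
    exact Nat.eq_of_mul_eq_mul_right Nat.card_pos (h2.trans h1.symm)
  obtain ⟨n, hn, he⟩ := hallOf_conj (hU.solvable hS.coatom) (hallOf_of_card hE hle hcard) hE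
  have hN' : MulAut.conj (n * g) • N' = N := by rw [← conj_conj, hg, conj_eq_self hn]
  refine ⟨n * g, ?_, hN'⟩
  obtain ⟨A, hAE, hA, hAc⟩ := hU.exists_elementary_compl hS.coatom hS.compl hs2
  have hAM : A ≤ M := hAE.trans inf_le_left
  have hA1 : A ≠ ⊥ := fun h => by
    rw [h, Subgroup.card_bot] at hAc
    exact (Nat.one_lt_pow two_ne_zero hs2.1.one_lt).ne hAc
  have hback : MulAut.conj (n * g)⁻¹ • A ≤ M := by
    have h : A ≤ MulAut.conj (n * g) • M := by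
      refine hAE.trans ?_
      rw [← he, conj_conj]
      exact conj_mono _ inf_le_left
    have := conj_mono (n * g)⁻¹ h
    rwa [conj_inv_smul] at this
  obtain ⟨m, hm, c, hc, hmc⟩ := (hU.s1404 M hM s hsσ A (IsPGroup.of_card hAc) hA1 hAM).1 _ hback
  have hcM : c ∈ M := (hU.s1416 M hM s A ⟨hAM, hA, hAc⟩).1 hc
  rw [← inv_mem_iff, hmc]
  exact mul_mem hm hcM

/-- **BG 14.13 (a)**, first part. -/
theorem kappa_empty_of_sigma (hM : IsCoatom M) (hx : x ∈ Cfsg.sigmaCore M) (hx1 : x ≠ 1)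
    (hS : OddMax.IsSignalizer M x N) {p : ℕ} (hp : p ∈ Cfsg.sigma N) (hpM : p ∣ Nat.card M) :
    Cfsg.kappa M = ∅ := by
  rw [Set.eq_empty_iff_forall_notMem]
  intro r hr
  obtain ⟨s, hsσ, hs2⟩ := hU.signalizer_primes hx hx1 hS
  obtain ⟨K, hK⟩ := exists_hallOf (hU.solvable hM) (Cfsg.kappa M)
  have hK1 : K ≠ ⊥ := fun h => hK.2.2 r hr.1 hr (by
    rw [h, Subgroup.relIndex_bot_left]; exact hr.2.1)
  obtain ⟨E, U, D⟩ := hU.exists_kData_compl hM hK hK1
  have hU1 : U = ⊥ := by_contra fun h => D.not_tau2_of_sigma hU h hS.coatom hsσ hs2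
  have hpσ : p ∉ Cfsg.sigma M := fun h => hU.signalizer_disjoint hM hS h hp
  have hpK : p ∣ Nat.card K := by
    rw [← OddOrder14.compl_card D.compl, D.card_compl, hU1, Subgroup.card_bot, one_mul] at hpM
    exact (hp.1.dvd_mul.1 hpM).resolve_right fun h => hpσ (mem_sigma_of_dvd_sigmaCore hp.1 h)
  obtain ⟨L, P⟩ := D.exists_pair hU
  obtain ⟨E₂, U₂, D₂⟩ := P.right
  have hpL : p ∈ Cfsg.sigma L :=
    mem_sigma_of_dvd_sigmaCore hp.1 (hpK.trans (Subgroup.card_dvd_of_le P.k_le_sigmaCore))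
  obtain ⟨g, hg⟩ := hU.conj_of_sigma D₂.isCoatom hS.coatom hpL hp
  obtain ⟨A, hAN, hA, hAc⟩ := hU.exists_elementary_of_tau2 hS.coatom hs2
  have hAL : MulAut.conj g⁻¹ • A ≤ L := by
    have h := conj_mono g⁻¹ hAN
    rwa [hg, conj_inv_smul] at h
  have hsL : s ∣ Nat.card L :=
    (dvd_pow_self s two_ne_zero).trans (hAc ▸ card_conj g⁻¹ A ▸ Subgroup.card_dvd_of_le hAL)
  have hsκ : s ∈ Cfsg.kappa L := by
    rw [← card_mul_relIndex D₂.hall.1] at hsL
    exact D₂.hall.2.1 s hs2.1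
      ((hs2.1.dvd_mul.1 hsL).resolve_right ((P.hall_kstar hU).2.2 s hs2.1 hsσ))
  exact hU.not_kappa_of_elementary hAL (isElementaryAbelian_conj hA _) (by rw [card_conj, hAc]) hsκ

/-- A `σ(N)'`-subgroup of `C(v)` is conjugate in `C(v)` into `N₁`, for the signalizer `N₃` of
`(N₁, v)`. -/
theorem exists_centralizer_conj_le {N₁ N₃ : Subgroup G} {v : G}
    (hS : OddMax.IsSignalizer N₁ v N₃) {B : Subgroup G}
    (hB : B ≤ Subgroup.centralizer ({v} : Set G))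
    (hπ : IsPiNum (Cfsg.sigma N₃)ᶜ (Nat.card B)) :
    ∃ c ∈ Subgroup.centralizer ({v} : Set G), B ≤ MulAut.conj c • N₁ := by
  have := hU.solvable hS.coatom
  have hsol : Group.IsSolvable ↥(Subgroup.centralizer ({v} : Set G)) := isSolvable_of_le hS.le
  have hall : Cfsg.IsPiHallOf (Cfsg.sigma N₃)ᶜ (N₁ ⊓ Subgroup.centralizer ({v} : Set G))
      (Subgroup.centralizer ({v} : Set G)) := by
    refine ⟨inf_le_right, fun q hq hd => ?_, fun q hq hq' hd => ?_⟩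
    · exact (compl_hall hU hS.coatom hS.compl).2.1 q hq
        (hd.trans (Subgroup.card_dvd_of_le (le_inf inf_le_left (inf_le_right.trans hS.le))))
    · rw [OddMax.compl_relIndex_right hS.compl_centralizer] at hd
      exact hq' (mem_sigma_of_dvd_sigmaCore hq (hd.trans (Subgroup.card_dvd_of_le inf_le_left)))
  obtain ⟨c, hc, hle⟩ := hallOf_conj_ge hsol hall hB hπ
  exact ⟨c, hc, hle.trans (conj_mono c inf_le_left)⟩

/-- A conjugate `N₂` of `N` with a `τ₁ ∪ τ₃`-subgroup `⟨v⟩` of `M` in its core and containing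
`A ∩ C(v)`. -/
theorem exists_conj_containing (hM : IsCoatom M) (hN : IsCoatom N) {s t p : ℕ}
    (hsσ : s ∈ Cfsg.sigma M) (hs2 : s ∈ Cfsg.tau2 N) (ht : t ∈ Cfsg.tau2 M)
    (htN : t ∉ Cfsg.sigma N) (hp : p ∈ Cfsg.sigma N) {v : G} (hv : orderOf v = p) {B : Subgroup G}
    (hB : B ≤ Subgroup.centralizer ({v} : Set G)) (hBt : IsPGroup t B) :
    ∃ a : G, v ∈ Cfsg.sigmaCore (MulAut.conj a • N) ∧ B ≤ MulAut.conj a • N := by
  have := Fact.mk hp.1
  have := Fact.mk hs2.1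
  have hv1 : v ≠ 1 := ne_one_of_orderOf hp.1 hv
  obtain ⟨g, hg⟩ := hU.s1425 N hN (Subgroup.zpowers v) (zpowers_ne_bot hp.1 hv)
    (isPiNum_of_card_prime hp.1 (card_zpowers' hv) hp)
  rw [map_conj_eq] at hg
  have hv' : v ∈ Cfsg.sigmaCore (MulAut.conj g⁻¹ • N) := by
    rw [sigmaCore_conj]
    have h := conj_mono g⁻¹ hg
    rw [conj_inv_smul] at h
    exact h (Subgroup.mem_zpowers v)
  set N₁ := MulAut.conj g⁻¹ • N with hN₁def
  have hN₁ : IsCoatom N₁ := OddSigma.isCoatom_conj hN _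
  by_cases hC : Subgroup.centralizer ({v} : Set G) ≤ N₁
  · exact ⟨g⁻¹, hv', hB.trans hC⟩
  obtain ⟨N₃, hS₃⟩ := OddMax.exists_signalizer hU.hG hU.sigFacts hN₁ hv' hv1 hC
  have hp3 : p ∈ Cfsg.tau2 N₃ := hS₃.tau2 p hp.1 hv.symm.dvd
  have hσ1 : Cfsg.sigma N₁ = Cfsg.sigma N := sigma_conj _ N
  have hs1 : s ∈ Cfsg.tau2 N₁ := by
    obtain ⟨A, hAN, hA, hAc⟩ := hU.exists_elementary_of_tau2 hN hs2
    exact hU.mem_tau2_of_elementary hN₁ hs2.1 (conj_mono g⁻¹ hAN) (isElementaryAbelian_conj hA _)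
      (by rw [card_conj, hAc]) (hσ1.symm ▸ hs2.2.1)
  have ht3 : t ∉ Cfsg.sigma N₃ := fun h => by
    have h1 := hU.lt_of_cross hS₃.coatom hM h ht hp3
    have h2 := hU.lt_of_cross hN₁ hS₃.coatom (hσ1.symm ▸ hp) hp3 hs1
    have h3 := hU.lt_of_cross hM hN hsσ hs2 ht
    omega
  have := Fact.mk ht.1
  obtain ⟨j, hj⟩ := hBt.exists_card_eq
  obtain ⟨c, hc, hle⟩ := hU.exists_centralizer_conj_le hS₃ hB (hj ▸ isPiNum_pow ht.1 ht3 j)
  refine ⟨c * g⁻¹, ?_, by rwa [← conj_conj]⟩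
  rw [← conj_conj, sigmaCore_conj, mem_conj_iff]
  have hcv : c⁻¹ * v * c = v := by
    rw [mul_assoc, ← (Subgroup.mem_centralizer_singleton_iff.1 hc), inv_mul_cancel_left]
  rw [hcv]
  exact hv'

/-- **BG 14.13 (a)**, second part. -/
theorem tau2_empty_of_sigma (hM : IsCoatom M) (hx : x ∈ Cfsg.sigmaCore M) (hx1 : x ≠ 1)
    (hS : OddMax.IsSignalizer M x N) {p : ℕ} (hp : p ∈ Cfsg.sigma N) (hpM : p ∣ Nat.card M) :
    Cfsg.tau2 M = ∅ := by
  have hκ := hU.kappa_empty_of_sigma hM hx hx1 hS hp hpM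
  rw [Set.eq_empty_iff_forall_notMem]
  intro t ht
  obtain ⟨s, hsσ, hs2⟩ := hU.signalizer_primes hx hx1 hS
  have hN := hS.coatom
  have hdis : ∀ u, u ∈ Cfsg.tau2 M → u ∉ Cfsg.sigma N := fun u hu h => by
    have h1 := hU.lt_of_cross hN hM h hu hs2
    have h2 := hU.lt_of_cross hM hN hsσ hs2 hu
    omega
  have hpσ : p ∉ Cfsg.sigma M := fun h => hU.signalizer_disjoint hM hS h hp
  have := Fact.mk hp.1
  have := Fact.mk ht.1
  obtain ⟨E, hE, -⟩ := hU.exists_compl_ge hM (U := ⊥) bot_le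
    (by rw [Subgroup.card_bot]; exact isPiNum_one)
  have hpE : p ∣ Nat.card E := by
    rw [← OddOrder14.compl_card hE] at hpM
    exact (hp.1.dvd_mul.1 hpM).resolve_right fun h => hpσ (mem_sigma_of_dvd_sigmaCore hp.1 h)
  obtain ⟨v₀, hv₀⟩ := exists_prime_orderOf_dvd_card' (G := E) p hpE
  set v : G := (v₀ : G) with hvdef
  have hvE : v ∈ E := v₀.2
  have hvo : orderOf v = p := by rw [hvdef, Subgroup.orderOf_coe, hv₀]
  set P := Subgroup.zpowers v with hPdef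
  have hPE : P ≤ E := Subgroup.zpowers_le.2 hvE
  have hPc : Nat.card P = p := card_zpowers' hvo
  have hp13 : p ∈ Cfsg.tau1 M ∪ Cfsg.tau3 M := by
    rcases hU.tau_cases hM hp.1 hpM hpσ with h | h | h
    · exact Or.inl h
    · exact absurd hp (hdis p h)
    · exact Or.inr h
  have hpt : p ≠ t := fun h => hdis t ht (h ▸ hp)
  have hPfix : Cfsg.sigmaCore M ⊓ Subgroup.centralizer (P : Set G) = ⊥ := by
    rw [hPdef, centralizer_zpowers_eq]
    by_contra hne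
    exact (hκ.le (hU.mem_kappa_of_centralizes hM hp13 (hE.1 hvE) hvo hne)).elim
  obtain ⟨A, hAE, hA, hAc⟩ := hU.exists_elementary_compl hM hE ht
  have hAM : A ≤ M := hAE.trans hE.1
  have hPA : P ≤ Subgroup.normalizer (A : Set G) :=
    hPE.trans (hU.s1418 M hM E hE t ht A ⟨hAE, hA, hAc⟩).1.1
  have hAfix := (hU.s1417 M hM t ht A ⟨hAM, hA, hAc⟩).2.2.2.1
  have hAcop : (Nat.card P).Coprime (Nat.card A) := by
    rw [hPc, hAc]
    exact ((Nat.coprime_primes hp.1 ht.1).2 hpt).pow_right 2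
  have := hU.solvable hM
  -- a subgroup of `A` on which `P` acts freely centralises `M_σ`
  have hfree : ∀ X : Subgroup G, X ≤ A → P ≤ Subgroup.normalizer (X : Set G) →
      X ⊓ Subgroup.centralizer (P : Set G) = ⊥ →
        X ≤ Subgroup.centralizer (Cfsg.sigmaCore M : Set G) := by
    intro X hX hPX hfix
    refine centralizes_of_fpf (hPc.symm ▸ hp.1)
      (isSolvable_of_le (sup_le (sigmaCore_le M) (hX.trans hAM)))
      ((hX.trans hAM).trans (le_normalizer_sigmaCore M)) hPX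
      ((hPE.trans hE.1).trans (le_normalizer_sigmaCore M)) ?_ hfix hPfix
    refine Nat.Coprime.coprime_dvd_left (Subgroup.card_dvd_of_le hX) ?_
    rw [hAc]
    exact IsPiNum.coprime (π := (Cfsg.sigma M)ᶜ) (isPiNum_pow ht.1 ht.2.1 2)
      (by rw [compl_compl]; exact isPiNum_sigmaCore M)
  set B := A ⊓ Subgroup.centralizer (P : Set G) with hBdef
  have hBC : B ≤ Subgroup.centralizer ({v} : Set G) := by
    rw [← centralizer_zpowers_eq]; exact inf_le_right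
  have hB1 : B ≠ ⊥ := fun h => hU.sigmaCore_ne_bot hM (le_bot_iff.1 ((le_inf le_rfl
    (Subgroup.le_centralizer_iff.1 (hfree A le_rfl hPA h))).trans hAfix.le))
  obtain ⟨a, hva, hBa⟩ := hU.exists_conj_containing hM hN hsσ hs2 ht (hdis t ht) hp hvo hBC
    ((IsPGroup.of_card hAc).to_le inf_le_left)
  set N₂ := MulAut.conj a • N with hN₂def
  have hN₂ : IsCoatom N₂ := OddSigma.isCoatom_conj hN a
  have hσ2 : Cfsg.sigma N₂ = Cfsg.sigma N := sigma_conj a N
  have hne : M ≠ N₂ := fun h => by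
    have := hS.not_conj a⁻¹
    rw [h, hN₂def, conj_inv_smul] at this
    exact this rfl
  -- `A` is not in `N₂`
  have hA2 : ¬ A ≤ N₂ := fun hle => by
    have ht2 : t ∈ Cfsg.tau2 N₂ :=
      hU.mem_tau2_of_elementary hN₂ ht.1 hle hA hAc (hσ2.symm ▸ hdis t ht)
    have h := (hU.s1417 N₂ hN₂ t ht2 A ⟨hle, hA, hAc⟩).2.2.2.2.1 M hM hne hAM
    exact ne_one_of_orderOf hp.1 hvo
      (Subgroup.mem_bot.1 (h ▸ Subgroup.mem_inf.2 ⟨hva, hE.1 hvE⟩))
  obtain ⟨y, hy, hy1⟩ := B.bot_or_exists_ne_one.resolve_left hB1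
  have hyo : orderOf y = t := orderOf_eq_prime (hA.2 _ hy.1) hy1
  have hyv : y ∈ N₂ ⊓ Subgroup.centralizer ({v} : Set G) := Subgroup.mem_inf.2 ⟨hBa hy, hBC hy⟩
  rcases hU.dichotomy hN₂ hva (ne_one_of_orderOf hp.1 hvo) hyv hy1 (fun q hq hd => by
      rw [hyo, Nat.prime_dvd_prime_iff_eq hq ht.1] at hd
      exact hd ▸ hσ2.symm ▸ hdis t ht) with ⟨hκ2, -⟩ | ⟨-, -, hC, -⟩
  swap
  · exact hA2 (le_trans (fun w hw =>
      Subgroup.mem_centralizer_singleton_iff.2 (OddSigma.elem_comm hA hw hy.1)) hC)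
  -- the case `t ∈ κ(N₂)`
  have htκ := hκ2 t ht.1 hyo.symm.dvd
  obtain ⟨K', hK', hyK⟩ := exists_hallOf_ge (π := Cfsg.kappa N₂) (hU.solvable hN₂)
    (Subgroup.zpowers_le.2 (hBa hy)) (isPiNum_of_card_prime ht.1 (card_zpowers' hyo) htκ)
  have hK'1 : K' ≠ ⊥ := fun h => hy1 (Subgroup.mem_bot.1 (h ▸ hyK (Subgroup.mem_zpowers y)))
  obtain ⟨E', U', D'⟩ := hU.exists_kData_compl hN₂ hK' hK'1
  obtain ⟨As, hAsN, hAs, hAsc⟩ := hU.exists_elementary_of_tau2 hN hs2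
  have hAs2 : MulAut.conj a • As ≤ N₂ := conj_mono a hAsN
  have hse := isElementaryAbelian_conj hAs a
  have hsc : Nat.card ↥(MulAut.conj a • As) = s ^ 2 := by rw [card_conj, hAsc]
  have hs' : s ∈ (Cfsg.kappa N₂ ∪ Cfsg.sigma N₂)ᶜ := by
    rintro (h | h)
    · exact hU.not_kappa_of_elementary hAs2 hse hsc h
    · exact hs2.2.1 (hσ2 ▸ h)
  have := Fact.mk hs2.1
  obtain ⟨n, hn, hAn⟩ := hallOf_conj_ge (hU.solvable hN₂) D'.u_hall hAs2
    (hsc ▸ isPiNum_pow hs2.1 hs' 2)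
  set A' := MulAut.conj n⁻¹ • (MulAut.conj a • As) with hA'def
  have hA'U : A' ≤ U' := by
    have h := conj_mono n⁻¹ hAn
    rwa [conj_inv_smul] at h
  have hA'c : Nat.card A' = s ^ 2 := by rw [hA'def, card_conj, hsc]
  have hsU : s ∣ Nat.card U' :=
    (dvd_pow_self s two_ne_zero).trans (hA'c ▸ Subgroup.card_dvd_of_le hA'U)
  have hU'1 : U' ≠ ⊥ := fun h => by
    rw [h, Subgroup.card_bot] at hsU
    exact hs2.1.not_dvd_one hsU
  have hK'p := (D'.u_ne_bot_facts hU hU'1).2.2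
  have hK'eq : Subgroup.zpowers y = K' :=
    zpowers_eq_of_prime_card hK'p (hyK (Subgroup.mem_zpowers y)) hy1
  obtain ⟨L', P'⟩ := D'.exists_pair hU
  obtain ⟨R, hRU, hRp, hRi⟩ := exists_sylow_sub U' s
  obtain ⟨H, hH, hNH⟩ := OddSigma.exists_coatom
    (OddSigma.normalizer_ne_top hU.hG (sylow_ne_bot hRU hsU hRi)
      fun h => hN₂.1 (top_le_iff.1 (h ▸ hRU.trans D'.u_hall.1)))
  have T : NData N₂ K' E' U' L' s R H :=
    ⟨D', P', hU'1, hH, hs2.1, hsU, hRU, hRp, hRi, hNH⟩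
  obtain ⟨b, hb⟩ := hU.conj_of_sigma hM hH hsσ (T.mem_sigma_of_dvd hU hs2.1 hsU)
  -- an element of order `t` centralising `H_σ`
  set W := ⁅A, P⁆ with hWdef
  have hWA : W ≤ A := Subgroup.le_normalizer_iff_commutator_le_left.1 hPA
  have := hA.1
  have hWfix : W ⊓ Subgroup.centralizer (P : Set G) = ⊥ := le_bot_iff.1
    ((le_inf (le_inf (inf_le_left.trans hWA) inf_le_right) inf_le_left).trans
      (Coprime.abelian_inf_eq_bot hPA hAcop).le)
  have hW1 : W ≠ ⊥ := fun h => hA2 (by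
    have hAC : A ≤ B := le_inf le_rfl
      (Subgroup.commutator_eq_bot_iff_le_centralizer.1 h)
    exact hAC.trans hBa)
  have hPW : P ≤ Subgroup.normalizer (W : Set G) := Subgroup.normalizer_commutator_ge_right A P
  obtain ⟨w, hw, hw1⟩ := W.bot_or_exists_ne_one.resolve_left hW1
  have hwo : orderOf w = t := orderOf_eq_prime (hA.2 _ (hWA hw)) hw1
  have hwC := hfree W hWA hPW hWfix hw
  set w' := b * w * b⁻¹ with hw'def
  have hw'o : orderOf w' = t := (orderOf_conj_eq b w).trans hwo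
  have hw'H : w' ∈ H := hb ▸ Coprime.conj_mem_conj.2 (hAM (hWA hw))
  have hw'C : ∀ z ∈ Cfsg.sigmaCore H, z * w' = w' * z := by
    intro z hz
    rw [hb, sigmaCore_conj, mem_conj_iff] at hz
    have h := hwC _ hz
    calc z * w' = b * (b⁻¹ * z * b * w) * b⁻¹ := by rw [hw'def]; group
      _ = b * (w * (b⁻¹ * z * b)) * b⁻¹ := by rw [h]
      _ = w' * z := by rw [hw'def]; group
  have hA'N : A' ≤ N₂ := hA'U.trans D'.u_hall.1
  have hw'N : w' ∈ N₂ := (hU.s1416 N₂ hN₂ s A'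
    ⟨hA'N, isElementaryAbelian_conj hse _, hA'c⟩).1
    fun z hz => hw'C z (T.u_le_sigmaCore hU (hA'U hz))
  have hw'UK : w' ∈ U' ⊔ K' := (T.inf_eq hU).le (Subgroup.mem_inf.2 ⟨hw'N, hw'H⟩)
  have hUK : U' ⊔ K' ≤ N₂ := sup_le D'.u_hall.1 D'.hall.1
  have := hU.solvable hN₂
  obtain ⟨m, hm, hmle⟩ := hallOf_conj_ge (isSolvable_of_le hUK)
    (hallOf_sub D'.hall le_sup_right hUK) (Subgroup.zpowers_le.2 hw'UK)
    (isPiNum_of_card_prime ht.1 (card_zpowers' hw'o) htκ)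
  have hmH : m ∈ H := sup_le T.u_le T.k_le hm
  have hk : m⁻¹ * w' * m ∈ K' := (mem_conj_iff m w' K').1 (hmle (Subgroup.mem_zpowers w'))
  have hk1 : m⁻¹ * w' * m ≠ 1 := fun h => by
    refine ne_one_of_orderOf ht.1 hw'o ?_
    have h' := congrArg (fun z => m * z * m⁻¹) h
    simpa [mul_assoc] using h'
  refine hU.sigmaCore_ne_bot T.isCoatom (le_bot_iff.1 ((le_inf le_rfl ?_).trans (T.fix_k hU).le))
  rw [← zpowers_eq_of_prime_card hK'p hk hk1, centralizer_zpowers_eq]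
  intro z hz
  refine Subgroup.mem_centralizer_singleton_iff.2 ?_
  have h1 : m * z * m⁻¹ ∈ Cfsg.sigmaCore H := conj_mem_sigmaCore hmH hz
  have h2 := hw'C _ h1
  calc z * (m⁻¹ * w' * m) = m⁻¹ * ((m * z * m⁻¹) * w') * m := by group
    _ = m⁻¹ * (w' * (m * z * m⁻¹)) * m := by rw [h2]
    _ = _ := by group

end Upstream

end Cfsg.Agent.OddOrder14
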