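import Cfsg.Agent.Lib.OddOrder14.SigBundle

/-!
# Bender-Glauberman 14.7, second part: the counting argument

* `KData.u_ne_bot_facts`: if `U ≠ 1` then `M_σ` is nilpotent, `C_{M_σ}(U) = 1` and `|K|` is prime
* `KData.hat_not_mem_tilde`
* `KData.exists_fam_u_ne_bot`, `KData.partner_eq`, `KData.isCyclic_k`, `KData.kappa_eq_tau1`
-/

set_option autoImplicit false
set_option linter.unusedSectionVars false

open scoped Pointwise

universe u

namespace Cfsg.Agent.OddOrder14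

open Cfsg.Agent.Solvable

variable {G : Type u} [Group G] [Finite G]

theorem prime_k_eq_of_le {A B : Subgroup G} (hB : (Nat.card B).Prime) (hAB : A ≤ B) (hA : A ≠ ⊥) :
    A = B := by
  refine Subgroup.eq_of_le_of_card_ge hAB ?_
  rcases (Nat.dvd_prime hB).1 (Subgroup.card_dvd_of_le hAB) with h | h
  · exact absurd (Subgroup.card_eq_one.1 h) hA
  · exact h.ge

namespace KData

variable {M K E U : Subgroup G} (D : KData M K E U)
include D

theorem card_compl : Nat.card E = Nat.card U * Nat.card K := by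
  rw [← D.sup_eq, Coprime.card_sup_of_coprime D.k_normalizes_u D.coprime_k_u.symm]

theorem u_ne_bot_facts (hU : Upstream G) (hU1 : U ≠ ⊥) :
    Group.IsNilpotent (Cfsg.sigmaCore M) ∧
      Cfsg.sigmaCore M ⊓ Subgroup.centralizer (U : Set G) = ⊥ ∧ (Nat.card K).Prime := by
  obtain ⟨q, hq, hqU⟩ := Nat.exists_prime_and_dvd (mt Subgroup.card_eq_one.1 hU1)
  have := Fact.mk hq
  have hqn := D.u_hall.2.1 q hq hqU
  have hqM : q ∣ Nat.card M := hqU.trans (Subgroup.card_dvd_of_le D.u_hall.1)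
  obtain ⟨S₀⟩ : Nonempty (Sylow q U) := inferInstance
  have hT : (S₀ : Subgroup U).map U.subtype ≤ M := (Subgroup.map_subtype_le _).trans D.u_hall.1
  set T := (S₀ : Subgroup U).map U.subtype with hTdef
  have hidx : ¬ q ∣ (T.subgroupOf M).index := by
    show ¬ q ∣ T.relIndex M
    rw [← Subgroup.relIndex_mul_relIndex T U M (Subgroup.map_subtype_le _) D.u_hall.1]
    refine hq.not_dvd_mul ?_ (D.u_hall.2.2 q hq hqn)
    rw [hTdef, Subgroup.relIndex, Subgroup.subgroupOf,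
      Subgroup.comap_map_eq_self_of_injective U.subtype_injective]
    exact S₀.not_dvd_index
  let S : Sylow q M := (IsPGroup.comap_of_injective (S₀.isPGroup'.map U.subtype) M.subtype
    M.subtype_injective).toSylow hidx
  have hS : (S : Subgroup M).map M.subtype = T := Subgroup.map_subgroupOf_eq_of_le hT
  obtain ⟨-, hC, hnil⟩ := hU.s1429 M D.isCoatom
    (fun h => hqn (Or.inl (h q hq hqM fun hσ => hqn (Or.inr hσ)))) q hqM
    (fun h => hqn (Set.union_comm _ _ ▸ h)) S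
  have hCU : Cfsg.sigmaCore M ⊓ Subgroup.centralizer (U : Set G) = ⊥ := by
    refine le_bot_iff.1 (le_trans (inf_le_inf_left _ (Subgroup.centralizer_le ?_)) hC.le)
    refine (Subgroup.closure_le U).2 fun x hx => ?_
    exact Subgroup.map_subtype_le _ ((le_of_eq hS) hx.1)
  refine ⟨hnil, hCU, ?_⟩
  have := hU.solvable D.isCoatom
  refine (hU.s1446 U K (Cfsg.sigmaCore M) hU1 D.ne_bot (Coprime.inf_eq_bot D.coprime_k_u.symm)
    D.k_normalizes_u D.u_free ?_ (hU.odd_card _) (hU.sigmaCore_ne_bot D.isCoatom) hnil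
    D.u_normalizes_sigmaCore D.k_normalizes_sigmaCore ?_ hCU ?_).1
  · exact isSolvable_of_le (D.sup_eq.le.trans D.compl.1)
  · rw [Coprime.card_sup_of_coprime D.k_normalizes_u D.coprime_k_u.symm]
    exact Nat.Coprime.mul_left D.coprime_u_sigmaCore D.coprime_k_sigmaCore
  · exact fun x hx hx1 => D.prime_action x hx hx1

/-- No element of `Z^` lies in a set `tilde(N_σ^#)`. -/
theorem hat_not_mem_tilde (hU : Upstream G) {N : Subgroup G} (hN : IsCoatom N) {z : G}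
    (hz : z ∈ hat M K) : z ∉ OddMax.tildeSigma N := by
  obtain ⟨k, hk, h, hh, hk1, hh1, rfl⟩ := D.mem_hat_iff.1 hz
  intro ht
  obtain ⟨g, x, r, hx, hx1, hr, he⟩ := OddMax.exists_of_mem_tilde hU.hG hU.sigFacts hN ht
  set N' := MulAut.conj g • N with hN'def
  have hN' : IsCoatom N' := OddSigma.isCoatom_conj hN g
  have hxσ := orderOf_mem_sigmaCore hx
  have hkσ : IsPiNum (Cfsg.sigma M)ᶜ (orderOf k) := fun p hp hd hσ =>
    (D.hall.2.1 p hp (dvd_card_of_mem hk hd)).2.2.1 hσ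
  have hhσ := orderOf_mem_sigmaCore hh.1
  have cxr : Commute x r :=
    (Subgroup.mem_centralizer_singleton_iff.1 (OddMax.supportR_le_centralizer N' x hr)).symm
  have hxg : x ∈ Subgroup.zpowers (k * h) := he ▸ OddMax.mem_zpowers_mul hU.hG hU.sigFacts hN' hx hx1 hr
  have hrg : r ∈ Subgroup.zpowers (k * h) := by
    have : x⁻¹ * (k * h) = r := by rw [he]; group
    rw [← this]
    exact mul_mem (inv_mem hxg) (Subgroup.mem_zpowers _)
  have hkg := D.k_mem_zpowers hk hh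
  have hhg := D.h_mem_zpowers hk hh
  have hcm : ∀ {a b : G}, a ∈ Subgroup.zpowers (k * h) → b ∈ Subgroup.zpowers (k * h) →
      Commute a b := fun ha hb => commute_of_mem_zpowers ha hb
  have heq : h * x⁻¹ = k⁻¹ * r := by
    rw [eq_inv_mul_iff_mul_eq, ← mul_assoc, he, cxr.eq, mul_inv_cancel_right]
  -- `R(x) = 1` is impossible
  have hnotle : ¬ Subgroup.centralizer ({x} : Set G) ≤ N' := by
    intro hle
    rw [OddMax.supportR_eq_bot hle, Subgroup.mem_bot] at hr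
    rw [hr, mul_one] at he
    obtain ⟨p, hp, hpd, -⟩ := exists_prime_orderOf hk1
    obtain ⟨q, hq, hqd, -⟩ := exists_prime_orderOf hh1
    have hpN := hxσ p hp (hpd.trans (orderOf_dvd_of_mem_zpowers (he ▸ hkg)))
    have hqN := hxσ q hq (hqd.trans (orderOf_dvd_of_mem_zpowers (he ▸ hhg)))
    rw [hU.sigma_eq_of_inter D.isCoatom hN' (hhσ q hq hqd) hqN] at hpN
    exact hkσ p hp hpd hpN
  have hr1 : r ≠ 1 := by
    rintro rfl
    rw [mul_one] at he
    obtain ⟨p, hp, hpd, -⟩ := exists_prime_orderOf hk1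
    obtain ⟨q, hq, hqd, -⟩ := exists_prime_orderOf hh1
    have hpN := hxσ p hp (hpd.trans (orderOf_dvd_of_mem_zpowers (he ▸ hkg)))
    have hqN := hxσ q hq (hqd.trans (orderOf_dvd_of_mem_zpowers (he ▸ hhg)))
    rw [hU.sigma_eq_of_inter D.isCoatom hN' (hhσ q hq hqd) hqN] at hpN
    exact hkσ p hp hpd hpN
  obtain ⟨-, N₁, hN₁, hrN, hd₁⟩ := hU.supportR_facts hN' hx hx1 hr hr1
  have hrσ := orderOf_mem_sigmaCore hrN
  by_cases hMN : Cfsg.sigma N' = Cfsg.sigma M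
  · have hxh : x = h := by
      refine (mul_inv_eq_one.1 (eq_one_of_isPiNum (π := Cfsg.sigma M) ?_ ?_)).symm
      · exact isPiNum_pi_mul (hcm hhg (inv_mem hxg)) hhσ (by rw [orderOf_inv, ← hMN]; exact hxσ)
      · rw [heq]
        refine isPiNum_pi_mul (hcm (inv_mem hkg) hrg) (by rwa [orderOf_inv]) ?_
        exact fun p hp hd hσ => hd₁ p (hMN.symm ▸ hσ) (hrσ p hp hd)
    obtain ⟨q, hq, hqd, -⟩ := exists_prime_orderOf hh1
    obtain ⟨a, ha⟩ := hU.conj_of_sigma D.isCoatom hN' (hhσ q hq hqd) (hMN.symm ▸ hhσ q hq hqd)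
    have haM : a ∈ M := by
      by_contra haM
      refine hh1 (Subgroup.mem_bot.1 (D.kstar_inf_conj hU haM ▸ Subgroup.mem_inf.2 ⟨hh, ?_⟩))
      rw [← ha, ← hxh]
      exact sigmaCore_le _ hx
    refine hnotle ?_
    rw [ha, conj_eq_self haM, hxh]
    exact D.centralizer_kstar_le hU hh hh1
  · have hdis : ∀ p, p ∈ Cfsg.sigma M → p ∉ Cfsg.sigma N' := fun p hp hp' =>
      hMN (hU.sigma_eq_of_inter D.isCoatom hN' hp hp')
    obtain ⟨q, hq, hqd, -⟩ := exists_prime_orderOf hh1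
    have hq1 : q ∈ Cfsg.sigma N₁ := by
      have h' : q ∣ orderOf (x * r) := he ▸ hqd.trans (orderOf_dvd_of_mem_zpowers hhg)
      rcases hq.dvd_mul.1 (h'.trans cxr.orderOf_mul_dvd_mul_orderOf) with h'' | h''
      · exact absurd (hxσ q hq h'') (hdis q (hhσ q hq hqd))
      · exact hrσ q hq h''
    have heq₁ : Cfsg.sigma N₁ = Cfsg.sigma M :=
      hU.sigma_eq_of_inter D.isCoatom hN₁.coatom (hhσ q hq hqd) hq1
    have hkx : k = x := by
      have h2 : k * x⁻¹ = h⁻¹ * r := by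
        rw [eq_inv_mul_iff_mul_eq, ← mul_assoc, (hcm hhg hkg).eq, he, cxr.eq,
          mul_inv_cancel_right]
      refine mul_inv_eq_one.1 (eq_one_of_isPiNum (π := Cfsg.sigma M) ?_ ?_)
      · rw [h2]
        exact isPiNum_pi_mul (hcm (inv_mem hhg) hrg) (by rwa [orderOf_inv]) (heq₁ ▸ hrσ)
      · exact isPiNum_pi_mul (hcm hkg (inv_mem hxg)) hkσ
          (by rw [orderOf_inv]; exact fun p hp hd hσ => hdis p hσ (hxσ p hp hd))
    obtain ⟨p, hp, hpd, y, hy, hyp⟩ := exists_prime_orderOf hk1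
    have hXK : Subgroup.zpowers y ≤ K := Subgroup.zpowers_le.2 (Subgroup.zpowers_le.2 hk hy)
    have hXp : (Nat.card (Subgroup.zpowers y)).Prime := by rw [card_zpowers' hyp]; exact hp
    obtain ⟨L, hL, hNX⟩ := OddSigma.exists_coatom (OddSigma.normalizer_ne_top hU.hG
      (H := Subgroup.zpowers y) (zpowers_ne_bot hp hyp)
      fun h' => D.isCoatom.1 (top_le_iff.1 (h' ▸ hXK.trans D.hall.1)))
    obtain ⟨K₂, E₂, U₂, D₂, -, -, -, hZ⟩ := D.partner hU hXK hXp hL hNX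
    have hpL : p ∈ Cfsg.sigma L := by
      have := (D.le_partner_sigmaCore hU hXK hXp hL hNX).1
      rwa [card_zpowers' hyp] at this
    have hpN' : p ∈ Cfsg.sigma N' := hxσ p hp (hkx ▸ hpd)
    have hk₂ : k ∈ kStar L K₂ := D₂.mem_kstar_of_sigma (hZ.symm ▸ Subgroup.mem_sup_left hk)
      (hU.sigma_eq_of_inter hL hN' hpL hpN' ▸ hkx.symm ▸ hxσ)
    obtain ⟨a, ha⟩ := hU.conj_of_sigma hL hN' hpL hpN'
    have haL : a ∈ L := by
      by_contra haL
      refine hk1 (Subgroup.mem_bot.1 (D₂.kstar_inf_conj hU haL ▸ Subgroup.mem_inf.2 ⟨hk₂, ?_⟩))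
      rw [← ha, hkx]
      exact sigmaCore_le _ hx
    refine hnotle ?_
    rw [ha, conj_eq_self haL, ← hkx]
    exact D₂.centralizer_kstar_le hU hk₂ hk1

theorem three_mul_kstar_le (hU : Upstream G) :
    3 * Nat.card (kStar M K) ≤ Nat.card (Cfsg.sigmaCore M) := by
  have hd := card_mul_relIndex (inf_le_left : kStar M K ≤ Cfsg.sigmaCore M)
  set i := (kStar M K).relIndex (Cfsg.sigmaCore M) with hi
  have hodd : Odd i := (hU.odd_card (Cfsg.sigmaCore M)).of_dvd_nat (hd ▸ dvd_mul_left _ _)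
  have h1 : i ≠ 1 := by
    intro h1
    have hle : Cfsg.sigmaCore M ≤ kStar M K := Subgroup.relIndex_eq_one.1 h1
    obtain ⟨h, hh, hh1⟩ := (kStar M K).bot_or_exists_ne_one.resolve_left (D.kstar_ne_bot hU)
    obtain ⟨q, hq, hqd, -⟩ := exists_prime_orderOf hh1
    have := Fact.mk hq
    obtain ⟨S⟩ : Nonempty (Sylow q ↥(Cfsg.sigmaCore M)) := inferInstance
    exact (D.sylow_sigmaCore hU hq (dvd_card_of_mem hh hqd) S).2.2
      ((Subgroup.map_subtype_le _).trans hle)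
  have : 3 ≤ i := by
    obtain ⟨j, hj⟩ := hodd
    omega
  rw [← hd, mul_comm 3]
  exact Nat.mul_le_mul_left _ this

theorem index_identity (hU1 : U = ⊥) :
    M.index * Nat.card (Cfsg.sigmaCore M) * (Nat.card K * Nat.card (kStar M K)) =
      Nat.card G * Nat.card (kStar M K) := by
  rw [← Subgroup.card_mul_index M, ← OddOrder14.compl_card D.compl, D.card_compl, hU1,
    Subgroup.card_bot]
  ring

/-- Some member of the family has `U ≠ 1`. -/
theorem exists_fam_u_ne_bot (hU : Upstream G) :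
    ∃ L K₂ E₂ U₂, KData L K₂ E₂ U₂ ∧ K₂ ⊔ kStar L K₂ = K ⊔ kStar M K ∧ U₂ ≠ ⊥ := by
  classical
  by_contra hcon
  simp only [not_exists, not_and, not_not] at hcon
  have : Fintype G := Fintype.ofFinite G
  set Z := K ⊔ kStar M K with hZdef
  let F : Finset (Subgroup G) := (Set.toFinite {L | InFam Z L}).toFinset
  have hF : ∀ {L}, L ∈ F ↔ InFam Z L := by simp [F]
  let B : Subgroup G → Finset G := fun L =>
    (Finset.univ.filter (· ∈ Z ⊓ Cfsg.sigmaCore L)).erase 1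
  have hB : ∀ {L w}, w ∈ B L ↔ w ≠ 1 ∧ w ∈ Z ⊓ Cfsg.sigmaCore L := by simp [B]
  let T : Finset G := ((Finset.univ.filter (· ∈ Z)).erase 1) \ F.biUnion B
  have hT : ∀ {w}, w ∈ T ↔ (w ≠ 1 ∧ w ∈ Z) ∧ ∀ L, InFam Z L → w ∉ Cfsg.sigmaCore L := by
    intro w
    simp only [T, Finset.mem_sdiff, Finset.mem_erase, Finset.mem_filter, Finset.mem_univ, true_and,
      Finset.mem_biUnion, hF, hB, Subgroup.mem_inf, not_exists, not_and]
    exact ⟨fun ⟨a, b⟩ => ⟨a, fun L hL => b L hL a.1 a.2⟩, fun ⟨a, b⟩ => ⟨a, fun L hL _ _ => b L hL⟩⟩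
  -- each element of `T` lies in `Z^` of some member
  have hThat : ∀ w ∈ T, ∃ L K₂ E₂ U₂, KData L K₂ E₂ U₂ ∧ K₂ ⊔ kStar L K₂ = Z ∧
      w ∈ hat L K₂ := by
    intro w hw
    obtain ⟨⟨hw1, hwZ⟩, hwn⟩ := hT.1 hw
    obtain ⟨p, hp, hpd, y, hy, hyp⟩ := exists_prime_orderOf hw1
    obtain ⟨L, hL, hyL⟩ := D.exists_fam_of_prime hU (X := Subgroup.zpowers y)
      (Subgroup.zpowers_le.2 (Subgroup.zpowers_le.2 hwZ hy)) (by rw [card_zpowers' hyp]; exact hp)
    obtain ⟨K₂, E₂, U₂, D₂, hZ₂⟩ := hL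
    refine ⟨L, K₂, E₂, U₂, D₂, hZ₂, hZ₂.symm ▸ hwZ, ?_⟩
    rintro (h | h)
    · have hyK : y ∈ K₂ ⊓ Cfsg.sigmaCore L :=
        Subgroup.mem_inf.2 ⟨Subgroup.zpowers_le.2 h hy, hyL (Subgroup.mem_zpowers y)⟩
      rw [Coprime.inf_eq_bot D₂.coprime_k_sigmaCore, Subgroup.mem_bot] at hyK
      exact ne_one_of_orderOf hp hyp hyK
    · exact hwn L ⟨K₂, E₂, U₂, D₂, hZ₂⟩ h.1
  have hZinv : ∀ g ∈ Z, ∀ w ∈ (T : Set G), g * w * g⁻¹ ∈ (T : Set G) := by
    intro g hg w hw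
    obtain ⟨⟨hw1, hwZ⟩, hwn⟩ := hT.1 hw
    refine hT.2 ⟨⟨mt conj_eq_one_iff.1 hw1, mul_mem (mul_mem hg hwZ) (inv_mem hg)⟩,
      fun L hL h => hwn L hL ?_⟩
    obtain ⟨K₂, E₂, U₂, D₂, hZ₂⟩ := hL
    have hgL : g ∈ L := D₂.z_le (hZ₂.symm ▸ hg)
    have := conj_mem_sigmaCore (inv_mem hgL) h
    simpa [mul_assoc] using this
  have hTI : ∀ w ∈ (T : Set G), ∀ g : G, g * w * g⁻¹ ∈ (T : Set G) → g ∈ Z := by
    intro w hw g hg
    obtain ⟨L, K₂, E₂, U₂, D₂, hZ₂, hwh⟩ := hThat w hw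
    exact hZ₂ ▸ D₂.hat_conj hU hwh (hZ₂.symm ▸ (hT.1 hg).1.2)
  set C : Set G := conjugatesOfSet (T : Set G) with hCdef
  have hCcard := ncard_conjugatesOf hZinv hTI
  rw [Set.ncard_coe_finset] at hCcard
  -- the partition of `Z`
  have hBdisj : ∀ L ∈ F, ∀ L' ∈ F, L ≠ L' → Disjoint (B L) (B L') := by
    intro L hL L' hL' hne
    rw [Finset.disjoint_left]
    intro w hw hw'
    obtain ⟨hw1, hwL⟩ := hB.1 hw
    obtain ⟨q, hq, hqd, -⟩ := exists_prime_orderOf hw1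
    exact hne ((hF.1 hL).eq_of_sigma hU (hF.1 hL') (orderOf_mem_sigmaCore hwL.2 q hq hqd)
      (orderOf_mem_sigmaCore (hB.1 hw').2.2 q hq hqd)).symm
  have hBcard : ∀ L ∈ F, (B L).card + 1 = Nat.card ↥(Z ⊓ Cfsg.sigmaCore L) := by
    intro L _
    rw [Finset.card_erase_add_one (by simp), Nat.card_eq_fintype_card, Fintype.card_subtype]
  have hTcard : T.card + (∑ L ∈ F, (B L).card) + 1 = Nat.card Z := by
    have hsub : F.biUnion B ⊆ (Finset.univ.filter (· ∈ Z)).erase 1 := by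
      intro w hw
      obtain ⟨L, -, hwL⟩ := Finset.mem_biUnion.1 hw
      exact Finset.mem_erase.2 ⟨(hB.1 hwL).1, Finset.mem_filter.2 ⟨Finset.mem_univ _, (hB.1 hwL).2.1⟩⟩
    rw [← Finset.card_biUnion hBdisj, Finset.card_sdiff_add_card_eq_card hsub,
      Finset.card_erase_add_one (by simp), Nat.card_eq_fintype_card, Fintype.card_subtype]
  -- the sets inside `G ∖ {1}`
  let Tl : Subgroup G → Finset G := fun L => Finset.univ.filter (· ∈ OddMax.tildeSigma L)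
  let Cf : Finset G := Finset.univ.filter (· ∈ C)
  have hone : ∀ L ∈ F, (1 : G) ∉ Tl L := by
    intro L hL h1
    obtain ⟨K₂, E₂, U₂, D₂, -⟩ := hF.1 hL
    obtain ⟨g, x, r, hx, hx1, hr, he⟩ :=
      OddMax.exists_of_mem_tilde hU.hG hU.sigFacts D₂.isCoatom (Finset.mem_filter.1 h1).2
    have := OddMax.mem_zpowers_mul hU.hG hU.sigFacts (OddSigma.isCoatom_conj D₂.isCoatom g) hx hx1 hr
    rw [← he, Subgroup.zpowers_one_eq_bot, Subgroup.mem_bot] at this
    exact hx1 this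
  have hbound : Cf.card + (∑ L ∈ F, (Tl L).card) + 1 ≤ Nat.card G := by
    have hd1 : ∀ L ∈ F, ∀ L' ∈ F, L ≠ L' → Disjoint (Tl L) (Tl L') := by
      intro L hL L' hL' hne
      obtain ⟨K₂, E₂, U₂, D₂, hZ₂⟩ := hF.1 hL
      obtain ⟨K₃, E₃, U₃, D₃, hZ₃⟩ := hF.1 hL'
      have h := OddMax.tilde_disjoint hU.hG hU.countFacts D₂.isCoatom D₃.isCoatom fun g hg => by
        obtain ⟨y, hy, hy1⟩ := (kStar L K₂).bot_or_exists_ne_one.resolve_left (D₂.kstar_ne_bot hU)
        obtain ⟨q, hq, hqd, -⟩ := exists_prime_orderOf hy1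
        have hqσ := orderOf_mem_sigmaCore hy.1 q hq hqd
        refine hne ((hF.1 hL).eq_of_sigma hU (hF.1 hL') hqσ ?_).symm
        rw [hg, map_conj_eq, sigma_conj]
        exact hqσ
      rw [Finset.disjoint_left]
      intro w hw hw'
      exact Set.eq_empty_iff_forall_notMem.1 h w
        ⟨(Finset.mem_filter.1 hw).2, (Finset.mem_filter.1 hw').2⟩
    have hd2 : Disjoint Cf (F.biUnion Tl) := by
      rw [Finset.disjoint_left]
      intro w hw hw'
      obtain ⟨L, hL, hwL⟩ := Finset.mem_biUnion.1 hw'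
      obtain ⟨g, v, hv, rfl⟩ := (Finset.mem_filter.1 hw).2
      obtain ⟨L', K₂, E₂, U₂, D₂, -, hvh⟩ := hThat v hv
      obtain ⟨K₃, E₃, U₃, D₃, -⟩ := hF.1 hL
      exact D₂.hat_not_mem_tilde hU D₃.isCoatom hvh
        ((OddMax.tilde_conj_iff g).1 (Finset.mem_filter.1 hwL).2)
    have h1 : (1 : G) ∉ Cf ∪ F.biUnion Tl := by
      simp only [Finset.mem_union, Finset.mem_biUnion, not_or, not_exists, not_and]
      refine ⟨fun h => ?_, hone⟩
      obtain ⟨g, v, hv, he⟩ := (Finset.mem_filter.1 h).2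
      exact (hT.1 hv).1.1 (conj_eq_one_iff.1 he.symm)
    rw [← Finset.card_biUnion hd1, ← Finset.card_union_of_disjoint hd2,
      ← Finset.card_insert_of_notMem h1, Nat.card_eq_fintype_card]
    exact Finset.card_le_univ _
  have hCf : Cf.card = Set.ncard C := by
    rw [Set.ncard_eq_toFinset_card']
    congr 1
    ext w
    simp [Cf]
  -- per member
  have hmem : ∀ L ∈ F, 3 * (Nat.card G * ((B L).card + 1)) ≤
      3 * (Nat.card Z * (Tl L).card) + Nat.card G := by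
    intro L hL
    obtain ⟨K₂, E₂, U₂, D₂, hZ₂⟩ := hF.1 hL
    have hz : Nat.card ↥(Z ⊓ Cfsg.sigmaCore L) = Nat.card (kStar L K₂) := by
      rw [(hF.1 hL).inf_sigmaCore D₂ hZ₂]
    have hid := D₂.index_identity (hcon L K₂ E₂ U₂ D₂ hZ₂)
    have h3 := D₂.three_mul_kstar_le hU
    have hTl : (Tl L).card = (Nat.card (Cfsg.sigmaCore L) - 1) * L.index := by
      rw [← OddMax.ncard_tilde hU.hG hU.countFacts D₂.isCoatom, Set.ncard_eq_toFinset_card']
      congr 1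
      ext w
      simp [Tl]
    have hzc : Nat.card Z = Nat.card K₂ * Nat.card (kStar L K₂) := by rw [← hZ₂, D₂.card_z]
    rw [hBcard L hL, hz, hTl, hzc]
    set i := L.index with hi
    set c := Nat.card (kStar L K₂) with hc
    set z := Nat.card K₂ * c with hz'
    obtain ⟨h', hh'⟩ : ∃ h', Nat.card (Cfsg.sigmaCore L) = h' + 1 :=
      ⟨Nat.card (Cfsg.sigmaCore L) - 1, by have := Nat.card_pos (α := Cfsg.sigmaCore L); omega⟩
    rw [hh'] at hid h3 ⊢
    have h4 : 3 * (i * z) * (h' + 1) ≤ Nat.card G * (h' + 1) := by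
      calc 3 * (i * z) * (h' + 1) = 3 * (Nat.card G * c) := by rw [← hid]; ring
        _ = Nat.card G * (3 * c) := by ring
        _ ≤ _ := Nat.mul_le_mul_left _ h3
    have h5 := Nat.le_of_mul_le_mul_right h4 (Nat.succ_pos h')
    rw [Nat.add_sub_cancel]
    calc 3 * (Nat.card G * c) = 3 * (z * (h' * i)) + 3 * (i * z) := by rw [← hid]; ring
      _ ≤ _ := Nat.add_le_add_left h5 _
  -- two members
  have hn : 2 ≤ F.card := by
    obtain ⟨p, hp, X, hX, hXc⟩ := D.exists_prime_subgroup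
    have hXp : (Nat.card X).Prime := hXc ▸ hp.1
    obtain ⟨L, hL, hNX⟩ := OddSigma.exists_coatom (OddSigma.normalizer_ne_top hU.hG (H := X)
      (fun h => hXp.ne_one (by rw [h, Subgroup.card_bot]))
      fun h => D.isCoatom.1 (top_le_iff.1 (h ▸ hX.trans D.hall.1)))
    obtain ⟨K₂, E₂, U₂, D₂, -, -, -, hZ₂⟩ := D.partner hU hX hXp hL hNX
    have hne : M ≠ L := fun h => hp.2.2.1 (by
      have := (D.le_partner_sigmaCore hU hX hXp hL hNX).1
      rwa [← h, hXc] at this)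
    rw [← Finset.card_pair hne]
    refine Finset.card_le_card (Finset.insert_subset (hF.2 D.inFam)
      (Finset.singleton_subset_iff.2 (hF.2 ⟨K₂, E₂, U₂, D₂, hZ₂⟩)))
  -- the contradiction
  have hsum := Finset.sum_le_sum hmem
  simp only [Finset.sum_add_distrib, ← Finset.mul_sum, Finset.sum_const, smul_eq_mul] at hsum
  have hZpos : 0 < Nat.card Z := Nat.card_pos
  have hGpos : 0 < Nat.card G := Nat.card_pos
  have hCcard' : Nat.card Z * Cf.card = T.card * Nat.card G := by rw [hCf]; exact hCcard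
  nlinarith [Nat.mul_le_mul_left (Nat.card Z) hbound]

/-- **BG 14.7**: the partner pair. -/
theorem partner_eq (hU : Upstream G) {X : Subgroup G} (hX : X ≤ K) (hXp : (Nat.card X).Prime)
    {L : Subgroup G} (hL : IsCoatom L) (hNX : Subgroup.normalizer (X : Set G) ≤ L) :
    ∃ E₂ U₂, KData L (kStar M K) E₂ U₂ ∧ kStar L (kStar M K) = K ∧
      ((U ≠ ⊥ ∧ (Nat.card K).Prime) ∨ (U₂ ≠ ⊥ ∧ (Nat.card (kStar M K)).Prime)) := by
  obtain ⟨K₂, E₂, U₂, D₂, hle, hle₂, hX₂, hZ⟩ := D.partner hU hX hXp hL hNX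
  have hcard : Nat.card K₂ * Nat.card (kStar L K₂) = Nat.card K * Nat.card (kStar M K) := by
    rw [← D₂.card_z, ← D.card_z, hZ]
  have hfin : Nat.card K₂ = Nat.card (kStar M K) →
      kStar M K = K₂ ∧ kStar L K₂ = K := by
    intro h
    refine ⟨Subgroup.eq_of_le_of_card_ge hle h.le, Subgroup.eq_of_le_of_card_ge hle₂ (le_of_eq ?_)⟩
    rw [h, mul_comm (Nat.card K)] at hcard
    exact (Nat.eq_of_mul_eq_mul_left Nat.card_pos hcard).symm
  have hkey : U ≠ ⊥ ∨ U₂ ≠ ⊥ := by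
    by_contra hc
    rw [not_or, not_not, not_not] at hc
    obtain ⟨L₀, K₀, E₀, U₀, D₀, hZ₀, hU₀⟩ := D.exists_fam_u_ne_bot hU
    have hp₀ := (D₀.u_ne_bot_facts hU hU₀).2.2
    -- the partner of `L₀`
    obtain ⟨L₁, hL₁, hN₁⟩ := OddSigma.exists_coatom (OddSigma.normalizer_ne_top hU.hG (H := K₀)
      D₀.ne_bot fun h => D₀.isCoatom.1 (top_le_iff.1 (h ▸ D₀.hall.1)))
    obtain ⟨K₁, E₁, U₁, D₁, hle₁, hle₁', -, hZ₁⟩ := D₀.partner hU le_rfl hp₀ hL₁ hN₁
    have hK₁ : kStar L₁ K₁ = K₀ := prime_k_eq_of_le hp₀ hle₁' (D₁.kstar_ne_bot hU)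
    -- every member of the family is `L₀` or `L₁`
    have honly : ∀ {N K' E' U'}, KData N K' E' U' → K' ⊔ kStar N K' = K ⊔ kStar M K →
        (N = L₀ ∨ N = L₁) := by
      intro N K' E' U' D' hZ'
      obtain ⟨Y, hY, hYp⟩ := D'.exists_prime_kstar hU
      obtain ⟨y, hy, hy1⟩ := exists_ne_one_of_card_prime hYp
      have hyZ : y ∈ K₀ ⊔ kStar L₀ K₀ := hZ₀.symm ▸ hZ' ▸ Subgroup.mem_sup_right (hY hy)
      obtain ⟨q, hq, hqd, -⟩ := exists_prime_orderOf hy1
      have hqN := orderOf_mem_sigmaCore (hY hy).1 q hq hqd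
      obtain ⟨k, hk, h, hh, hkh⟩ := D₀.z_decomp hyZ
      rw [hkh] at hqd
      rcases hq.dvd_mul.1 (hqd.trans (D₀.commute_k_kstar hk hh).orderOf_mul_dvd_mul_orderOf)
        with h' | h'
      · refine Or.inr (InFam.eq_of_sigma hU ⟨K₁, E₁, U₁, D₁, hZ₁.trans hZ₀⟩ ⟨K', E', U', D', hZ'⟩
          ?_ hqN)
        exact orderOf_mem_sigmaCore (hK₁.symm ▸ hk : k ∈ kStar L₁ K₁).1 q hq h'
      · exact Or.inl (InFam.eq_of_sigma hU ⟨K₀, E₀, U₀, D₀, hZ₀⟩ ⟨K', E', U', D', hZ'⟩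
          (orderOf_mem_sigmaCore hh.1 q hq h') hqN)
    -- equal members have equal data
    have hsame : ∀ {N K' E' U'}, KData N K' E' U' → K' ⊔ kStar N K' = K ⊔ kStar M K →
        N = L₀ → U' ≠ ⊥ := by
      intro N K' E' U' D' hZ' hN hbot
      subst hN
      refine hU₀ (Subgroup.eq_bot_of_card_eq _ ?_)
      rw [← hallOf_card_eq (hU.solvable D₀.isCoatom) D'.u_hall D₀.u_hall, hbot, Subgroup.card_bot]
    have hM1 : M = L₁ := (honly D rfl).resolve_left fun h => hsame D rfl h hc.1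
    have hL1 : L = L₁ := (honly D₂ hZ).resolve_left fun h => hsame D₂ hZ h hc.2
    have := (D.le_partner_sigmaCore hU hX hXp hL hNX).1
    rw [hL1, ← hM1] at this
    exact (D.hall.2.1 _ hXp (Subgroup.card_dvd_of_le hX)).2.2.1 this
  rcases hkey with h | h
  · have hp := (D.u_ne_bot_facts hU h).2.2
    have hK : kStar L K₂ = K := prime_k_eq_of_le hp hle₂ (D₂.kstar_ne_bot hU)
    obtain ⟨he, he'⟩ := hfin (by
      rw [hK, mul_comm (Nat.card K) (Nat.card (kStar M K))] at hcard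
      exact Nat.eq_of_mul_eq_mul_right Nat.card_pos hcard)
    subst he
    exact ⟨E₂, U₂, D₂, he', Or.inl ⟨h, hp⟩⟩
  · have hp := (D₂.u_ne_bot_facts hU h).2.2
    have he : kStar M K = K₂ := prime_k_eq_of_le hp hle (D.kstar_ne_bot hU)
    obtain ⟨-, he'⟩ := hfin (by rw [he])
    subst he
    exact ⟨E₂, U₂, D₂, he', Or.inr ⟨h, hp⟩⟩

end KData

end Cfsg.Agent.OddOrder14
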